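import Cfsg.Agent.Lib.Techniques.CharTransfer.SectionFixed
import Cfsg.Agent.Lib.LocalEven.RankOne.CentrallyLargeFinal
import Cfsg.Agent.Lib.PGroup.Counting
import Cfsg.Agent.Lib.LocalEven.CharP

/-!
Members whose Sylow subgroup has all minimal centrally large subgroups abelian: the elements of order prime to `p`
fix what a complement of the kernel fixes.
-/

set_option autoImplicit false

namespace CfsgLib.Techniques.CharTransfer

open Subgroup Cfsg
open scoped commutatorElement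
open CfsgLib.LocalEven.RankOne (Hyp zS vS czOf fixS zS_le_vS)
open CfsgLib.PStab (maxAdm zjGen adm_comm)
open CfsgLib.Fusion (conjSub conjSub_mono)

section Layer

variable {Γ : Type*} [Group Γ] [Finite Γ] {p : ℕ} [hp : Fact p.Prime]

/-- One layer. -/
theorem layer_fixed (hp2 : p ≠ 2) {N U R D A P : Subgroup Γ} [N.Normal] [U.Normal] [R.Normal]
    (hNp : IsPGroup p N) (hco : (Nat.card D).Coprime p) (hND : (N ⊔ D).Normal)
    (hUN : U ≤ N) (hUU : ⁅U, U⁆ ≤ R) (hNU : ⁅N, U⁆ ≤ R) (hAp : IsPGroup p A) {u w : Γ} (hu : u ∈ A)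
    (hw2 : w * w ∈ N ⊔ D) (huw : u * w * (u * w) * (u * w) ∈ N ⊔ D) (hgen : A ⊔ conjSub w A ⊔ N = ⊤)
    (hPA : ∀ a ∈ A, ∀ x ∈ U ⊓ P, ⁅a, x⁆ ∈ R)
    (hdisj : ∀ a ∈ U ⊓ P, ∀ b ∈ U ⊓ conjSub w P, a * b ∈ R → a ∈ R)
    (hcov : ∀ x ∈ U, ∃ a ∈ U ⊓ P, ∃ b ∈ U ⊓ conjSub w P, x = a * b) :
    ∀ x ∈ U, (∀ d ∈ D, d * x = x * d) → x ∈ R := by
  set π := QuotientGroup.mk' R with hπ
  have hπs : Function.Surjective π := QuotientGroup.mk'_surjective R
  have hmk : ∀ {y}, π y = 1 ↔ y ∈ R := QuotientGroup.eq_one_iff _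
  set F := U.map π with hF
  haveI : F.Normal := (inferInstance : U.Normal).map _ hπs
  have hcomm : ∀ {a b}, ⁅a, b⁆ ∈ R → Commute (π a) (π b) := fun {a b} h => by
    rw [commute_iff_eq, ← commutatorElement_eq_one_iff_mul_comm, ← map_commutatorElement]
    exact hmk.2 h
  have hA : ∀ a ∈ A, ∀ e ∈ U ⊓ P, Commute (π a) (π e) := fun a ha e he => hcomm (hPA a ha e he)
  have hAw : ∀ a ∈ conjSub w A, ∀ f ∈ U ⊓ conjSub w P, Commute (π a) (π f) := by
    rintro _ ⟨a, ha, rfl⟩ f ⟨hfU, f', hf', rfl⟩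
    have h1 : f' ∈ U := by
      simpa [mul_assoc] using (inferInstance : U.Normal).conj_mem _ hfU w⁻¹
    refine hcomm ?_
    rw [← map_commutatorElement]
    exact (inferInstance : R.Normal).conj_mem _ (hPA a ha f' ⟨h1, hf'⟩) w
  have hNF : ∀ c ∈ N, π c ∈ centralizer (F : Set (Γ ⧸ R)) := fun c hc => mem_centralizer_iff.2 (by
    rintro _ ⟨y, hy, rfl⟩
    exact (hcomm (hNU (commutator_mem_commutator hc hy))).symm.eq)
  have hDN : ∀ y ∈ N ⊔ D, ∀ x ∈ F, (∀ d ∈ D.map π, d * x = x * d) → π y * x = x * π y := by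
    intro y hy x hx hd
    have h1 : N ⊔ D ≤ (centralizer ({x} : Set (Γ ⧸ R))).comap π := sup_le
      (fun c hc => mem_centralizer_singleton_iff.2 (mem_centralizer_iff.1 (hNF c hc) x hx).symm)
      (fun d hd' => mem_centralizer_singleton_iff.2 (hd _ (mem_map_of_mem π hd')))
    exact mem_centralizer_singleton_iff.1 (h1 hy)
  have hmapw : conjSub (π w) (A.map π) = (conjSub w A).map π := by
    rw [conjSub, conjSub, map_map, map_map]; congr 1
  -- fixed by both
  have hboth : ∀ y ∈ U, (∀ a ∈ A, Commute (π a) (π y)) → (∀ a ∈ conjSub w A, Commute (π a) (π y)) → y ∈ R := by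
    intro y hy h1 h2
    obtain ⟨a, ha, b, hb, rfl⟩ := hcov y hy
    have hb1 : ∀ c ∈ A, Commute (π c) (π b) := fun c hc => by
      have := (hA c hc a ha).inv_right.mul_right (h1 c hc)
      rwa [map_mul, inv_mul_cancel_left] at this
    have ha2 : ∀ c ∈ conjSub w A, Commute (π c) (π a) := fun c hc => by
      have := (h2 c hc).mul_right (hAw c hc b hb).inv_right
      rwa [map_mul, mul_inv_cancel_right] at this
    have hall : ∀ e ∈ U, (∀ c ∈ A, Commute (π c) (π e)) → (∀ c ∈ conjSub w A, Commute (π c) (π e)) →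
        ∀ g, Commute (π g) (π e) := fun e he k1 k2 g => by
      have hle : A ⊔ conjSub w A ⊔ N ≤ (centralizer ({π e} : Set (Γ ⧸ R))).comap π := sup_le (sup_le
        (fun c hc => mem_centralizer_singleton_iff.2 (k1 c hc).eq)
        (fun c hc => mem_centralizer_singleton_iff.2 (k2 c hc).eq))
        (fun c hc => mem_centralizer_singleton_iff.2
          (mem_centralizer_iff.1 (hNF c hc) _ (mem_map_of_mem π he)).symm)
      exact mem_centralizer_singleton_iff.1 (hle (hgen.ge (mem_top g)))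
    have hbR : b ∈ R := by
      obtain ⟨hbU, b', hb', hbb⟩ := hb
      have hb'U : b' ∈ U := by
        rw [← hbb] at hbU
        simpa [mul_assoc] using (inferInstance : U.Normal).conj_mem _ hbU w⁻¹
      have hc := hall b (hbb ▸ hbU) hb1 (fun c hc => hAw c hc b ⟨hbU, b', hb', hbb⟩) w
      have h3 : b'⁻¹ * b ∈ R := by
        refine hmk.1 ?_
        have e : π b = π w * π b' * (π w)⁻¹ := by rw [← hbb]; simp
        have e' : π b' = π b := by
          have := hc.eq
          rw [e] at this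
          have h5 : π w * (π w * π b' * (π w)⁻¹) = π w * π b' := by rw [this]; group
          rw [e]
          exact (mul_left_cancel h5).symm
        rw [map_mul, map_inv, e', inv_mul_cancel]
      have h4 := hdisj b'⁻¹ ⟨Subgroup.inv_mem _ hb'U, Subgroup.inv_mem _ hb'⟩ b ⟨hbU, b', hb', hbb⟩ h3
      rw [← hmk, map_inv, inv_eq_one, hmk] at h4
      rw [← hbb]
      exact (inferInstance : R.Normal).conj_mem _ h4 w
    have haR : a ∈ R := by
      have hc := hall a ha.1 (fun c hc => hA c hc a ha) ha2 w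
      refine hdisj a ha (w * a⁻¹ * w⁻¹) ⟨(inferInstance : U.Normal).conj_mem _ (Subgroup.inv_mem _ ha.1) w,
        a⁻¹, Subgroup.inv_mem _ ha.2, rfl⟩ (hmk.1 ?_)
      rw [map_mul, map_mul, map_mul, map_inv, map_inv, hc.inv_right.eq, mul_inv_cancel_right, mul_inv_cancel]
    exact mul_mem haR hbR
  intro x hx hxd
  refine hmk.1 (section_fixed hp2 (F := F) (D := D.map π) (A := A.map π) (u := π u) (w := π w) ?_
    ((hNp.to_le hUN).map π) (hco.coprime_dvd_left (D.card_map_dvd π)) ?_ (hAp.map π) (mem_map_of_mem π hu)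
    (fun y hy hd => ?_) (fun y hy hd => ?_) ?_ ?_ _ (mem_map_of_mem π hx) ?_)
  · rintro _ ⟨a, ha, rfl⟩ _ ⟨b, hb, rfl⟩
    exact (hcomm (hUU (commutator_mem_commutator ha hb))).eq
  · intro g
    obtain ⟨g, rfl⟩ := hπs g
    obtain ⟨c, hc, hn⟩ := exists_mul_mem_normalizer hNp hco hND g
    exact ⟨π c, hNF c hc, by rw [← map_mul]; exact le_normalizer_map π (mem_map_of_mem π hn)⟩
  · rw [← map_mul]; exact hDN _ hw2 y hy hd
  · simp only [← map_mul]; exact hDN _ huw y hy hd
  · rintro _ ⟨y, hy, rfl⟩ h1 h2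
    rw [hmapw] at h2
    exact hmk.2 (hboth y hy (fun a ha => mem_centralizer_iff.1 h1 _ (mem_map_of_mem π ha))
      fun a ha => mem_centralizer_iff.1 h2 _ (mem_map_of_mem π ha))
  · rintro _ ⟨y, hy, rfl⟩
    obtain ⟨a, ha, b, hb, rfl⟩ := hcov y hy
    refine ⟨π a, ⟨mem_map_of_mem π ha.1, mem_centralizer_iff.2 ?_⟩, π b,
      ⟨mem_map_of_mem π hb.1, mem_centralizer_iff.2 ?_⟩, map_mul π a b⟩
    · rintro _ ⟨c, hc, rfl⟩
      exact (hA c hc a ha).eq
    · rw [hmapw]
      rintro _ ⟨c, hc, rfl⟩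
      exact (hAw c hc b hb).eq
  · rintro _ ⟨d, hd, rfl⟩
    rw [← map_mul, ← map_mul, hxd d hd]

end Layer

variable {G : Type*} [Group G] [Finite G] {p n : ℕ} [hp : Fact p.Prime]
variable {S : Sylow p G} {K : Subgroup G} [K.Normal]

omit [Finite G] in
theorem subgroupOf_conjSub {H X : Subgroup G} {g : G} (hg : g ∈ H) :
    conjSub (⟨g, hg⟩ : ↥H) (X.subgroupOf H) = (conjSub g X).subgroupOf H := by
  ext y
  rw [mem_subgroupOf, CfsgLib.Fusion.mem_conjSub, CfsgLib.Fusion.mem_conjSub, mem_subgroupOf]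
  rfl

omit [Finite G] in
theorem commutator_prod {a x y : G} : ⁅a, x * y⁆ = ⁅a, x⁆ * (x * ⁅a, y⁆ * x⁻¹) := by
  simp only [commutatorElement_def]; group

/-- In a member over a Sylow subgroup of abelian type, a supplement of the core centralises what a complement in
the kernel centralises. -/
theorem exists_fixer (hp2 : p ≠ 2) (h : Hyp n S K) (hZ : ¬ zS S ≤ center G)
    (hS : (S : Subgroup G) ≤ centralizer (zjGen 0 (S : Subgroup G) : Set G))
    (F : Type) [Field F] [Fintype F] (hF : Fintype.card F = p ^ n)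
    (he : Nonempty (G ⧸ K ≃* Matrix.ProjectiveSpecialLinearGroup (Fin 2) F))
    (hmes : ∀ R ≤ (S : Subgroup G), ∀ A ∈ maxAdm 0 (S : Subgroup G),
      Nat.card R * Nat.card (czOf R) ≤ Nat.card A * Nat.card A) :
    ∃ D G2 : Subgroup G, D ≤ K ∧ (Nat.card D).Coprime p ∧ G2 ⊔ pCore p G = ⊤ ∧
      ∀ g ∈ G2, (orderOf g).Coprime p → ∀ v ∈ pCore p G, (∀ d ∈ D, d * v = v * d) → g * v = v * g := by
  classical
  obtain ⟨e⟩ := he
  set Q := pCore p G with hQ
  set V := vS S with hV
  have hQS : Q ≤ (S : Subgroup G) := CfsgLib.Cores.pCore_le_sylow S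
  obtain ⟨A0', hA0', hA0Q'⟩ := h.exists_outside hZ hS
  obtain ⟨A, hA, hAQ, hVA⟩ := h.exists_quad fun hJ => hA0Q' ((CfsgLib.PStab.le_jGen hA0').trans hJ)
  obtain ⟨-, hAK, hP⟩ := h.key hZ hA hAQ
  set P := V ⊔ (A ⊓ K) with hPdef
  have hA0Q : A ⊓ K ≤ Q := fun x hx => h.inf_eq.le ⟨hA.1 hx.1, hx.2⟩
  have hVQ : V ≤ Q := h.vS_le.trans inf_le_left
  have hPQ : P ≤ Q := sup_le hVQ hA0Q
  have hfixA : fixS S ≤ A ⊓ K := fun x hx => ⟨CfsgLib.PStab.mem_of_commute_maxAdm (p := orderOf x) (Or.inl rfl) hA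
    (h.vS_le_S hx.1) (pow_orderOf_eq_one x) fun a ha => (mem_centralizer_iff.1 hx.2 a (hA.1 ha)).symm,
    h.pCore_le (hVQ hx.1)⟩
  -- the generating pair
  obtain ⟨u0, hu0, w0, hw0, huw0, hgen0⟩ := exists_pair S K h.pos hF e
  have hHQ : ∀ w, w0⁻¹ * w ∈ Q → A ⊔ conjSub w A ⊔ Q = ⊤ := by
    intro w hw
    haveI : (conjSub w Q).Normal := by
      rw [CfsgLib.Techniques.Functor.conjSub_normal Q w]; infer_instance
    have hSle : (S : Subgroup G) ≤ A ⊔ conjSub w A ⊔ Q := fun s hs => by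
      obtain ⟨x, hx, a, ha, rfl⟩ := h.exists_mul hZ hA hAQ hs
      exact mul_mem (mem_sup_right hx) (mem_sup_left (mem_sup_left ha))
    refine h.eq_top hSle (top_unique (hgen0.ge.trans (sup_le (sup_le (hSle.trans le_sup_left) ?_) le_sup_right)))
    rintro _ ⟨s, hs, rfl⟩
    obtain ⟨x, hx, a, ha, rfl⟩ := h.exists_mul hZ hA hAQ hs
    refine mem_sup_left ?_
    show w0 * (x * a) * w0⁻¹ ∈ _
    have e1 : w0 * (x * a) * w0⁻¹ =
        (w0 * x * w0⁻¹) * ((w * (w0⁻¹ * w)⁻¹ * w⁻¹) * (w * a * w⁻¹) * (w * (w0⁻¹ * w) * w⁻¹)) := by group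
    rw [e1]
    have hn : ∀ q ∈ Q, ∀ g : G, g * q * g⁻¹ ∈ Q := fun q hq g => (inferInstance : Q.Normal).conj_mem q hq g
    exact mul_mem (mem_sup_right (hn x hx w0)) (mul_mem (mul_mem (mem_sup_right (hn _ (inv_mem hw) w))
      (mem_sup_left (mem_sup_right ⟨a, ha, rfl⟩))) (mem_sup_right (hn _ hw w)))
  obtain ⟨w1, hw1, hmin⟩ := (Set.toFinite {w : G | w0⁻¹ * w ∈ Q}).exists_minimalFor
    (fun w : G => Nat.card ↥(A ⊔ conjSub w A)) _ ⟨w0, by simp⟩
  obtain ⟨w, hw, hwH⟩ : ∃ w, w0⁻¹ * w ∈ Q ∧ w ∈ A ⊔ conjSub w A := by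
    obtain ⟨q, hq, x, hx, hwx⟩ := CfsgLib.Solvable.exists_mul_of_mem_sup (K := Q) (A := A ⊔ conjSub w1 A)
      (by rw [normalizer_eq_top Q]; exact le_top) ((sup_comm _ _).trans (hHQ w1 hw1) |>.ge (mem_top w1))
    have hxw : w0⁻¹ * x ∈ Q := by
      rw [show w0⁻¹ * x = (w0⁻¹ * q⁻¹ * w0) * (w0⁻¹ * w1) by rw [hwx]; group]
      refine mul_mem ?_ hw1
      simpa using (inferInstance : Q.Normal).conj_mem _ (inv_mem hq) w0⁻¹
    have hle : A ⊔ conjSub x A ≤ A ⊔ conjSub w1 A := sup_le le_sup_left (by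
      rintro _ ⟨a, ha, rfl⟩
      exact mul_mem (mul_mem hx (mem_sup_left ha)) (inv_mem hx))
    refine ⟨x, hxw, ?_⟩
    rw [eq_of_le_of_card_ge hle (hmin hxw (card_le_of_le hle))]
    exact hx
  have hgen : A ⊔ conjSub w A ⊔ Q = ⊤ := hHQ w hw
  clear hmin hw1 w1
  -- the part of the centre
  set I0 := A ⊓ conjSub w A ⊓ Q with hI0
  set G1 := centralizer (I0 : Set G) with hG1
  have hAG : A ≤ G1 := fun a ha => mem_centralizer_iff.2 fun x hx => adm_comm hA.2.1 hx.1.1 ha
  have hAwG : conjSub w A ≤ G1 := by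
    rintro _ ⟨a, ha, rfl⟩
    refine mem_centralizer_iff.2 fun x hx => ?_
    obtain ⟨b, hb, rfl⟩ := hx.1.2
    rw [← map_mul, ← map_mul, adm_comm hA.2.1 hb ha]
  have hwG : w ∈ G1 := (sup_le hAG hAwG) hwH
  have hG1Q : G1 ⊔ Q = ⊤ := top_unique (hgen.ge.trans (sup_le_sup_right (sup_le hAG hAwG) _))
  have hVG1 : V ≤ G1 := fun v hv => mem_centralizer_iff.2 fun x hx => h.vS_comm hv hx.2
  -- the module
  have hcommV : ∀ a ∈ A, ∀ v ∈ V, ⁅a, v⁆ ∈ fixS S := by
    intro a ha v hv
    have hV' : ⁅a, v⁆ ∈ V := by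
      rw [commutatorElement_def]; exact mul_mem ((inferInstance : V.Normal).conj_mem v hv a) (inv_mem hv)
    have hA' : ⁅a, v⁆ ∈ A := by
      rw [show ⁅a, v⁆ = a * (v * a⁻¹ * v⁻¹) by rw [commutatorElement_def]; group]
      exact mul_mem ha ((mem_normalizer_iff.1 (hVA hv) _).1 (inv_mem ha))
    rw [← h.fix_eq hZ hA hAQ]
    exact ⟨hV', mem_centralizer_iff.2 fun b hb => adm_comm hA.2.1 hb hA'⟩
  have hVfix : V ≤ fixS S ⊔ conjSub w (fixS S) := by
    set X := fixS S ⊔ conjSub w (fixS S) with hX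
    have hXV : X ≤ V := sup_le inf_le_left ((conjSub_mono w inf_le_left).trans
      (CfsgLib.Techniques.Functor.conjSub_normal V w).le)
    have hnormA : A ≤ normalizer (X : Set G) := fun a ha => CfsgLib.Solvable.mem_normalizer_of_conj_mem fun x hx => by
      rw [show a * x * a⁻¹ = ⁅a, x⁆ * x by rw [commutatorElement_def]; group]
      exact mul_mem (mem_sup_left (hcommV a ha x (hXV hx))) hx
    have hnormAw : conjSub w A ≤ normalizer (X : Set G) := by
      rintro _ ⟨a, ha, rfl⟩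
      refine CfsgLib.Solvable.mem_normalizer_of_conj_mem fun x hx => ?_
      have hx' : w⁻¹ * x * w ∈ V := by simpa using (inferInstance : V.Normal).conj_mem x (hXV hx) w⁻¹
      rw [show (MulAut.conj w).toMonoidHom a * x * ((MulAut.conj w).toMonoidHom a)⁻¹ =
        (MulAut.conj w).toMonoidHom ⁅a, w⁻¹ * x * w⁆ * x by
          simp [commutatorElement_def]; group]
      exact mul_mem (mem_sup_right ⟨_, hcommV a ha _ hx', rfl⟩) hx
    have hnormQ : Q ≤ normalizer (X : Set G) := fun q hq => CfsgLib.Solvable.mem_normalizer_of_conj_mem fun x hx => by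
      rw [h.vS_comm (hXV hx) hq, mul_inv_cancel_right]
      exact hx
    haveI : X.Normal := normalizer_eq_top_iff.1 (top_unique (hgen.ge.trans (sup_le (sup_le hnormA hnormAw) hnormQ)))
    refine normalClosure_le_normal fun x hx => mem_sup_left ⟨zS_le_vS S hx, ?_⟩
    exact hx.2
  -- intersection of the two replacements
  have hPw : conjSub w P = V ⊔ conjSub w (A ⊓ K) := by
    rw [hPdef, CfsgLib.Techniques.Functor.conjSub_sup, CfsgLib.Techniques.Functor.conjSub_normal V w]
  have hinter : P ⊓ conjSub w P ≤ I0 ⊔ V := by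
    rw [hPw]
    rintro x ⟨hx1, hx2⟩
    obtain ⟨v, hv, a, ha, rfl⟩ := CfsgLib.Solvable.exists_mul_of_mem_sup (K := V) (A := A ⊓ K)
      (by rw [normalizer_eq_top V]; exact le_top) hx1
    obtain ⟨v', hv', a', ha', e2⟩ := CfsgLib.Solvable.exists_mul_of_mem_sup (K := V) (A := conjSub w (A ⊓ K))
      (by rw [normalizer_eq_top V]; exact le_top) hx2
    have hy : v'⁻¹ * v ∈ fixS S ⊔ conjSub w (fixS S) := hVfix (mul_mem (inv_mem hv') hv)
    obtain ⟨f, hf, f', hf', hff⟩ : ∃ f ∈ fixS S, ∃ f' ∈ conjSub w (fixS S), v'⁻¹ * v = f' * f := by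
      have hn : fixS S ≤ normalizer (conjSub w (fixS S) : Set G) := fun z hz =>
        CfsgLib.Solvable.mem_normalizer_of_conj_mem fun y hy => by
          have hyV : y ∈ V := (conjSub_mono w inf_le_left).trans (CfsgLib.Techniques.Functor.conjSub_normal V w).le hy
          rw [h.vS_comm hyV (hVQ hz.1), mul_inv_cancel_right]
          exact hy
      obtain ⟨f', hf', f, hf, e⟩ := CfsgLib.Solvable.exists_mul_of_mem_sup (A := fixS S) (K := conjSub w (fixS S))
        hn (sup_comm (fixS S) _ ▸ hy)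
      exact ⟨f, hf, f', hf', e⟩
    have hkey : f * a = f'⁻¹ * a' := by
      rw [eq_inv_mul_iff_mul_eq, ← mul_assoc, ← hff, mul_assoc, e2, inv_mul_cancel_left]
    have hfa : f * a ∈ I0 := by
      refine ⟨⟨mul_mem (hfixA hf).1 ha.1, ?_⟩, mul_mem (hVQ hf.1) (hA0Q ha)⟩
      rw [hkey]
      exact mul_mem (Subgroup.inv_mem _ (conjSub_mono w (hfixA.trans inf_le_left) hf')) (conjSub_mono w inf_le_left ha')
    rw [show v * a = (v * f⁻¹) * (f * a) by group]
    exact mul_mem (mem_sup_right (mul_mem hv (inv_mem hf.1))) (mem_sup_left hfa)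
  -- the measure
  set N := Q ⊓ G1 with hN
  have hPN : P ≤ N := le_inf hPQ (sup_le hVG1 (inf_le_left.trans hAG))
  have hPwN : conjSub w P ≤ N := by
    rw [hPw]
    refine sup_le (le_inf hVQ hVG1) (le_inf ((conjSub_mono w hA0Q).trans
      (CfsgLib.Techniques.Functor.conjSub_normal Q w).le) ((conjSub_mono w inf_le_left).trans hAwG))
  have hI0N : I0 ≤ N := le_inf inf_le_right ((inf_le_left.trans inf_le_left).trans hAG)
  have hcz : I0 ⊔ V ≤ czOf N := sup_le
    (le_inf hI0N (le_centralizer_iff.1 inf_le_right))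
    (le_inf (le_inf hVQ hVG1) fun v hv => mem_centralizer_iff.2 fun x hx => h.vS_comm hv hx.1)
  have hcard : Nat.card (conjSub w P) = Nat.card P := CfsgLib.Fusion.card_conjSub w P
  have hm := hmes N ((inf_le_left : N ≤ Q).trans hQS) P hP
  have h1 := CfsgLib.PGroup.card_mul_card_le_sup_inf P (conjSub w P)
  rw [hcard] at h1
  have hI'cz : P ⊓ conjSub w P ≤ czOf N := hinter.trans hcz
  have hsup : P ⊔ conjSub w P = N := eq_of_le_of_card_ge (sup_le hPN hPwN) (by
    refine Nat.le_of_mul_le_mul_right ((hm.trans h1).trans (Nat.mul_le_mul_left _ (card_le_of_le hI'cz))) ?_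
    exact Nat.card_pos)
  have hczle : czOf N ≤ I0 ⊔ V := by
    have h2 : P ⊓ conjSub w P = czOf N := eq_of_le_of_card_ge hI'cz (by
      refine Nat.le_of_mul_le_mul_left (?_ : Nat.card N * _ ≤ Nat.card N * _) Nat.card_pos
      exact hm.trans (h1.trans (by rw [hsup])))
    exact h2 ▸ hinter
  have hprod : ∀ x ∈ N, ∃ a ∈ P, ∃ b ∈ conjSub w P, a * b = x := fun x hx =>
    CfsgLib.PGroup.exists_mul_of_card_sup_inf_le (by
      rw [hsup, hcard]; exact (Nat.mul_le_mul_left _ (card_le_of_le hI'cz)).trans hm) (hsup.ge hx)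
  -- inside `G1`
  set N' := Q.subgroupOf G1 with hN'
  haveI : N'.Normal := (inferInstance : Q.Normal).comap _
  have hN'p : IsPGroup p N' := (CfsgLib.Cores.isPGroup_pCore p).comap_subtype
  set K1 := K.subgroupOf G1 with hK1
  haveI : K1.Normal := (inferInstance : K.Normal).comap _
  have hNK : N' ≤ K1 := Subgroup.comap_mono h.pCore_le
  obtain ⟨D0, hD0⟩ : ∃ D0 : Subgroup ↥K1, (N'.subgroupOf K1).IsComplement' D0 := by
    refine exists_right_complement'_of_coprime ?_
    obtain ⟨j, hj⟩ := IsPGroup.iff_card.1 (hN'p.comap_subtype : IsPGroup p ↥(N'.subgroupOf K1))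
    rw [show Nat.card ↥(N'.subgroupOf K1) = p ^ j from hj]
    refine Nat.Coprime.pow_left _ ((hp.out.coprime_iff_not_dvd).2 fun hd => ?_)
    have hi : ¬ p ∣ Q.relIndex K := by
      have := CfsgLib.LocalEven.ZJFusion.not_dvd_relIndex_inf (p := p) (K := ⊤) (C := K) S.2 le_top
        (by rw [relIndex_top_right]; exact S.not_dvd_index) le_top (by rw [normalizer_eq_top])
      rwa [h.inf_eq] at this
    refine hi (hd.trans ?_)
    show N'.relIndex K1 ∣ _
    rw [hN', hK1]
    show (Q.comap G1.subtype).relIndex (K.comap G1.subtype) ∣ _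
    rw [relIndex_comap, map_comap_eq, range_subtype]
    haveI : (Q.subgroupOf K).Normal := (inferInstance : Q.Normal).comap _
    rw [← relIndex_subgroupOf (inf_le_right : G1 ⊓ K ≤ K), relIndex]
    exact relIndex_dvd_index_of_normal _ _
  set D' := D0.map K1.subtype with hD'
  have hND : N' ⊔ D' = K1 := by
    have h2 := congrArg (Subgroup.map K1.subtype) hD0.sup_eq_top
    rwa [Subgroup.map_sup, subgroupOf_map_subtype, inf_eq_left.2 hNK, ← MonoidHom.range_eq_map, range_subtype] at h2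
  have hco : (Nat.card D').Coprime p := by
    rw [hD', card_map_of_injective K1.subtype_injective, ← hD0.symm.index_eq_card]
    have hi : ¬ p ∣ Q.relIndex K := by
      have := CfsgLib.LocalEven.ZJFusion.not_dvd_relIndex_inf (p := p) (K := ⊤) (C := K) S.2 le_top
        (by rw [relIndex_top_right]; exact S.not_dvd_index) le_top (by rw [normalizer_eq_top])
      rwa [h.inf_eq] at this
    refine ((hp.out.coprime_iff_not_dvd).2 fun hd => hi (hd.trans ?_)).symm
    show N'.relIndex K1 ∣ _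
    rw [hN', hK1]
    show (Q.comap G1.subtype).relIndex (K.comap G1.subtype) ∣ _
    rw [relIndex_comap, map_comap_eq, range_subtype]
    haveI : (Q.subgroupOf K).Normal := (inferInstance : Q.Normal).comap _
    rw [← relIndex_subgroupOf (inf_le_right : G1 ⊓ K ≤ K), relIndex]
    exact relIndex_dvd_index_of_normal _ _
  haveI hNDn : (N' ⊔ D').Normal := hND.symm ▸ inferInstance
  set A' := A.subgroupOf G1 with hA'
  set P' := P.subgroupOf G1 with hP'
  set w' : ↥G1 := ⟨w, hwG⟩ with hw'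
  obtain ⟨x0, hx0, a0, ha0, hua⟩ := h.exists_mul hZ hA hAQ hu0
  set u' : ↥G1 := ⟨a0, hAG ha0⟩ with hu'
  have hmod : ∀ {a b : G}, a⁻¹ * b ∈ K → (a : G ⧸ K) = b := fun hab => QuotientGroup.eq.2 hab
  have hwK : (w : G ⧸ K) = w0 := (hmod (h.pCore_le hw)).symm
  have huK : (a0 : G ⧸ K) = u0 := by
    rw [hua, QuotientGroup.mk_mul, (QuotientGroup.eq_one_iff x0).2 (h.pCore_le hx0), one_mul]
  have hw2 : w' * w' ∈ N' ⊔ D' := by
    rw [hND, mem_subgroupOf, ← QuotientGroup.eq_one_iff]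
    show ((w * w : G) : G ⧸ K) = 1
    rw [QuotientGroup.mk_mul, hwK, ← QuotientGroup.mk_mul]
    exact (QuotientGroup.eq_one_iff _).2 hw0
  have huw : u' * w' * (u' * w') * (u' * w') ∈ N' ⊔ D' := by
    rw [hND, mem_subgroupOf, ← QuotientGroup.eq_one_iff]
    show ((a0 * w * (a0 * w) * (a0 * w) : G) : G ⧸ K) = 1
    simp only [QuotientGroup.mk_mul, hwK, huK]
    simp only [← QuotientGroup.mk_mul]
    exact (QuotientGroup.eq_one_iff _).2 huw0
  have hgen' : A' ⊔ conjSub w' A' ⊔ N' = ⊤ := eq_top_iff.2 fun g _ => by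
    obtain ⟨q, hq, x, hx, hg⟩ := CfsgLib.Solvable.exists_mul_of_mem_sup (K := Q) (A := A ⊔ conjSub w A)
      (by rw [normalizer_eq_top Q]; exact le_top) ((sup_comm _ _).trans hgen |>.ge (mem_top (g : G)))
    have hxG : x ∈ G1 := (sup_le hAG hAwG) hx
    have hqG : q ∈ G1 := by
      rw [show q = (g : G) * x⁻¹ by rw [hg]; group]; exact mul_mem g.2 (inv_mem hxG)
    rw [show g = (⟨q, hqG⟩ : ↥G1) * ⟨x, hxG⟩ from Subtype.ext hg]
    refine mul_mem (mem_sup_right (mem_subgroupOf.2 hq)) (mem_sup_left ?_)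
    have h2 : (⟨x, hxG⟩ : ↥G1) ∈ (A ⊔ conjSub w A).subgroupOf G1 := hx
    rwa [subgroupOf_sup hAG hAwG, ← subgroupOf_conjSub hwG] at h2
  have hA'p : IsPGroup p A' := (S.2.to_le hA.1).comap_subtype
  have hu'A : u' ∈ A' := ha0
  have hPA : ∀ a ∈ A, ∀ x ∈ P, ⁅a, x⁆ ∈ fixS S := by
    intro a ha x hx
    obtain ⟨v, hv, b, hb, rfl⟩ := CfsgLib.Solvable.exists_mul_of_mem_sup (K := V) (A := A ⊓ K)
      (by rw [normalizer_eq_top V]; exact le_top) hx
    rw [commutator_prod, commutatorElement_eq_one_iff_mul_comm.2 (adm_comm hA.2.1 ha hb.1), mul_one,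
      mul_inv_cancel, mul_one]
    exact hcommV a ha v hv
  have hPwP : conjSub w' P' = (conjSub w P).subgroupOf G1 := subgroupOf_conjSub hwG
  have hNsup : N' = P' ⊔ conjSub w' P' := by
    rw [hPwP, hP', ← subgroupOf_sup (hPN.trans inf_le_right) (hPwN.trans inf_le_right), hsup, hN', hN,
      inf_subgroupOf_right]
  -- the layers
  let L : ℕ → Subgroup ↥G1 := fun i => (Subgroup.upperCentralSeries ↥N' i).map N'.subtype
  have hLn : ∀ i, (L i).Normal := fun i => ConjAct.normal_of_characteristic_of_normal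
  have hLN : ∀ i, L i ≤ N' := fun i => map_subtype_le _
  have hLsucc : ∀ i, ∀ x : ↥G1, x ∈ L (i + 1) ↔ x ∈ N' ∧ ∀ y ∈ N', ⁅x, y⁆ ∈ L i := by
    intro i x
    constructor
    · rintro ⟨z, hz, rfl⟩
      exact ⟨z.2, fun y hy => ⟨_, Subgroup.mem_upperCentralSeries_succ_iff.1 hz ⟨y, hy⟩, rfl⟩⟩
    · rintro ⟨hx, hy⟩
      refine ⟨⟨x, hx⟩, Subgroup.mem_upperCentralSeries_succ_iff.2 fun y => ?_, rfl⟩
      exact (mem_map_iff_mem N'.subtype_injective).1 (hy y y.2)
  haveI : Group.IsNilpotent ↥N' := hN'p.isNilpotent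
  obtain ⟨m, hm'⟩ := Group.IsNilpotent.nilpotent' (G := ↥N')
  have hLm : L m = N' := by
    show (Subgroup.upperCentralSeries ↥N' m).map _ = _
    rw [hm', ← MonoidHom.range_eq_map, range_subtype]
  have hLmono : ∀ i j, i ≤ j → L i ≤ L j := fun i j hij =>
    Subgroup.map_mono (Subgroup.upperCentralSeries_mono _ hij)
  have hdisj : ∀ i, ∀ a ∈ L (i + 2) ⊓ P', ∀ b ∈ L (i + 2) ⊓ conjSub w' P', a * b ∈ L (i + 1) → a ∈ L (i + 1) := by
    intro i a ha b hb hab
    refine (hLsucc i a).2 ⟨hLN _ ha.1, fun y hy => ?_⟩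
    haveI := hLn i
    set π := QuotientGroup.mk' (L i)
    have hc : ∀ {s t}, ⁅s, t⁆ ∈ L i → Commute (π s) (π t) := fun {s t} hst => by
      rw [commute_iff_eq, ← commutatorElement_eq_one_iff_mul_comm, ← map_commutatorElement]
      exact (QuotientGroup.eq_one_iff _).2 hst
    have hle : N' ≤ (centralizer ({π a} : Set (↥G1 ⧸ L i))).comap π := by
      refine hNsup.le.trans (sup_le (fun c hc' => mem_centralizer_singleton_iff.2 ?_)
        fun c hc' => mem_centralizer_singleton_iff.2 ?_)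
      · rw [← map_mul, ← map_mul, show c * a = a * c from Subtype.ext (adm_comm hP.2.1 hc' ha.2)]
      · rw [hPwP] at hc' hb
        obtain ⟨c', hc'', hce⟩ := mem_subgroupOf.1 hc'
        obtain ⟨b', hb'', hbe⟩ := mem_subgroupOf.1 hb.2
        have h2 : Commute (π c) (π b) := Commute.map (show Commute c b from Subtype.ext (by
          rw [Subgroup.coe_mul, Subgroup.coe_mul, ← hce, ← hbe, ← map_mul, ← map_mul, adm_comm hP.2.1 hc'' hb''])) π
        have h3 : Commute (π c) (π (a * b)) := (hc (((hLsucc i _).1 hab).2 c (by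
          exact (mem_subgroupOf.2 (hPwN (mem_subgroupOf.1 hc')).1)))).symm
        rw [map_mul] at h3
        have := h3.mul_right h2.inv_right
        rwa [mul_inv_cancel_right] at this
    refine (QuotientGroup.eq_one_iff _).1 ?_
    show π ⁅a, y⁆ = 1
    rw [map_commutatorElement, commutatorElement_eq_one_iff_mul_comm]
    exact (mem_centralizer_singleton_iff.1 (hle hy)).symm
  have hcov : ∀ i, ∀ x ∈ L (i + 2), ∃ a ∈ L (i + 2) ⊓ P', ∃ b ∈ L (i + 2) ⊓ conjSub w' P', x = a * b := by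
    intro i x hx
    obtain ⟨a, ha, b, hb, hab⟩ := hprod (x : G) ⟨hLN _ hx, x.2⟩
    set a' : ↥G1 := ⟨a, (hPN ha).2⟩
    set b' : ↥G1 := ⟨b, (hPwN hb).2⟩
    have hb' : b' ∈ conjSub w' P' := hPwP.ge hb
    have hx' : x = a' * b' := Subtype.ext hab.symm
    suffices ha' : a' ∈ L (i + 2) from ⟨a', ⟨ha', ha⟩, b', ⟨by
      rw [show b' = a'⁻¹ * x by rw [hx']; group]; exact Subgroup.mul_mem _ (Subgroup.inv_mem _ ha') hx, hb'⟩, hx'⟩
    have hdown : ∀ k, a' ∈ L (i + 2 + k) → a' ∈ L (i + 2) := by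
      intro k
      induction k with
      | zero => exact id
      | succ k ih =>
        intro hk
        have h3 : a' ∈ L (i + 1 + k + 1) := by
          refine hdisj (i + 1 + k) a' ⟨?_, ha⟩ b' ⟨?_, hb'⟩ ?_
          · exact hLmono _ _ (by omega) hk
          · show b' ∈ L _
            rw [show b' = a'⁻¹ * x by rw [hx']; group]
            exact mul_mem (inv_mem (hLmono _ _ (by omega) hk)) (hLmono _ _ (by omega) hx)
          · rw [← hx']; exact hLmono _ _ (by omega) hx
        exact ih (hLmono _ _ (by omega) h3)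
    exact hdown m (hLmono m _ (by omega) (hLm.ge (hPN ha).1))
  have hL1 : ∀ x : ↥G1, x ∈ L 1 ↔ (x : G) ∈ czOf N := by
    intro x
    rw [show (1 : ℕ) = 0 + 1 from rfl, hLsucc]
    constructor
    · rintro ⟨hx, hy⟩
      refine ⟨⟨hx, x.2⟩, mem_centralizer_iff.2 fun y hy' => ?_⟩
      have h2 := hy ⟨y, hy'.2⟩ hy'.1
      rw [show L 0 = ⊥ from by show (Subgroup.upperCentralSeries ↥N' 0).map _ = ⊥; rw [Subgroup.upperCentralSeries_zero, Subgroup.map_bot],
        mem_bot, commutatorElement_eq_one_iff_mul_comm] at h2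
      exact (congrArg Subtype.val h2).symm
    · rintro ⟨hx, hy⟩
      refine ⟨hx.1, fun y hy' => ?_⟩
      rw [show L 0 = ⊥ from by show (Subgroup.upperCentralSeries ↥N' 0).map _ = ⊥; rw [Subgroup.upperCentralSeries_zero, Subgroup.map_bot],
        mem_bot, commutatorElement_eq_one_iff_mul_comm]
      exact Subtype.ext (mem_centralizer_iff.1 hy (y : G) ⟨hy', y.2⟩).symm
  have hstep : ∀ i, ∀ x ∈ L (i + 2), (∀ d ∈ D', d * x = x * d) → x ∈ L (i + 1) := by
    intro i
    haveI := hLn (i + 2)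
    haveI := hLn (i + 1)
    refine layer_fixed hp2 (A := A') (P := P') (u := u') (w := w') hN'p hco hNDn (hLN _) ?_ ?_ hA'p hu'A hw2 huw
      hgen' ?_ (hdisj i) (hcov i)
    · refine commutator_le.2 fun a ha b hb => ((hLsucc (i + 1) a).1 ha).2 b (hLN _ hb)
    · refine commutator_le.2 fun a ha b hb => ?_
      rw [← commutatorElement_inv]
      exact inv_mem (((hLsucc (i + 1) b).1 hb).2 a ha)
    · intro a ha x hx
      refine hLmono 1 _ (by omega) ((hL1 _).2 ?_)
      exact hcz (mem_sup_right (hPA (a : G) ha (x : G) hx.2).1)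
  -- the module layer
  set V' := V.subgroupOf G1 with hV'
  set Z' := (V ⊓ center G).subgroupOf G1 with hZ'
  haveI : V'.Normal := (inferInstance : V.Normal).comap _
  haveI : Z'.Normal := (CfsgLib.LocalEven.RankOne.normal_of_le_center inf_le_right).comap _
  have hVstep : ∀ x ∈ V', (∀ d ∈ D', d * x = x * d) → x ∈ Z' := by
    refine layer_fixed hp2 (A := A') (P := (fixS S).subgroupOf G1) (u := u') (w := w') hN'p hco hNDn
      (Subgroup.comap_mono hVQ) ?_ ?_ hA'p hu'A hw2 huw hgen' ?_ ?_ ?_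
    · refine commutator_le.2 fun a ha b hb => ?_
      rw [commutatorElement_eq_one_iff_mul_comm.2 (show a * b = b * a from
        Subtype.ext (h.vS_comm hb (hVQ ha)))]
      exact one_mem _
    · refine commutator_le.2 fun a ha b hb => ?_
      rw [commutatorElement_eq_one_iff_mul_comm.2 (show a * b = b * a from Subtype.ext (h.vS_comm hb ha))]
      exact one_mem _
    · intro a ha x hx
      rw [commutatorElement_eq_one_iff_mul_comm.2 (show a * x = x * a from
        Subtype.ext (mem_centralizer_iff.1 hx.2.2 (a : G) (hA.1 ha)))]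
      exact one_mem _
    · intro a ha b hb hab
      rw [subgroupOf_conjSub hwG] at hb
      refine ⟨ha.1, mem_center_iff.2 fun g => ?_⟩
      have hle : A ⊔ conjSub w A ⊔ Q ≤ centralizer ({(a : G)} : Set G) := by
        refine sup_le (sup_le (fun c hc => mem_centralizer_singleton_iff.2
          (mem_centralizer_iff.1 ha.2.2 c (hA.1 hc))) ?_)
          fun c hc => mem_centralizer_singleton_iff.2 (h.vS_comm ha.1 hc)
        rintro _ ⟨c, hc, rfl⟩
        obtain ⟨f, hf, hfe⟩ := hb.2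
        refine mem_centralizer_singleton_iff.2 ?_
        have h2 : Commute ((MulAut.conj w).toMonoidHom c) (b : G) := by
          rw [← show (MulAut.conj w).toMonoidHom f = (b : G) from hfe]
          exact (show Commute c f from mem_centralizer_iff.1 hf.2 c (hA.1 hc)).map _
        have h3 : Commute ((MulAut.conj w).toMonoidHom c) ((a : G) * b) := mem_center_iff.1 hab.2 _
        have := h3.mul_right h2.inv_right
        rwa [mul_inv_cancel_right] at this
      exact mem_centralizer_singleton_iff.1 (hle (hgen.ge (mem_top g)))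
    · intro x hx
      have hn : fixS S ≤ normalizer (conjSub w (fixS S) : Set G) := fun z hz =>
        CfsgLib.Solvable.mem_normalizer_of_conj_mem fun y hy => by
          have hyV : y ∈ V := (conjSub_mono w inf_le_left).trans (CfsgLib.Techniques.Functor.conjSub_normal V w).le hy
          rw [h.vS_comm hyV (hVQ hz.1), mul_inv_cancel_right]
          exact hy
      obtain ⟨f', hf', f, hf, e⟩ := CfsgLib.Solvable.exists_mul_of_mem_sup (A := fixS S)
        (K := conjSub w (fixS S)) hn (sup_comm (fixS S) _ ▸ hVfix hx)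
      have hfV : f' ∈ V := (conjSub_mono w inf_le_left).trans (CfsgLib.Techniques.Functor.conjSub_normal V w).le hf'
      refine ⟨⟨f, hVG1 hf.1⟩, ⟨hf.1, hf⟩, ⟨f', hVG1 hfV⟩, ⟨hfV, ?_⟩, Subtype.ext ?_⟩
      · rw [subgroupOf_conjSub hwG]; exact hf'
      · show (x : G) = f * f'
        rw [show (x : G) = f' * f from e, h.vS_comm hfV (hVQ hf.1)]
  -- what `D` fixes in `N`
  have hfixN : ∀ x : ↥G1, x ∈ N' → (∀ d ∈ D', d * x = x * d) → (x : G) ∈ I0 ⊔ (V ⊓ center G) := by
    intro x hx hxd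
    have hall : ∀ i, x ∈ L (i + 1) → x ∈ L 1 := fun i => by
      induction i with
      | zero => exact id
      | succ i ih => exact fun hi => ih (hstep i x hi hxd)
    have h2 := hczle ((hL1 x).1 (hall m (hLmono m _ (by omega) (hLm.ge hx))))
    obtain ⟨v, hv, t, ht, hxv⟩ := CfsgLib.Solvable.exists_mul_of_mem_sup (K := V) (A := I0)
      (by rw [normalizer_eq_top V]; exact le_top) (sup_comm I0 V ▸ h2)
    have hv' : (⟨v, hVG1 hv⟩ : ↥G1) ∈ Z' := hVstep _ hv fun d hd => Subtype.ext (by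
      have h3 : Commute (d : G) (x : G) := congrArg Subtype.val (hxd d hd)
      have h4 : Commute (d : G) t := (mem_centralizer_iff.1 d.2 t ht).symm
      have := h3.mul_right h4.inv_right
      rw [show (x : G) * t⁻¹ = v by rw [hxv, mul_inv_cancel_right]] at this
      exact this)
    rw [hxv]
    exact mul_mem (mem_sup_right hv') (mem_sup_left ht)
  -- conclusion
  set D := D'.map G1.subtype with hD
  set G2 := ((normalizer (D' : Set ↥G1)).map G1.subtype) with hG2
  have hDK : D ≤ K := by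
    rintro _ ⟨d, hd, rfl⟩
    exact mem_subgroupOf.1 (hND.le (mem_sup_right hd))
  have hDco : (Nat.card D).Coprime p := by rwa [hD, card_map_of_injective G1.subtype_injective]
  refine ⟨D, G2, hDK, hDco, eq_top_iff.2 fun g _ => ?_, ?_⟩
  · obtain ⟨q, hq, x, hx, rfl⟩ := CfsgLib.Solvable.exists_mul_of_mem_sup (K := Q) (A := G1)
      (by rw [normalizer_eq_top Q]; exact le_top) ((sup_comm _ _).trans hG1Q |>.ge (mem_top g))
    obtain ⟨c, hc, hn⟩ := exists_mul_mem_normalizer hN'p hco hNDn ⟨x, hx⟩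
    refine mul_mem (mem_sup_right hq) ?_
    rw [show x = (c : G)⁻¹ * ((c : G) * x) by group]
    exact mul_mem (mem_sup_right (inv_mem hc)) (mem_sup_left ⟨_, hn, rfl⟩)
  · rintro _ ⟨g, hg, rfl⟩ hgo v hv hvd
    set T := I0 ⊔ (V ⊓ center G) with hT
    set Pd := Q ⊓ centralizer (D : Set G) with hPd
    have hTG1 : G1 ≤ centralizer (T : Set G) := le_centralizer_iff.1 (sup_le (le_centralizer_iff.1 le_rfl)
      (inf_le_right.trans (center_le_centralizer _)))
    have hTQ : T ≤ Q := sup_le inf_le_right (inf_le_left.trans hVQ)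
    have hTD : T ≤ centralizer (D : Set G) := le_centralizer_iff.1 ((map_subtype_le D').trans hTG1)
    have hgn : (g : G) ∈ normalizer (D : Set G) := le_normalizer_map G1.subtype (mem_map_of_mem _ hg)
    refine CfsgLib.LocalEven.commute_of_commute_fixed (R := T) (P := Pd)
      ((CfsgLib.Cores.isPGroup_pCore p).to_le hTQ) ((CfsgLib.Cores.isPGroup_pCore p).to_le inf_le_left)
      ((le_inf hTQ hTD).trans le_normalizer) hgo ?_ (fun t ht => (mem_centralizer_iff.1 (hTG1 g.2) t ht).symm) ?_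
      v ⟨hv, mem_centralizer_iff.2 fun d hd => hvd d hd⟩
    · refine inf_normalizer_le_normalizer_inf ⟨?_, ?_⟩
      · rw [normalizer_eq_top Q]; trivial
      · exact CfsgLib.Solvable.mem_normalizer_of_conj_mem fun y hy => mem_centralizer_iff.2 fun d hd => by
          have h2 := mem_centralizer_iff.1 hy _ ((mem_normalizer_iff''.1 hgn d).1 hd)
          calc d * (G1.subtype g * y * (G1.subtype g)⁻¹)
              = G1.subtype g * ((G1.subtype g)⁻¹ * d * G1.subtype g * y) * (G1.subtype g)⁻¹ := by group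
            _ = G1.subtype g * (y * ((G1.subtype g)⁻¹ * d * G1.subtype g)) * (G1.subtype g)⁻¹ := by
              rw [show (G1.subtype g)⁻¹ * d * G1.subtype g * y = y * ((G1.subtype g)⁻¹ * d * G1.subtype g) from h2]
            _ = G1.subtype g * y * (G1.subtype g)⁻¹ * d := by group
    · intro y hy hyT
      have hyG : y ∈ G1 := mem_centralizer_iff.2 fun t ht => hyT t (mem_sup_left ht)
      have h2 := hfixN ⟨y, hyG⟩ hy.1 fun d hd => Subtype.ext (mem_centralizer_iff.1 hy.2 _ ⟨d, hd, rfl⟩)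
      exact (mem_centralizer_iff.1 (hTG1 g.2) y h2).symm

end CfsgLib.Techniques.CharTransfer
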