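import Cfsg.Agent.Lib.Techniques.CharTransfer.Fixed
import Cfsg.Agent.Lib.PStab.MaxAdm
import Cfsg.Agent.Lib.LocalEven.MinimalOver
import Cfsg.Agent.Lib.LocalEven.Baumann
import Cfsg.Agent.Lib.Solvable.LagrangeConverse
import Cfsg.Prelude.Def_BaumannBlocks

/-!
In a minimal parabolic group outside `C**`, the abelian subgroups of largest order of the Sylow subgroup
and the centraliser of the centre of their join lie in the join of the blocks.
-/

set_option autoImplicit false
set_option maxHeartbeats 1000000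

namespace CfsgLib.Techniques.CharTransfer

open Cfsg
open CfsgLib.LocalEven
open CfsgLib.PStab (jGen zjGen maxAdm adm_comm le_jGen mem_of_commute_maxAdm)
open scoped commutatorElement

universe u

/-- Abelian subgroups of largest order and the centraliser of the centre of their join lie in the blocks. -/
theorem baumann_le_blocks {G : Type u} [Group G] [Finite G] {p : ℕ} [Fact p.Prime] (hp : p ≠ 2)
    (hmin : Cfsg.IsPMinimal p G) (hG : Subgroup.centralizer (Cfsg.pCore p G : Set G) ≤ Cfsg.pCore p G)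
    (T : Sylow p G) (hne : Cfsg.cStarStarOf p (T : Subgroup G) ≠ ⊤) :
    jGen 0 (T : Subgroup G) ≤
        Cfsg.thompsonSubgroup p G ⊔ Subgroup.centralizer (Cfsg.omegaOneCenter p (Cfsg.pCore p G) : Set G) ∧
      (T : Subgroup G) ⊓ Subgroup.centralizer (zjGen 0 (T : Subgroup G) : Set G) ≤
        Cfsg.thompsonSubgroup p G ⊔ Subgroup.centralizer (Cfsg.omegaOneCenter p (Cfsg.pCore p G) : Set G) := by
  classical
  set Q := Cfsg.pCore p G with hQdef
  set V := Cfsg.omegaOneCenter p Q with hVdef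
  set C := Subgroup.centralizer (V : Set G) with hCdef
  haveI hQn : Q.Normal := by
    haveI := CfsgLib.Cores.pCore_characteristic (G := G) p
    infer_instance
  have hQp : IsPGroup p ↥Q := CfsgLib.Cores.isPGroup_pCore p
  have hQT : Q ≤ (T : Subgroup G) := CfsgLib.Cores.pCore_le_sylow T
  have hVQ : V ≤ Q := Oz.le_self Q
  haveI hVn : V.Normal := Subgroup.normalizer_eq_top_iff.1 (top_le_iff.1
    ((Subgroup.normalizer_eq_top (H := Q)).ge.trans (Oz.normalizer_le Q)))
  have hVe : IsElementaryAbelian p V := Oz.elemAb Q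
  haveI hCn : C.Normal := by rw [hCdef]; infer_instance
  have hQC : Q ≤ C := fun q hq => Subgroup.mem_centralizer_iff.2 fun v hv => ((Oz.mem_iff.1 hv).2.1 q hq).symm
  obtain ⟨M, ⟨hM, hTM⟩, huniq⟩ := (hmin T).2
  have huniq' : ∀ H : Subgroup G, (T : Subgroup G) ≤ H → H ≠ ⊤ → H ≤ M := fun H h1 h2 => MinOver.le_of_ne_top huniq h1 h2
  have hTC : (T : Subgroup G) ≤ Cfsg.cStarStarOf p (T : Subgroup G) := by
    refine le_trans ?_ le_sup_left
    intro t ht
    exact Subgroup.mem_centralizer_iff.2 fun z hz => ((Oz.mem_iff.1 hz).2.1 t ht).symm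
  have hCSM : Cfsg.cStarStarOf p (T : Subgroup G) ≤ M := huniq' _ hTC hne
  -- the centre of the Sylow subgroup lies in `V`
  have hZV : Cfsg.omegaOneCenter p (T : Subgroup G) ≤ V := by
    intro z hz
    obtain ⟨hzT, hzc, hzp⟩ := Oz.mem_iff.1 hz
    have hzQ : z ∈ Q := hG (Subgroup.mem_centralizer_iff.2 fun q hq => hzc q (hQT hq))
    exact Oz.mem_iff.2 ⟨hzQ, fun q hq => hzc q (hQT hq), hzp⟩
  have hCM : C ≤ M := (Subgroup.centralizer_le hZV).trans (le_sup_left.trans hCSM)
  -- the quotient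
  set π : G →* G ⧸ C := QuotientGroup.mk' C with hπdef
  have hπs : Function.Surjective π := QuotientGroup.mk'_surjective C
  have hπ1 : ∀ g : G, π g = 1 ↔ g ∈ C := fun g => QuotientGroup.eq_one_iff g
  set Tb : Sylow p (G ⧸ C) := T.mapSurjective hπs with hTb
  have hTbc : (Tb : Subgroup (G ⧸ C)) = (T : Subgroup G).map π := rfl
  letI : CommGroup ↥V :=
    { (inferInstance : Group ↥V) with mul_comm := fun a b => hVe.1.1.comm a b }
  let f : G ⧸ C →* MulAut ↥V := QuotientGroup.lift C (MulAut.conjNormal (H := V)) fun c hc => by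
    rw [MonoidHom.mem_ker]
    ext v
    rw [MulAut.conjNormal_apply, MulAut.one_apply, ← Subgroup.mem_centralizer_iff.1 hc v v.2, mul_inv_cancel_right]
  letI : DistribMulAction (G ⧸ C) (Additive ↥V) :=
    { smul := fun x v => Additive.ofMul (f x (Additive.toMul v))
      one_smul := fun v => by
        show Additive.ofMul (f 1 (Additive.toMul v)) = v
        rw [map_one, MulAut.one_apply, ofMul_toMul]
      mul_smul := fun x y v => by
        show Additive.ofMul (f (x * y) (Additive.toMul v)) = Additive.ofMul (f x (f y (Additive.toMul v)))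
        rw [map_mul, MulAut.mul_apply]
      smul_zero := fun x => congrArg Additive.ofMul (map_one (f x))
      smul_add := fun x a b => congrArg Additive.ofMul (map_mul (f x) (Additive.toMul a) (Additive.toMul b)) }
  have hsmul : ∀ (g : G) (v : Additive ↥V),
      ((Additive.toMul (π g • v) : ↥V) : G) = g * (Additive.toMul v : ↥V) * g⁻¹ := fun g v => MulAut.conjNormal_apply g _
  have hext : ∀ v w : Additive ↥V, ((Additive.toMul v : ↥V) : G) = ((Additive.toMul w : ↥V) : G) → v = w :=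
    fun v w e => Additive.toMul.injective (Subtype.ext e)
  -- fixed points
  have hfx : ∀ (K : Subgroup G) (v : Additive ↥V), v ∈ MinOffender.fx (Additive ↥V) (K.map π) ↔
      ((Additive.toMul v : ↥V) : G) ∈ V ⊓ Subgroup.centralizer (K : Set G) := by
    intro K v
    constructor
    · intro hv
      refine ⟨(Additive.toMul v).2, Subgroup.mem_centralizer_iff.2 fun g hg => ?_⟩
      have h1 := congrArg (fun z : Additive ↥V => ((Additive.toMul z : ↥V) : G)) (hv (π g) ⟨g, hg, rfl⟩)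
      simp only [hsmul] at h1
      exact mul_inv_eq_iff_eq_mul.1 h1
    · rintro hv _ ⟨g, hg, rfl⟩
      apply hext
      rw [hsmul, Subgroup.mem_centralizer_iff.1 hv.2 g hg, mul_inv_cancel_right]
  have hMc : ∀ g : G, π g ∈ M.map π → g ∈ M := fun g hg => by
    have h1 : g ∈ (M.map π).comap π := hg
    rwa [Subgroup.comap_map_eq_self (by rw [hπdef, QuotientGroup.ker_mk']; exact hCM)] at h1
  have hTint : ∀ N : Subgroup G, N.Normal → N ≤ M → (T : Subgroup G) ⊓ N ≤ C := fun N hN hNM => by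
    haveI := hN
    exact (MinOver.inf_le_pCore T hM huniq N hNM).trans hQC
  have hset : PMinFF.Setting p Tb (M.map π) (Additive ↥V) := by
    refine ⟨fun v => ?_, fun x hx => ?_, ?_, fun e => ?_, fun H hH hne' => ?_, fun E hE hEp => ?_, fun x hx => ?_⟩
    · apply hext
      rw [toMul_nsmul, Subgroup.coe_pow]
      exact hVe.2 _ (Additive.toMul v).2
    · obtain ⟨g, rfl⟩ := hπs x
      refine (hπ1 g).2 (Subgroup.mem_centralizer_iff.2 fun v hv => ?_)
      have h1 := congrArg (fun z : Additive ↥V => ((Additive.toMul z : ↥V) : G)) (hx (Additive.ofMul ⟨v, hv⟩))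
      simp only [hsmul] at h1
      exact (mul_inv_eq_iff_eq_mul.1 h1).symm
    · rw [hTbc]; exact Subgroup.map_mono hTM
    · exact hM.1 (top_le_iff.1 fun g _ => hMc g (e ▸ Subgroup.mem_top _))
    · have h1 : H.comap π ≤ M := huniq' _ (fun t ht => hH (by rw [hTbc]; exact ⟨t, ht, rfl⟩))
        fun e => hne' (by rw [← Subgroup.map_comap_eq_self_of_surjective hπs H, e, Subgroup.map_top_of_surjective _ hπs])
      rw [← Subgroup.map_comap_eq_self_of_surjective hπs H]
      exact Subgroup.map_mono h1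
    · haveI := hE
      have hKM : E.comap π ≤ M := fun g hg => hMc g (Subgroup.map_mono hTM (hTbc ▸ hEp.le_sylow_of_normal Tb hg))
      rw [Subgroup.eq_bot_iff_forall]
      intro x hx
      obtain ⟨g, rfl⟩ := hπs x
      obtain ⟨t, ht, hte⟩ : π g ∈ (T : Subgroup G).map π := hTbc ▸ hEp.le_sylow_of_normal Tb hx
      rw [← hte]
      exact (hπ1 t).2 (hTint _ (hE.comap π) hKM ⟨ht, show π t ∈ E from hte ▸ hx⟩)
    · obtain ⟨g, rfl⟩ := hπs x
      refine ⟨g, hCSM (Subgroup.mem_sup_left (Subgroup.mem_centralizer_iff.2 fun z hz => ?_)), rfl⟩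
      have h1 := congrArg (fun w : Additive ↥V => ((Additive.toMul w : ↥V) : G))
        (hx (Additive.ofMul ⟨z, hZV hz⟩) (by
          rw [hTbc]
          exact (hfx _ _).2 ⟨hZV hz, Subgroup.mem_centralizer_iff.2 (Oz.mem_iff.1 hz).2.1⟩))
      simp only [hsmul] at h1
      exact (mul_inv_eq_iff_eq_mul.1 h1).symm
  -- largest elementary abelian subgroups give offenders
  have hcardπ : ∀ A : Subgroup G,
      Nat.card ↥A = Nat.card ↥(A.map π) * Nat.card ↥(A ⊓ C : Subgroup G) := by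
    intro A
    let φ := π.subgroupMap A
    have hk : φ.ker = C.subgroupOf A := by
      ext a
      rw [MonoidHom.mem_ker, Subgroup.mem_subgroupOf, ← Subtype.val_inj]
      exact hπ1 _
    have e1 := Subgroup.card_eq_card_quotient_mul_card_subgroup φ.ker
    rw [Nat.card_congr (QuotientGroup.quotientKerEquivOfSurjective φ (π.subgroupMap_surjective A)).toEquiv] at e1
    rw [e1, hk, Nat.card_congr (Subgroup.subgroupOfEquivOfLe (inf_le_left : A ⊓ C ≤ A)).symm.toEquiv,
      Subgroup.inf_subgroupOf_left]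
  have hoff : ∀ A : Subgroup G, (∀ a ∈ A, ∀ b ∈ A, a * b = b * a) →
      Nat.card ↥(V ⊔ (A ⊓ C) : Subgroup G) ≤ Nat.card ↥A →
      Nat.card (Additive ↥V) ≤ Nat.card ↥(A.map π) * Nat.card ↥(MinOffender.fx (Additive ↥V) (A.map π)) := by
    intro A hA h1
    have h2 := CfsgLib.Solvable.card_sup_mul_card_inf V (A ⊓ C)
    have h4 : Nat.card ↥(V ⊓ (A ⊓ C) : Subgroup G) ≤ Nat.card ↥(MinOffender.fx (Additive ↥V) (A.map π)) := by
      refine Nat.card_le_card_of_injective (fun w => (⟨Additive.ofMul ⟨(w : G), w.2.1⟩, (hfx _ _).2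
        ⟨w.2.1, Subgroup.mem_centralizer_iff.2 fun a ha => hA a ha _ w.2.2.1⟩⟩ :
        ↥(MinOffender.fx (Additive ↥V) (A.map π)))) fun w w' e => ?_
      exact Subtype.ext (congrArg (fun z : ↥(MinOffender.fx (Additive ↥V) (A.map π)) =>
        ((Additive.toMul (z : Additive ↥V) : ↥V) : G)) e)
    rw [show Nat.card (Additive ↥V) = Nat.card ↥V from Nat.card_congr Additive.toMul]
    refine Nat.le_of_mul_le_mul_right (c := Nat.card ↥(A ⊓ C : Subgroup G)) ?_ Nat.card_pos
    rw [← h2]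
    calc Nat.card ↥(V ⊔ A ⊓ C : Subgroup G) * Nat.card ↥(V ⊓ (A ⊓ C) : Subgroup G)
        ≤ Nat.card ↥A * Nat.card ↥(MinOffender.fx (Additive ↥V) (A.map π)) := Nat.mul_le_mul h1 h4
      _ = _ := by rw [hcardπ A]; ring
  set J := Cfsg.thompsonSubgroup p G with hJdef
  haveI hJn : J.Normal := CfsgLib.Transfer.thompsonSubgroup_normal_inst' p
  obtain ⟨A₀, hA₀, hA₀C⟩ : ∃ A ∈ maxElementaryAbelianSubgroups p G, ¬ A ≤ C := by
    by_contra hc
    push Not at hc
    have hJC : J ≤ C := by rw [hJdef]; exact sSup_le hc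
    haveI := hJn
    have hN : Subgroup.normalizer (Cfsg.thompsonSubgroupOf p (T : Subgroup G) : Set G) = ⊤ := by
      have hJT : Cfsg.thompsonSubgroupOf p (T : Subgroup G) ≤ J := by
        rw [hJdef, CfsgLib.Transfer.thompsonSubgroup_eq_iSup]
        exact le_iSup (fun S : Sylow p G => Cfsg.thompsonSubgroupOf p (S : Subgroup G)) T
      have hJQ : Cfsg.thompsonSubgroupOf p (T : Subgroup G) ≤ Q :=
        (le_inf (Subgroup.map_subtype_le _) (hJT.trans hJC)).trans (MinOver.inf_le_pCore T hM huniq C hCM)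
      have hJG : Cfsg.thompsonSubgroup p G = Cfsg.thompsonSubgroupOf p (T : Subgroup G) := by
        rw [CfsgLib.Transfer.thompsonSubgroup_eq_iSup]
        exact le_antisymm (iSup_le fun S => (Baumann.thompson_eq_of_le (T := T) (T' := S)
          (hJQ.trans (CfsgLib.Cores.pCore_le_sylow S))).le) (le_iSup (fun S : Sylow p G =>
            Cfsg.thompsonSubgroupOf p (S : Subgroup G)) T)
      exact Subgroup.normalizer_eq_top_iff.2 (hJG ▸ hJn)
    exact hne (top_le_iff.1 (hN.ge.trans le_sup_right))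
  obtain ⟨A₁, hA₁, hA₁T, hA₁C⟩ :
      ∃ A ∈ maxElementaryAbelianSubgroups p G, A ≤ (T : Subgroup G) ∧ ¬ A ≤ C := by
    obtain ⟨S, hS⟩ := (CfsgLib.Transfer.maxEA_isPGroup hA₀).exists_le_sylow
    obtain ⟨g, hg⟩ := MulAction.exists_smul_eq G S T
    refine ⟨A₀.map (MulAut.conj g).toMonoidHom, CfsgLib.Transfer.maxEA_map (MulAut.conj g) hA₀, ?_, fun hle => hA₀C ?_⟩
    · rw [← hg, Sylow.coe_subgroup_smul]
      exact Subgroup.map_mono hS
    · intro a ha
      have h1 := hCn.conj_mem _ (hle ⟨a, ha, rfl⟩) g⁻¹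
      simpa [mul_assoc] using h1
  obtain ⟨B₁, hB₁A, hB₁⟩ := PMinFF.exists_member (A := A₁.map π)
    (fun e => hA₁C fun a ha => (hπ1 a).1 (Subgroup.mem_bot.1 (e ▸ (⟨a, ha, rfl⟩ : π a ∈ A₁.map π))))
    ((CfsgLib.Transfer.maxEA_isPGroup hA₁).map _) (by
      rintro _ ⟨a, ha, rfl⟩ _ ⟨b, hb, rfl⟩
      rw [← map_mul, ← map_mul, CfsgLib.PGroup.elemAb_comm hA₁.1 ha hb])
    (hoff A₁ (fun a ha b hb => CfsgLib.PGroup.elemAb_comm hA₁.1 ha hb) (hA₁.2 _
      (CfsgLib.PGroup.elemAb_sup hVe (CfsgLib.PGroup.isElementaryAbelian_mk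
        (fun a ha b hb => CfsgLib.PGroup.elemAb_comm hA₁.1 ha.1 hb.1) fun a ha => hA₁.1.2 a ha.1)
        fun v hv a ha => Subgroup.mem_centralizer_iff.1 ha.2 v hv)))
  have hB₁T : PMinFF.InT p Tb (Additive ↥V) B₁ := ⟨hB₁, hB₁A.trans (hTbc ▸ Subgroup.map_mono hA₁T)⟩
  have hJn' : (J.map π).Normal := hJn.map _ hπs
  have hmemJ : offJoin p Tb (Additive ↥V) ≤ J.map π := by
    refine iSup_le fun B => ?_
    obtain ⟨t, -, he⟩ := PMinFF.InT.exists_conj hset hB₁T B.2
    rw [he]
    rintro _ ⟨x, hx, rfl⟩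
    exact hJn'.conj_mem _ (Subgroup.map_mono (CfsgLib.Transfer.le_thompsonSubgroup hA₁) (hB₁A hx)) t
  have hback : ∀ a : G, π a ∈ J.map π → a ∈ J ⊔ C := fun a ha => by
    have h1 : a ∈ (J.map π).comap π := ha
    rwa [Subgroup.comap_map_eq, hπdef, QuotientGroup.ker_mk'] at h1
  have hVT : V ≤ (T : Subgroup G) := hVQ.trans hQT
  have hAoff : ∀ A ∈ maxAdm 0 (T : Subgroup G), A.map π ≤ offJoin p Tb (Additive ↥V) := by
    intro A hA
    refine le_offJoin hset (hTbc ▸ Subgroup.map_mono hA.1) ?_ (hoff A (fun a ha b hb => adm_comm hA.2.1 ha hb) ?_)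
    · rintro _ ⟨a, ha, rfl⟩ _ ⟨b, hb, rfl⟩
      rw [← map_mul, ← map_mul, adm_comm hA.2.1 ha hb]
    refine hA.2.2 _ (sup_le hVT (inf_le_left.trans hA.1)) ⟨?_, fun a _ => pow_zero a⟩
    haveI : IsMulCommutative ↥(A ⊓ C : Subgroup G) :=
      ⟨⟨fun a b => Subtype.ext (adm_comm hA.2.1 a.2.1 b.2.1)⟩⟩
    have key : V ⊔ (A ⊓ C) ≤ Subgroup.centralizer ((V ⊔ (A ⊓ C) : Subgroup G) : Set G) := by
      refine sup_le ?_ ?_ <;> rw [Subgroup.le_centralizer_iff] <;> refine sup_le ?_ ?_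
      · exact fun v hv => Subgroup.mem_centralizer_iff.2 fun w hw => congrArg Subtype.val (hVe.1.1.comm ⟨w, hw⟩ ⟨v, hv⟩)
      · exact fun a ha => ha.2
      · exact fun v hv => Subgroup.mem_centralizer_iff.2 fun a ha => (Subgroup.mem_centralizer_iff.1 ha.2 v hv).symm
      · exact fun v hv => Subgroup.mem_centralizer_iff.2 fun a ha => adm_comm hA.2.1 ha.1 hv.1
    exact ⟨⟨fun a b => Subtype.ext (Subgroup.mem_centralizer_iff.1 (key b.2) a a.2)⟩⟩
  refine ⟨sSup_le fun A hA a ha => hback a (hmemJ (hAoff A hA ⟨a, ha, rfl⟩)), ?_⟩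
  rintro t ⟨htT, htc⟩
  refine hback t (hmemJ (mem_offJoin hset (g := π t) (hTbc ▸ ⟨t, htT, rfl⟩) fun v hv => ?_))
  set v₀ : G := ((Additive.toMul v : ↥V) : G) with hv₀
  have hvA : ∀ A ∈ maxAdm 0 (T : Subgroup G), ∀ a ∈ A, v₀ * a = a * v₀ := by
    intro A hA a ha
    have h1 := hv (π a) (hAoff A hA ⟨a, ha, rfl⟩)
    have h2 := hsmul a v
    rw [h1] at h2
    conv_lhs => rw [hv₀, h2]
    rw [← hv₀]
    group
  have hmem : ∀ A ∈ maxAdm 0 (T : Subgroup G), v₀ ∈ A := fun A hA =>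
    mem_of_commute_maxAdm (p := p) (Or.inl rfl) hA (hVT (Additive.toMul v).2)
      (hVe.2 _ (Additive.toMul v).2) (hvA A hA)
  obtain ⟨A₂, hA₂⟩ := CfsgLib.PStab.maxAdm_nonempty 0 (T : Subgroup G)
  have hvz : v₀ ∈ zjGen 0 (T : Subgroup G) := by
    refine ⟨le_jGen hA₂ (hmem A₂ hA₂), ?_⟩
    have hle : jGen 0 (T : Subgroup G) ≤ Subgroup.centralizer ({v₀} : Set G) := sSup_le fun A hA a ha =>
      Subgroup.mem_centralizer_iff.2 fun z hz => by rw [Set.mem_singleton_iff.1 hz]; exact hvA A hA a ha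
    exact Subgroup.mem_centralizer_iff.2 fun a ha =>
      (Subgroup.mem_centralizer_iff.1 (hle ha) v₀ (Set.mem_singleton _)).symm
  apply hext
  rw [hsmul, ← Subgroup.mem_centralizer_iff.1 htc v₀ hvz, mul_inv_cancel_right]

end CfsgLib.Techniques.CharTransfer
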