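import Cfsg.Agent.Lib.LocalEven.RankOne.Model
import Cfsg.Agent.Lib.Fusion.Basic

/-!
Overgroups of a Sylow `p`-subgroup of `SL₂(q)`, `q` a power of the odd prime `p`.
-/

set_option autoImplicit false

namespace CfsgLib.Techniques.CharTransfer

open Subgroup
open CfsgLib.LocalEven.RankOne
open CfsgLib.LocalEven.FaithfulBound (upper upper00 upper01 upper10 upper11 lower lower00 lower01 lower10 lower11)

variable {F : Type*} [Field F]

local notation "S₂" => Matrix.SpecialLinearGroup (Fin 2) F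

theorem center_entries {z : S₂} (hz : z ∈ center S₂) :
    z.1 0 1 = 0 ∧ z.1 1 0 = 0 ∧ z.1 0 0 = z.1 1 1 ∧ z.1 0 0 * z.1 0 0 = 1 := by
  have h1 := congrArg Subtype.val (mem_center_iff.1 hz (upper 1))
  have h2 := congrArg Subtype.val (mem_center_iff.1 hz (lower 1))
  have a00 := congrFun (congrFun h1 0) 0
  have a01 := congrFun (congrFun h1 0) 1
  have b00 := congrFun (congrFun h2 0) 0
  simp [Matrix.mul_apply, Fin.sum_univ_two, upper00, upper01, upper10, upper11, lower00, lower01,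
    lower10, lower11] at a00 a01 b00
  have e : z.1 0 0 = z.1 1 1 := by linear_combination -a01
  refine ⟨b00, a00, e, ?_⟩
  have hd := CfsgLib.LocalEven.FaithfulBound.det_eq_one z
  rw [b00, a00, ← e, mul_zero, sub_zero] at hd
  exact hd

/-- The centre is `± 1`. -/
theorem center_cases {z : S₂} (hz : z ∈ center S₂) :
    z = 1 ∨ z = scalarM (-1 : F) (by ring) := by
  obtain ⟨h01, h10, h00, hsq⟩ := center_entries hz
  rcases mul_self_eq_one_iff.1 hsq with e | e
  · refine Or.inl (CfsgLib.LocalEven.FaithfulBound.sl_ext ?_ ?_ ?_ ?_) <;> simp [h01, h10, e, ← h00]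
  · refine Or.inr (CfsgLib.LocalEven.FaithfulBound.sl_ext ?_ ?_ ?_ ?_) <;>
      simp [h01, h10, e, ← h00, scalarM00, scalarM01, scalarM10, scalarM11]

theorem center_sq {z : S₂} (hz : z ∈ center S₂) : z * z = 1 := by
  obtain ⟨h01, h10, h00, hsq⟩ := center_entries hz
  refine CfsgLib.LocalEven.FaithfulBound.sl_ext ?_ ?_ ?_ ?_ <;>
    simp [CfsgLib.LocalEven.FaithfulBound.sl_mul_apply, h01, h10, ← h00, hsq]

variable [Fintype F] {p n : ℕ} [hp : Fact p.Prime]

theorem eq_one_of_center_of_pGroup (hp2 : p ≠ 2) {P : Subgroup S₂} (hP : IsPGroup p P) {z : S₂} (hz : z ∈ P)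
    (hzc : z ∈ center S₂) : z = 1 := by
  obtain ⟨k, hk⟩ := IsPGroup.iff_orderOf.1 hP ⟨z, hz⟩
  rw [Subgroup.orderOf_mk] at hk
  have h2 : orderOf z ∣ 2 := orderOf_dvd_of_pow_eq_one (by rw [pow_two]; exact center_sq hzc)
  have h3 : Nat.Coprime (p ^ k) 2 := Nat.Coprime.pow_left _ ((Nat.coprime_primes hp.out Nat.prime_two).2 hp2)
  exact orderOf_eq_one_iff.1 (hk.trans (h3.eq_one_of_dvd (hk ▸ h2)))

/-- A normal `p`-subgroup is trivial. -/
theorem normal_pGroup_eq_bot (hp2 : p ≠ 2) (hn : 1 ≤ n) (hF : Fintype.card F = p ^ n) {N : Subgroup S₂}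
    (hN : N.Normal) (hNp : IsPGroup p N) : N = ⊥ := by
  classical
  set π : S₂ →* Matrix.ProjectiveSpecialLinearGroup (Fin 2) F := QuotientGroup.mk' _
  have hL := likeL2_psl (p := p) (F := F) hn hF
  obtain ⟨P, hP⟩ := (hNp.map π).exists_le_sylow
  have hbot : N.map π = ⊥ := by
    by_contra hne
    have h1 := hL.gen P _ (hN.map π (QuotientGroup.mk'_surjective _)) hne
    rw [sup_eq_right.2 hP] at h1
    exact hL.proper P h1
  refine (eq_bot_iff_forall _).2 fun z hz => eq_one_of_center_of_pGroup hp2 hNp hz ?_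
  have h2 : π z ∈ (⊥ : Subgroup _) := hbot ▸ mem_map_of_mem π hz
  exact (QuotientGroup.eq_one_iff z).1 (mem_bot.1 h2)

/-- A proper subgroup containing a Sylow `p`-subgroup normalises it. -/
theorem le_normalizer_of_sylow_le (hp2 : p ≠ 2) (hn : 1 ≤ n) (hF : Fintype.card F = p ^ n) (P : Sylow p S₂)
    {H : Subgroup S₂} (hPH : (P : Subgroup S₂) ≤ H) (hH : H ≠ ⊤) :
    H ≤ normalizer ((P : Subgroup S₂) : Set S₂) := by
  classical
  set π : S₂ →* Matrix.ProjectiveSpecialLinearGroup (Fin 2) F := QuotientGroup.mk' _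
  have hL := likeL2_psl (p := p) (F := F) hn hF
  have hcard : ∀ Q : Sylow p S₂, Nat.card (Q : Subgroup S₂) ≤ p ^ n := by
    intro Q
    obtain ⟨R, hR⟩ := (Q.2.map π).exists_le_sylow
    rw [← hL.card R]
    refine Nat.card_le_card_of_injective (fun x : ↥(Q : Subgroup S₂) => (⟨π x, hR (mem_map_of_mem π x.2)⟩ : ↥(R : Subgroup _))) ?_
    intro x y e
    have h1 : π ((x : S₂)⁻¹ * y) = 1 := by
      rw [map_mul, map_inv, inv_mul_eq_one]; exact congrArg Subtype.val e
    exact Subtype.ext (inv_mul_eq_one.1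
      (eq_one_of_center_of_pGroup hp2 Q.2 (mul_mem (inv_mem x.2) y.2) ((QuotientGroup.eq_one_iff _).1 h1)))
  set U : Subgroup S₂ := (upperHom (F := F)).range
  have hUcard : Nat.card U = p ^ n := by
    rw [← Nat.card_congr (MonoidHom.ofInjective (f := upperHom (F := F)) ?_).toEquiv,
      Nat.card_congr Multiplicative.toAdd, Nat.card_eq_fintype_card, hF]
    intro a b e
    have h1 := congrArg (fun x : S₂ => x.1 0 1) e
    simpa [upperHom, upper01] using h1
  obtain ⟨Q, hQ⟩ := (IsPGroup.of_card hUcard).exists_le_sylow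
  have hQU : U = (Q : Subgroup S₂) := eq_of_le_of_card_ge hQ ((hcard Q).trans hUcard.ge)
  obtain ⟨g, hg⟩ := MulAction.exists_smul_eq S₂ Q P
  have hPU : (P : Subgroup S₂) = U.map (MulAut.conj g).toMonoidHom := by
    rw [hQU, ← hg, Sylow.coe_subgroup_smul]; rfl
  intro h hh
  set x := g⁻¹ * h * g with hx
  have hxH : x ∈ H.map (MulAut.conj g⁻¹).toMonoidHom := ⟨h, hh, by simp [hx]⟩
  have hx10 : x.1 1 0 = 0 := by
    by_contra hc
    have hu : ∀ t, upper t ∈ H.map (MulAut.conj g⁻¹).toMonoidHom := fun t =>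
      ⟨g * upper t * g⁻¹, hPH (hPU ▸ ⟨upper t, ⟨Multiplicative.ofAdd t, rfl⟩, rfl⟩), by simp [mul_assoc]⟩
    have htop := eq_top_of_upper_of_lowerLeft hu hxH hc
    exact hH (Subgroup.map_injective (f := (MulAut.conj g⁻¹).toMonoidHom) (MulAut.conj g⁻¹).injective
      (htop.trans (map_top_of_surjective _ (MulAut.conj g⁻¹).surjective).symm))
  refine CfsgLib.Fusion.mem_normalizer_of_forall fun y hy => ?_
  rw [hPU] at hy ⊢
  obtain ⟨_, ⟨t, rfl⟩, rfl⟩ := hy
  refine ⟨upper (x.1 0 0 * x.1 0 0 * Multiplicative.toAdd t),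
    ⟨Multiplicative.ofAdd (x.1 0 0 * x.1 0 0 * Multiplicative.toAdd t), rfl⟩, ?_⟩
  have hd := CfsgLib.LocalEven.FaithfulBound.det_eq_one x
  rw [hx10, mul_zero, sub_zero] at hd
  have key : x * upper (Multiplicative.toAdd t) = upper (x.1 0 0 * x.1 0 0 * Multiplicative.toAdd t) * x := by
    refine CfsgLib.LocalEven.FaithfulBound.sl_ext ?_ ?_ ?_ ?_ <;>
      simp [CfsgLib.LocalEven.FaithfulBound.sl_mul_apply, upper00, upper01, upper10, upper11, hx10]
    linear_combination (-(x.1 0 0 * Multiplicative.toAdd t)) * hd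
  show g * upper (x.1 0 0 * x.1 0 0 * Multiplicative.toAdd t) * g⁻¹ =
    h * (g * upper (Multiplicative.toAdd t) * g⁻¹) * h⁻¹
  rw [eq_mul_inv_of_mul_eq key.symm, hx]
  group

end CfsgLib.Techniques.CharTransfer
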