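import Cfsg.Agent.S2981
import Cfsg.Agent.Lib.LocalEven.RankOne.Baumann
import Cfsg.Agent.Lib.Techniques.Functor.TransferStatements
import Cfsg.Agent.Lib.Techniques.CharTransfer.SLTwo

/-!
One block of a group whose characteristic normalisers of the Sylow subgroup lie in a single maximal subgroup.
-/

set_option autoImplicit false

namespace CfsgLib.Techniques.CharTransfer

open Subgroup Cfsg
open scoped commutatorElement
open CfsgLib.LocalEven.RankOne (modStab modStab_normal)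
open CfsgLib.Fusion (conjSub conjSub_conjSub conjSub_eq_iff_mem_normalizer conj_mem_conjSub)

universe u

variable {p : ℕ} [hp : Fact p.Prime] {Γ : Type u} [Group Γ] [Finite Γ]

/-- `J(Γ) C(Ω₁Z(O_p(Γ)))`. -/
def blocks (p : ℕ) (Γ : Type u) [Group Γ] : Subgroup Γ :=
  Cfsg.thompsonSubgroup p Γ ⊔ centralizer (Cfsg.omegaOneCenter p (Cfsg.pCore p Γ) : Set Γ)

/-- The situation of the local step. -/
structure Ctx (T : Sylow p Γ) (M : Subgroup Γ) : Prop where
  hp2 : p ≠ 2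
  cP : centralizer (pCore p Γ : Set Γ) ≤ pCore p Γ
  coatom : IsCoatom M
  sylLe : (T : Subgroup Γ) ≤ M
  uniq : ∀ H : Subgroup Γ, (T : Subgroup Γ) ≤ H → H ≠ ⊤ → H ≤ M
  noChar : ∀ K : Subgroup Γ, K ≤ (T : Subgroup Γ) → K ≠ ⊥ →
    (K.subgroupOf (T : Subgroup Γ)).Characteristic → ¬ K.Normal

theorem sylow_le_normalizer_char {T B : Subgroup Γ} (hBT : B ≤ T)
    (hB : (B.subgroupOf T).Characteristic) : T ≤ normalizer (B : Set Γ) := by
  haveI := hB
  intro t ht
  refine CfsgLib.Fusion.mem_normalizer_of_forall fun x hx => ?_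
  exact (normal_of_characteristic (B.subgroupOf T)).conj_mem ⟨x, hBT hx⟩ hx ⟨t, ht⟩

namespace Ctx

variable {T : Sylow p Γ} {M : Subgroup Γ} (c : Ctx T M)
include c

theorem sylow_ne_bot : (T : Subgroup Γ) ≠ ⊥ := by
  intro e
  have hP : pCore p Γ = ⊥ := le_bot_iff.1 (e ▸ CfsgLib.Cores.pCore_le_sylow T)
  have h1 : (⊤ : Subgroup Γ) ≤ ⊥ := by
    refine le_trans ?_ (hP ▸ c.cP)
    intro g _
    exact mem_centralizer_iff.2 fun y hy => by
      rw [coe_bot, Set.mem_singleton_iff] at hy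
      rw [hy, one_mul, mul_one]
  exact c.coatom.1 (top_unique (h1.trans bot_le))

theorem not_normal : ¬ (T : Subgroup Γ).Normal :=
  c.noChar _ le_rfl c.sylow_ne_bot (by rw [subgroupOf_self]; infer_instance)

/-- A subgroup normalised by `T` and by something outside `M` is normal. -/
theorem normal_of_normalized {K X : Subgroup Γ} (hT : (T : Subgroup Γ) ≤ normalizer (K : Set Γ))
    (hX : X ≤ normalizer (K : Set Γ)) (hXM : ¬ X ≤ M) : K.Normal := by
  refine normalizer_eq_top_iff.1 ?_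
  by_contra hne
  exact hXM (hX.trans (c.uniq _ hT hne))

theorem isPMinimal : IsPMinimal p Γ := by
  intro S
  obtain ⟨g, hg⟩ := MulAction.exists_smul_eq Γ T S
  have hS : (S : Subgroup Γ) = (T : Subgroup Γ).map (MulAut.conj g).toMonoidHom := by
    rw [← hg, Sylow.coe_subgroup_smul]; rfl
  refine ⟨fun hn => c.not_normal ?_, ?_⟩
  · have h1 : (T : Subgroup Γ) = (S : Subgroup Γ).map (MulAut.conj g⁻¹).toMonoidHom := by
      rw [hS, map_map]; ext x; simp [mul_assoc]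
    have h2 : conjSub g⁻¹ (S : Subgroup Γ) = (S : Subgroup Γ) :=
      conjSub_eq_iff_mem_normalizer.2 (by rw [normalizer_eq_top_iff.2 hn]; trivial)
    rw [show (T : Subgroup Γ) = (S : Subgroup Γ) from h1.trans h2]
    exact hn
  · refine ⟨M.map (MulAut.conj g).toMonoidHom, ⟨CfsgLib.LocalEven.MinOver.isCoatom_map_conj c.coatom g,
      hS ▸ Subgroup.map_mono c.sylLe⟩, ?_⟩
    rintro M' ⟨hM', hSM'⟩
    have h1 : (T : Subgroup Γ) ≤ M'.map (MulAut.conj g⁻¹).toMonoidHom := fun x hx =>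
      ⟨g * x * g⁻¹, hSM' (hS ▸ ⟨x, hx, rfl⟩), by simp [mul_assoc]⟩
    have h2 := CfsgLib.LocalEven.MinOver.isCoatom_map_conj hM' g⁻¹
    have h3 : M'.map (MulAut.conj g⁻¹).toMonoidHom = M :=
      ((h2.le_iff.1 (c.uniq _ h1 h2.1)).resolve_left c.coatom.1).symm
    rw [← h3, map_map]; ext x; simp [mul_assoc]

theorem center_le_pCore : (T : Subgroup Γ) ⊓ centralizer ((T : Subgroup Γ) : Set Γ) ≤ pCore p Γ :=
  (inf_le_right.trans (centralizer_le (CfsgLib.Cores.pCore_le_sylow T))).trans c.cP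

theorem center_ne_bot : (T : Subgroup Γ) ⊓ centralizer ((T : Subgroup Γ) : Set Γ) ≠ ⊥ := by
  haveI : Nontrivial ↥(T : Subgroup Γ) := (nontrivial_iff_ne_bot _).2 c.sylow_ne_bot
  obtain ⟨z, hz⟩ := (nontrivial_iff_exists_ne_one _).1 T.2.center_nontrivial
  intro e
  refine hz.2 (Subtype.ext ?_)
  have : (z : Γ) ∈ (T : Subgroup Γ) ⊓ centralizer ((T : Subgroup Γ) : Set Γ) :=
    ⟨z.2, mem_centralizer_iff.2 fun g hg => congrArg Subtype.val (mem_center_iff.1 hz.1 ⟨g, hg⟩)⟩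
  rwa [e, mem_bot] at this

theorem exists_center_order : ∃ z ∈ (T : Subgroup Γ), z ≠ 1 ∧ z ^ p = 1 ∧
    ∀ t ∈ (T : Subgroup Γ), t * z = z * t := by
  haveI : Nontrivial ↥((T : Subgroup Γ) ⊓ centralizer ((T : Subgroup Γ) : Set Γ) : Subgroup Γ) :=
    (nontrivial_iff_ne_bot _).2 c.center_ne_bot
  obtain ⟨k, hk, hcard⟩ := ((T.2.to_le inf_le_left).nontrivial_iff_card).1 ‹_›
  obtain ⟨z, hz⟩ := exists_prime_orderOf_dvd_card' (G := ↥((T : Subgroup Γ) ⊓
    centralizer ((T : Subgroup Γ) : Set Γ) : Subgroup Γ)) p (hcard ▸ dvd_pow_self p (by omega))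
  refine ⟨z, z.2.1, fun e => ?_, ?_, fun t ht => mem_centralizer_iff.1 z.2.2 t ht⟩
  · rw [← Subgroup.orderOf_coe, e, orderOf_one] at hz
    exact hp.out.one_lt.ne hz
  · have h1 := pow_orderOf_eq_one z
    rw [hz] at h1
    exact congrArg Subtype.val h1

theorem centralizer_omega_le : centralizer (omegaOneCenter p (T : Subgroup Γ) : Set Γ) ≤ M := by
  set Z := omegaOneCenter p (T : Subgroup Γ) with hZ
  have hZT : Z ≤ (T : Subgroup Γ) := CfsgLib.LocalEven.Oz.le_self _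
  refine c.uniq _ (fun t ht => mem_centralizer_iff.2 fun x hx =>
    ((CfsgLib.LocalEven.Oz.mem_iff.1 hx).2.1 t ht).symm) fun htop => ?_
  obtain ⟨z, hzT, hz1, hzp, hzc⟩ := c.exists_center_order
  refine c.noChar Z hZT (fun e => hz1 ?_) ?_ ?_
  · exact mem_bot.1 (e ▸ CfsgLib.LocalEven.Oz.mem_iff.2 ⟨hzT, hzc, hzp⟩)
  · refine characteristic_iff_map_le.2 fun φ => ?_
    rintro _ ⟨x, hx, rfl⟩
    obtain ⟨-, hxc, hxp⟩ := CfsgLib.LocalEven.Oz.mem_iff.1 hx
    refine CfsgLib.LocalEven.Oz.mem_iff.2 ⟨(φ x).2, fun t ht => ?_, ?_⟩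
    · have h1 : φ.symm ⟨t, ht⟩ * x = x * φ.symm ⟨t, ht⟩ := Subtype.ext (hxc _ (φ.symm ⟨t, ht⟩).2)
      have h2 := congrArg φ h1
      rw [map_mul, map_mul, φ.apply_symm_apply] at h2
      exact congrArg Subtype.val h2
    · have h1 : x ^ p = 1 := Subtype.ext hxp
      exact congrArg Subtype.val (show (φ x) ^ p = 1 by rw [← map_pow, h1, map_one])
  · exact CfsgLib.LocalEven.RankOne.normal_of_le_center fun x hx => mem_center_iff.2 fun g =>
      (mem_centralizer_iff.1 (htop.ge (mem_top g)) x hx).symm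

theorem cStarStar_ne_top : cStarStarOf p (T : Subgroup Γ) ≠ ⊤ := by
  refine fun e => c.coatom.1 (top_unique (e.ge.trans (sup_le c.centralizer_omega_le ?_)))
  set J := thompsonSubgroupOf p (T : Subgroup Γ) with hJ
  have hJT : J ≤ (T : Subgroup Γ) := map_subtype_le _
  have hJc : (J.subgroupOf (T : Subgroup Γ)).Characteristic := by
    rw [hJ, show (thompsonSubgroupOf p (T : Subgroup Γ)).subgroupOf (T : Subgroup Γ) =
      thompsonSubgroup p ↥(T : Subgroup Γ) from comap_map_eq_self_of_injective (subtype_injective _) _]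
    exact CfsgLib.Transfer.thompsonSubgroup_characteristic p
  refine c.uniq _ (sylow_le_normalizer_char hJT hJc) fun htop => c.noChar J hJT ?_ hJc
    (normalizer_eq_top_iff.1 htop)
  obtain ⟨z, hzT, hz1, hzp, hzc⟩ := c.exists_center_order
  intro hbot
  obtain ⟨A, hA⟩ := CfsgLib.PStab.maxAdm_nonempty p (T : Subgroup Γ)
  have hz := CfsgLib.PStab.mem_of_commute_maxAdm (p := p) (Or.inr rfl) hA hzT hzp
    fun a ha => (hzc a (hA.1 ha)).symm
  have h1 := CfsgLib.PStab.le_jGen hA hz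
  rw [← CfsgLib.PStab.thompsonSubgroupOf_eq_jGen, ← hJ, hbot] at h1
  exact hz1 (mem_bot.1 h1)

end Ctx

/-- What is used of one block. -/
structure Block (T : Sylow p Γ) (M : Subgroup Γ) (F : Type) [Field F] (n : ℕ) (E E0 : Subgroup Γ)
    (ρ : ↥E →* Matrix.SpecialLinearGroup (Fin 2) F) : Prop where
  eqBlocks : E = blocks p Γ
  normal : E.Normal
  pCore_le : pCore p Γ ≤ E
  pos : 1 ≤ n
  le : E0 ≤ E
  norm : E ≤ normalizer (E0 : Set Γ)
  notLe : ¬ E0 ≤ M
  onto : ∀ w, ∃ e : ↥E, (e : Γ) ∈ E0 ∧ ρ e = w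
  move : ∀ e : ↥E, (e : Γ) ∈ E0 →
    ρ e ∈ normalizer ((((T : Subgroup Γ) ⊓ E).subgroupOf E).map ρ : Set (Matrix.SpecialLinearGroup (Fin 2) F)) → (e : Γ) ∈ M
  central : ∀ z : ↥E, (z : Γ) ∈ E0 → ρ z ∈ center (Matrix.SpecialLinearGroup (Fin 2) F) →
    ∃ N : Subgroup Γ, N.Normal ∧ N ≤ M ∧ (z : Γ) ∈ N

theorem Ctx.exists_block {T : Sylow p Γ} {M : Subgroup Γ} (c : Ctx T M) :
    ∃ (F : Type) (_ : Field F) (_ : Fintype F) (n : ℕ) (E E0 : Subgroup Γ)
      (ρ : ↥E →* Matrix.SpecialLinearGroup (Fin 2) F), Fintype.card F = p ^ n ∧ Block T M F n E E0 ρ := by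
  classical
  set V := omegaOneCenter p (pCore p Γ) with hV
  set C := centralizer (V : Set Γ) with hC
  obtain ⟨r, Ei, hCE, hgen, hsup, hcomm, hind, hconj, -, -, hblk⟩ :=
    Cfsg.Agent.S2981.result c.isPMinimal c.cP T c.cStarStar_ne_top
  rw [← hV, ← hC] at *
  haveI hVn : V.Normal := by
    haveI := CfsgLib.Cores.pCore_characteristic (G := Γ) p
    exact normalizer_eq_top_iff.1 (top_le_iff.1
      ((normalizer_eq_top (H := pCore p Γ)).ge.trans (CfsgLib.LocalEven.Oz.normalizer_le _)))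
  haveI hCn : C.Normal := by rw [hC]; infer_instance
  have hPC : pCore p Γ ≤ C := fun q hq => mem_centralizer_iff.2 fun v hv =>
    ((CfsgLib.LocalEven.Oz.mem_iff.1 hv).2.1 q hq).symm
  have hZV : omegaOneCenter p (T : Subgroup Γ) ≤ V := by
    intro z hz
    obtain ⟨hzT, hzc, hzp⟩ := CfsgLib.LocalEven.Oz.mem_iff.1 hz
    have hzQ : z ∈ pCore p Γ := c.center_le_pCore ⟨hzT, mem_centralizer_iff.2 fun t ht => hzc t ht⟩
    exact CfsgLib.LocalEven.Oz.mem_iff.2 ⟨hzQ, fun q hq => hzc q (CfsgLib.Cores.pCore_le_sylow T hq), hzp⟩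
  have hCM : C ≤ M := (centralizer_le hZV).trans c.centralizer_omega_le
  set E := blocks p Γ with hE
  have hsup' : (⨆ i, Ei i) = E := hsup
  haveI hEn : E.Normal := by
    haveI := CfsgLib.Transfer.thompsonSubgroup_normal_inst' (G := Γ) p
    haveI h2 : (centralizer (omegaOneCenter p (pCore p Γ) : Set Γ)).Normal := hCn
    rw [hE, blocks]
    infer_instance
  have hEiE : ∀ i, Ei i ≤ E := fun i => (le_iSup Ei i).trans hsup'.le
  have hET : ∀ H : Subgroup Γ, (T : Subgroup Γ) ≤ H → E ≤ H → H = ⊤ := fun H h1 h2 =>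
    top_unique (hgen.ge.trans (sup_le (sup_le ((le_sup_left : _ ≤ E).trans h2) h1) ((le_sup_right : C ≤ E).trans h2)))
  obtain ⟨i0⟩ : Nonempty (Fin r) := by
    by_contra hr
    rw [not_nonempty_iff] at hr
    refine c.coatom.1 (hET M c.sylLe ?_)
    rw [← hsup', iSup_of_empty]
    exact bot_le
  set E0 := Ei i0 with hE0
  set O := C ⊔ ⨆ j ∈ {j | j ≠ i0}, Ei j with hO
  have hCE0 : C ≤ E0 := hCE i0
  have hnorm : E ≤ normalizer (E0 : Set Γ) := by
    rw [← hsup']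
    refine iSup_le fun j => ?_
    rcases eq_or_ne j i0 with rfl | hj
    · exact le_normalizer
    intro e he
    refine CfsgLib.Fusion.mem_normalizer_of_forall fun x hx => ?_
    rw [show e * x * e⁻¹ = ⁅e, x⁆ * x by rw [commutatorElement_def]; group]
    exact mul_mem (hCE0 (hcomm j i0 hj (commutator_mem_commutator he hx))) hx
  have hOc : O ≤ modStab C E0 := by
    refine sup_le (fun x hx w _ => ?_) (iSup₂_le fun j hj x hx w hw => hcomm j i0 hj (commutator_mem_commutator hx hw))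
    rw [show ⁅x, w⁆ = x * (w * x⁻¹ * w⁻¹) by rw [commutatorElement_def]; group]
    exact mul_mem hx (hCn.conj_mem _ (inv_mem hx) w)
  have hOE : O ≤ E := sup_le le_sup_right (iSup₂_le fun j _ => hEiE j)
  have hEO : E ≤ normalizer (O : Set Γ) := by
    rw [← hsup']
    refine iSup_le fun j => ?_
    rcases eq_or_ne j i0 with rfl | hj
    · intro e he
      refine CfsgLib.Fusion.mem_normalizer_of_forall fun x hx => ?_
      rw [show e * x * e⁻¹ = ⁅x, e⁆⁻¹ * x by rw [commutatorElement_def]; group]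
      exact mul_mem (inv_mem (mem_sup_left (hOc hx e he))) hx
    · exact ((le_iSup₂ (f := fun j (_ : j ∈ {j | j ≠ i0}) => Ei j) j hj).trans le_sup_right).trans le_normalizer
  have hE0O : E0 ⊓ O = C := by
    refine le_antisymm (fun x hx => ?_) (le_inf hCE0 le_sup_left)
    obtain ⟨k, hk, o, ho, rfl⟩ := CfsgLib.Solvable.exists_mul_of_mem_sup (K := C)
      (A := ⨆ j ∈ {j | j ≠ i0}, Ei j) (by rw [normalizer_eq_top C]; exact le_top) hx.2
    exact mul_mem hk (hind i0 ⟨by simpa using mul_mem (inv_mem (hCE0 hk)) hx.1, ho⟩)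
  -- the homomorphism
  obtain ⟨n, hn, hcase⟩ := hblk i0
  obtain ⟨F, iF, iFF, hF, ⟨hCn0, ⟨q⟩⟩, -⟩ := hcase.resolve_right fun h => c.hp2 h.1
  haveI := hCn0
  set f : ↥E0 →* Matrix.SpecialLinearGroup (Fin 2) F :=
    q.toMonoidHom.comp (QuotientGroup.mk' (C.subgroupOf E0)) with hf
  have hfk : ∀ x : ↥E0, f x = 1 ↔ (x : Γ) ∈ C := fun x => by
    show q (QuotientGroup.mk' _ x) = 1 ↔ _
    rw [MulEquiv.map_eq_one_iff]
    exact QuotientGroup.eq_one_iff x
  haveI hOn : (O.subgroupOf E).Normal := normal_subgroupOf_of_le_normalizer hEO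
  set ι : ↥E0 →* ↥E ⧸ O.subgroupOf E := (QuotientGroup.mk' _).comp (Subgroup.inclusion (hEiE i0)) with hι
  have hιk : ι.ker = f.ker := by
    ext x
    rw [MonoidHom.mem_ker, MonoidHom.mem_ker, hfk, ← hE0O]
    exact ⟨fun h => ⟨x.2, ((QuotientGroup.eq_one_iff _).1 h : _)⟩, fun h => (QuotientGroup.eq_one_iff _).2 h.2⟩
  have hιs : Function.Surjective ι := by
    intro y
    obtain ⟨y, rfl⟩ := QuotientGroup.mk'_surjective _ y
    have hy : (y : Γ) ∈ E0 ⊔ O := by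
      refine (hsup'.ge.trans (iSup_le fun j => ?_)) y.2
      rcases eq_or_ne j i0 with rfl | hj
      · exact le_sup_left
      · exact ((le_iSup₂ (f := fun j (_ : j ∈ {j | j ≠ i0}) => Ei j) j hj).trans le_sup_right).trans le_sup_right
    rw [sup_comm] at hy
    obtain ⟨o, ho, e, he, hye⟩ := CfsgLib.Solvable.exists_mul_of_mem_sup (K := O) (A := E0)
      ((hEiE i0).trans hEO) hy
    refine ⟨⟨e, he⟩, ?_⟩
    show QuotientGroup.mk' _ _ = QuotientGroup.mk' _ y
    rw [show y = (⟨o, hOE ho⟩ : ↥E) * ⟨e, hEiE i0 he⟩ from Subtype.ext hye, map_mul,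
      show QuotientGroup.mk' (O.subgroupOf E) ⟨o, hOE ho⟩ = 1 from (QuotientGroup.eq_one_iff _).2 ho, one_mul]
    rfl
  have hfs : Function.Surjective f := q.surjective.comp (QuotientGroup.mk'_surjective _)
  set ρ : ↥E →* Matrix.SpecialLinearGroup (Fin 2) F :=
    ((ι.liftOfSurjective hιs) ⟨f, hιk.le⟩).comp (QuotientGroup.mk' (O.subgroupOf E)) with hρ
  have hρf : ∀ x : ↥E0, ρ (Subgroup.inclusion (hEiE i0) x) = f x := fun x =>
    MonoidHom.liftOfRightInverse_comp_apply ι _ (Function.rightInverse_surjInv hιs) ⟨f, hιk.le⟩ x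
  have hρO : ∀ x : ↥E, (x : Γ) ∈ O → ρ x = 1 := fun x hx => by
    show ((ι.liftOfSurjective hιs) ⟨f, hιk.le⟩) (QuotientGroup.mk' _ x) = 1
    rw [show QuotientGroup.mk' (O.subgroupOf E) x = 1 from (QuotientGroup.eq_one_iff _).2 hx, map_one]
  have hρs : Function.Surjective ρ := fun w => by
    obtain ⟨x, hx⟩ := hfs w
    exact ⟨_, (hρf x).trans hx⟩
  have hkerC : ∀ e : ↥E, (e : Γ) ∈ E0 → ρ e = 1 → (e : Γ) ∈ C := fun e he h1 =>
    (hfk ⟨e, he⟩).1 ((hρf ⟨e, he⟩).symm.trans h1)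
  have hkerO : ∀ e : ↥E, ρ e = 1 → (e : Γ) ∈ O := fun e he => by
    obtain ⟨x, hx⟩ := hιs (QuotientGroup.mk' _ e)
    have h1 : f x = 1 := by
      rw [← hρf]
      show ((ι.liftOfSurjective hιs) ⟨f, hιk.le⟩) (ι x) = 1
      rw [hx]; exact he
    have h2 : ι x = 1 := (MonoidHom.mem_ker (f := ι)).1 (hιk.ge h1)
    rw [h2] at hx
    exact (QuotientGroup.eq_one_iff e).1 hx.symm
  -- the Sylow subgroup of `E`
  set T0 := (T : Subgroup Γ) ⊓ E with hT0
  have hT0i : ¬ p ∣ T0.relIndex E := CfsgLib.LocalEven.ZJFusion.not_dvd_relIndex_inf (K := ⊤) T.2 le_top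
    (by rw [relIndex_top_right]; exact T.not_dvd_index) le_top (by rw [normalizer_eq_top E])
  have hTT0 : (T : Subgroup Γ) ≤ normalizer (T0 : Set Γ) :=
    le_trans (le_inf le_normalizer (by rw [normalizer_eq_top E]; exact le_top)) (inf_normalizer_le_normalizer_inf)
  have hT0C : ¬ T0.Normal := by
    intro hn
    have h1 : T0 ≤ C := (CfsgLib.Cores.le_pCore (T.2.to_le inf_le_left)).trans hPC
    let Q : Sylow p ↥E := (T.2.to_le (inf_le_left : T0 ≤ _)).comap_subtype.toSylow hT0i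
    have hQ : (Q : Subgroup ↥E) = T0.subgroupOf E := IsPGroup.toSylow_coe _ _
    obtain ⟨k, hk⟩ : p ∣ Nat.card (Matrix.SpecialLinearGroup (Fin 2) F) := by
      have hinj : Function.Injective (CfsgLib.LocalEven.RankOne.upperHom (F := F)) := fun a b e => by
        have h1 := congrArg (fun x : Matrix.SpecialLinearGroup (Fin 2) F => x.1 0 1) e
        simpa [CfsgLib.LocalEven.RankOne.upperHom, CfsgLib.LocalEven.FaithfulBound.upper01] using h1
      refine (dvd_pow_self p (by omega : n ≠ 0)).trans ?_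
      rw [← hF, ← Nat.card_eq_fintype_card, ← Nat.card_congr Multiplicative.toAdd,
        Nat.card_congr (MonoidHom.ofInjective hinj).toEquiv]
      exact Subgroup.card_subgroup_dvd_card _
    have hbot : (Q : Subgroup ↥E).map ρ = ⊥ := by
      rw [hQ, Subgroup.map_eq_bot_iff]
      exact fun x hx => hρO x (mem_sup_left (h1 hx))
    have h2 := (Q.mapSurjective hρs).not_dvd_index
    rw [Sylow.coe_mapSurjective, hbot, index_bot] at h2
    exact h2 ⟨k, hk⟩
  have hNT0 : normalizer (T0 : Set Γ) ≤ M :=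
    c.uniq _ hTT0 fun e => hT0C (normalizer_eq_top_iff.1 e)
  have hmove : ∀ x : Γ, (∀ t ∈ T0, x * t * x⁻¹ ∈ T0 ⊔ C) → x ∈ M := by
    intro x hx
    have hle : T0 ⊔ C ≤ E := sup_le inf_le_right le_sup_right
    have hi : ¬ p ∣ T0.relIndex (T0 ⊔ C) := fun hd =>
      hT0i (hd.trans (Dvd.intro _ (relIndex_mul_relIndex _ _ _ le_sup_left hle)))
    have hxle : conjSub x T0 ≤ T0 ⊔ C := by
      rintro _ ⟨t, ht, rfl⟩; exact hx t ht
    have hi' : ¬ p ∣ (conjSub x T0).relIndex (T0 ⊔ C) := by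
      intro hd
      refine hi ?_
      have e1 : Nat.card ↥(conjSub x T0) = Nat.card ↥T0 := CfsgLib.Fusion.card_conjSub x _
      have e2 := relIndex_mul_relIndex ⊥ _ _ bot_le hxle
      have e3 := relIndex_mul_relIndex ⊥ T0 (T0 ⊔ C) bot_le le_sup_left
      rw [relIndex_bot_left, relIndex_bot_left, e1] at e2
      rw [relIndex_bot_left, relIndex_bot_left, ← e2] at e3
      rwa [Nat.eq_of_mul_eq_mul_left Nat.card_pos e3]
    obtain ⟨h, hh, e⟩ := CfsgLib.Techniques.Functor.exists_conjSub_eq ((T.2.to_le inf_le_left).map _) hxle hi'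
      (T.2.to_le (inf_le_left : T0 ≤ _)) le_sup_left hi
    change conjSub h (conjSub x T0) = T0 at e
    rw [conjSub_conjSub, conjSub_eq_iff_mem_normalizer] at e
    have hhM : h ∈ M := (sup_le (inf_le_left.trans c.sylLe) hCM) hh
    simpa using mul_mem (inv_mem hhM) (hNT0 e)
  refine ⟨F, iF, iFF, n, E, E0, ρ, hF, rfl, hEn, hPC.trans le_sup_right, hn, hEiE i0, hnorm, fun hle => ?_,
    fun w => ?_, fun e he hρe => ?_, fun z hz hρz => ?_⟩
  · refine c.coatom.1 (hET M c.sylLe ?_)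
    rw [← hsup']
    refine iSup_le fun j => ?_
    obtain ⟨t, ht, hte⟩ := hconj i0 j
    rw [← hte]
    rintro _ ⟨x, hx, rfl⟩
    exact mul_mem (mul_mem (c.sylLe ht) (hle hx)) (inv_mem (c.sylLe ht))
  · obtain ⟨x, hx⟩ := hfs w
    exact ⟨_, x.2, (hρf x).trans hx⟩
  · refine hmove e fun t ht => ?_
    have hAn : (E0.subgroupOf E).Normal := normal_subgroupOf_of_le_normalizer hnorm
    let Q : Sylow p ↥E := (T.2.to_le (inf_le_left : T0 ≤ _)).comap_subtype.toSylow hT0i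
    have hQ : (Q : Subgroup ↥E) = T0.subgroupOf E := IsPGroup.toSylow_coe _ _
    obtain ⟨A, hA⟩ := CfsgLib.LocalEven.exists_sylow_eq_inf_of_isSubnormal Q hAn.isSubnormal
    have hAs : Function.Surjective (ρ.comp (E0.subgroupOf E).subtype) := fun w => by
      obtain ⟨x, hx⟩ := hfs w
      exact ⟨⟨_, (x.2 : (Subgroup.inclusion (hEiE i0) x : Γ) ∈ E0)⟩, (hρf x).trans hx⟩
    have hAQ : (A : Subgroup _).map (ρ.comp (E0.subgroupOf E).subtype) ≤ (T0.subgroupOf E).map ρ := by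
      rintro _ ⟨y, hy, rfl⟩
      exact ⟨y, hQ ▸ (hA.le hy : (y : ↥E) ∈ (Q : Subgroup ↥E)), rfl⟩
    have heq : (A : Subgroup _).map (ρ.comp (E0.subgroupOf E).subtype) = (T0.subgroupOf E).map ρ := by
      refine ((A.mapSurjective hAs).3 ?_ ?_).symm
      · exact (T.2.to_le (inf_le_left : T0 ≤ _)).comap_subtype.map ρ
      · rw [Sylow.coe_mapSurjective]; exact hAQ
    -- split `t`
    obtain ⟨a, ha, hat⟩ : ρ ⟨t, ht.2⟩ ∈ (A : Subgroup _).map (ρ.comp (E0.subgroupOf E).subtype) :=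
      heq ▸ mem_map_of_mem ρ (show (⟨t, ht.2⟩ : ↥E) ∈ T0.subgroupOf E from ht)
    have haT : ((a : ↥E) : Γ) ∈ T0 := mem_subgroupOf.1 (hQ ▸ (hA.le ha : (a : ↥E) ∈ (Q : Subgroup ↥E)))
    have haE0 : ((a : ↥E) : Γ) ∈ E0 := a.2
    set o : ↥E := (a : ↥E)⁻¹ * ⟨t, ht.2⟩ with ho
    have hoO : (o : Γ) ∈ O := hkerO o (by rw [ho, map_mul, map_inv, show ρ (a : ↥E) = ρ ⟨t, ht.2⟩ from hat, inv_mul_cancel])
    have hoT : (o : Γ) ∈ T0 := mul_mem (inv_mem haT) ht
    -- the conjugate of `a`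
    obtain ⟨a', ha', hat'⟩ : ρ (e * (a : ↥E) * e⁻¹) ∈ (A : Subgroup _).map (ρ.comp (E0.subgroupOf E).subtype) := by
      rw [heq, map_mul, map_mul, map_inv]
      exact (mem_normalizer_iff.1 hρe _).1 (mem_map_of_mem ρ (show (a : ↥E) ∈ T0.subgroupOf E from haT))
    have ha'T : ((a' : ↥E) : Γ) ∈ T0 := mem_subgroupOf.1 (hQ ▸ (hA.le ha' : (a' : ↥E) ∈ (Q : Subgroup ↥E)))
    have ha'C : ((a' : ↥E) : Γ)⁻¹ * ((e : Γ) * (a : ↥E) * (e : Γ)⁻¹) ∈ C := by
      refine hkerC ((a' : ↥E)⁻¹ * (e * (a : ↥E) * e⁻¹)) (mul_mem (inv_mem a'.2) (mul_mem (mul_mem he haE0) (inv_mem he))) ?_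
      rw [map_mul, map_inv, show ρ (a' : ↥E) = ρ (e * (a : ↥E) * e⁻¹) from hat', inv_mul_cancel]
    have hsplit : (e : Γ) * t * (e : Γ)⁻¹ =
        ((a' : ↥E) : Γ) * (((a' : ↥E) : Γ)⁻¹ * ((e : Γ) * (a : ↥E) * (e : Γ)⁻¹)) * (⁅(o : Γ), (e : Γ)⁆⁻¹ * o) := by
      rw [ho, commutatorElement_def]; simp only [Subgroup.coe_mul, Subgroup.coe_inv]; group
    rw [hsplit]
    exact mul_mem (mul_mem (mem_sup_left ha'T) (mem_sup_right ha'C))
      (mul_mem (inv_mem (mem_sup_right (hOc hoO _ he))) (mem_sup_left hoT))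
  · refine ⟨modStab C E ⊓ E, inferInstance, fun x hx => hmove x fun t ht => ?_, ?_, z.2⟩
    · rw [show x * t * x⁻¹ = ⁅x, t⁆ * t by rw [commutatorElement_def]; group]
      exact mul_mem (mem_sup_right (hx.1 t ht.2)) (mem_sup_left ht)
    · intro x hx
      have h1 : ρ ⁅z, ⟨x, hx⟩⁆ = 1 := by
        rw [map_commutatorElement, commutatorElement_eq_one_iff_mul_comm]
        exact (mem_center_iff.1 hρz _).symm
      refine hkerC ⁅z, ⟨x, hx⟩⁆ ?_ h1
      show ⁅(z : Γ), x⁆ ∈ E0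
      rw [show ⁅(z : Γ), x⁆ = (z : Γ) * (x * (z : Γ)⁻¹ * x⁻¹) by rw [commutatorElement_def]; group]
      exact mul_mem hz ((mem_normalizer_iff.1 (hnorm hx) _).1 (inv_mem hz))

end CfsgLib.Techniques.CharTransfer
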