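import Cfsg.Agent.Lib.LocalEven.PMinFF.Blocks
import Cfsg.Agent.Lib.LocalEven.PMinFF.Moved

/-!
In a group with minimal offenders, a `p`-element of the Sylow subgroup fixing the common fixed points of
the minimal offenders of the Sylow subgroup is a product of them.
-/

set_option autoImplicit false
set_option linter.unusedSectionVars false

namespace CfsgLib.Techniques.CharTransfer

open CfsgLib.LocalEven.PMinFF
open CfsgLib.Fusion (conjSub mem_conjSub conj_mem_conjSub conjSub_conjSub conjSub_one card_conjSub conjSub_eq_iff_mem_normalizer)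
open CfsgLib.LocalEven.MinOffender (fx fx_anti mem_fx_conj)
open CfsgLib.LocalEven.StrongFF (fx_subgroupOf cm mem_cm)

variable {Γ : Type*} [Group Γ] [Finite Γ] {M : Type*} [AddCommGroup M] [DistribMulAction Γ M] [Finite M]
variable {p : ℕ} [Fact p.Prime] {T : Sylow p Γ} {Mx : Subgroup Γ}
variable (h : Setting p T Mx M)

/-- The join of the minimal offenders of `T`. -/
def offJoin (p : ℕ) (T : Sylow p Γ) (M : Type*) [AddCommGroup M] [DistribMulAction Γ M] : Subgroup Γ :=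
  ⨆ C : {C : Subgroup Γ // InT p T M C}, C.1

/-- The points fixed by every minimal offender of `T`. -/
def offFix (p : ℕ) (T : Sylow p Γ) (M : Type*) [AddCommGroup M] [DistribMulAction Γ M] : AddSubgroup M :=
  fx M (offJoin p T M)

theorem mem_offFix {v : M} : v ∈ offFix p T M ↔ ∀ C : Subgroup Γ, InT p T M C → v ∈ fx M C := by
  refine ⟨fun hv C hC => fx_anti (le_iSup (fun C : {C : Subgroup Γ // InT p T M C} => C.1) ⟨C, hC⟩) hv,
    fun hv => mem_fx_iSup fun C => hv C.1 C.2⟩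

include h

/-- An abelian offender of `T` lies in the join of the minimal ones. -/
theorem le_offJoin {B : Subgroup Γ} (hBT : B ≤ (T : Subgroup Γ)) (hcom : ∀ a ∈ B, ∀ b ∈ B, a * b = b * a)
    (hoff : Nat.card M ≤ Nat.card ↥B * Nat.card ↥(fx M B)) : B ≤ offJoin p T M :=
  (((h.bound (Nat.card ↥B + 1) B (Nat.lt_succ_self _) hBT hcom).2 hoff).2).trans (iSup_le fun C =>
    le_iSup (fun C : {C : Subgroup Γ // InT p T M C} => C.1) ⟨C.1, C.2.1⟩)

theorem cm_le_offFix {C : Subgroup Γ} (hC : InT p T M C) {a : Γ} (ha : a ∈ C) : cm M a ≤ offFix p T M :=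
  fun v hv => mem_offFix.2 fun B hB => by
    by_cases e : B = C
    · subst e; exact InT.cm_le h hC ha hv
    · exact fx_anti (InT.blk_min h hB).aLe (InT.cm_le_fix h hB hC (Ne.symm e) ha hv)

theorem mv_inf_le_offFix {C : Subgroup Γ} (hC : InT p T M C) :
    mv M (blk p T M C) ⊓ fx M C ≤ offFix p T M := fun v hv => mem_offFix.2 fun B hB => by
  by_cases e : B = C
  · subst e; exact hv.2
  · exact InT.mv_le_fix h hC hB e hv.1

variable {g : Γ} (hg : g ∈ (T : Subgroup Γ)) (hfix : ∀ v ∈ offFix p T M, g • v = v)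
include hg hfix

/-- Such an element normalises every minimal offender of `T`. -/
theorem conjSub_member {C : Subgroup Γ} (hC : InT p T M C) : conjSub g C = C := by
  by_contra hne
  obtain ⟨a, ha, ha1⟩ := InT.exists_ne_one h hC
  have hB : InT p T M (conjSub g C) := InT.conj h hC hg
  have hbot : cm M a = ⊥ := by
    refine (AddSubgroup.eq_bot_iff_forall _).2 fun v hv => InT.cm_disj h hC ha hv ?_
    have h1 : v ∈ cm M (g * a * g⁻¹) := by
      obtain ⟨m, rfl⟩ := mem_cm.1 hv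
      refine mem_cm.2 ⟨g • m, ?_⟩
      rw [mul_smul, mul_smul, inv_smul_smul, ← smul_sub]
      exact hfix _ (cm_le_offFix h hC ha (mem_cm.2 ⟨m, rfl⟩))
    exact InT.cm_le_fix h hC hB hne (conj_mem_conjSub ha) h1
  have h1 := InT.card_cm h hC ha ha1
  rw [hbot, AddSubgroup.card_bot] at h1
  exact hC.1.ne (Subgroup.eq_bot_of_card_eq C h1.symm)

/-- After multiplying with an element of one offender it is trivial on the module of its overgroup. -/
theorem exists_fix_mv {C : Subgroup Γ} (hC : InT p T M C) :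
    ∃ u ∈ C, ∀ v ∈ mv M (blk p T M C), (u⁻¹ * g) • v = v := by
  set L := blk p T M C with hL
  set J := others p T M C
  have hJ := InT.piece h hC
  have hA := InT.top h hC
  have hmin := InT.blk_min h hC
  have hLN := InT.blk_le h hC
  obtain ⟨x, hxL, hx, hgen⟩ := Top.exists_out h hJ hA hmin hLN
  have hgC := conjSub_member h hg hfix hC
  have hgL : conjSub g L = L := by rw [hL, ← blk_conj h hg, hgC]
  have hgxL : g * x * g⁻¹ ∈ L := hgL ▸ conj_mem_conjSub hxL
  have hgxM : g * x * g⁻¹ ∉ Mx := fun e => hx (by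
    have h1 := Mx.mul_mem (Mx.mul_mem (Mx.inv_mem (h.sylLe hg)) e) (h.sylLe hg)
    simpa [mul_assoc] using h1)
  obtain ⟨u, hu, hm⟩ := Top.exists_rep h hJ hA hmin hLN hxL hx (hLN hgxL) hgxM
  have hmN : (u * x)⁻¹ * (g * x * g⁻¹) ∈ Subgroup.normalizer (J : Set Γ) :=
    mul_mem (inv_mem (mul_mem (hA.le_norm hu) (hLN hxL))) (hLN hgxL)
  have hC' : conjSub (u⁻¹ * g) (conjSub x C) = conjSub x C := by
    have h1 := congrArg (conjSub x) (Top.conj_eq h hJ hA hmN hm)
    rw [conjSub_conjSub] at h1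
    nth_rewrite 1 [← hgC] at h1
    rw [conjSub_conjSub] at h1
    rw [conjSub_conjSub, ← h1]
    congr 1
    group
  refine ⟨u, hu, ?_⟩
  set g1 := u⁻¹ * g with hg1
  have huO : ∀ v ∈ offFix p T M, u • v = v := fun v hv => (mem_offFix.1 hv C hC) u hu
  have hg1fix : ∀ v ∈ offFix p T M, g1 • v = v := fun v hv => by
    rw [hg1, mul_smul, hfix v hv, inv_smul_eq_iff, huO v hv]
  have hg1T : g1 ∈ (T : Subgroup Γ) := mul_mem (inv_mem (hC.2 hu)) hg
  have hg1C : conjSub g1 C = C := conjSub_member h hg1T hg1fix hC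
  obtain ⟨a₀, ha₀, ha₀1, hcom⟩ := exists_central_mem (S := Subgroup.zpowers g1) (A := C)
    (T.2.to_le (Subgroup.zpowers_le.2 hg1T)) hC.1.pA hC.1.ne
    (Subgroup.zpowers_le.2 (conjSub_eq_iff_mem_normalizer.1 hg1C))
  set Y := fx M (conjSub x C) with hY
  have hsplit : ∀ m : M, ∃ v ∈ fx M C, ∃ w ∈ Y, v + w = m := by
    intro m
    obtain ⟨TL, hyp⟩ := Top.hyp h hJ hA hmin hLN
    obtain ⟨v, hv, w, hw, e⟩ := hyp.core.exists_add (x := ⟨x, hxL⟩) hx m
    refine ⟨v, ?_, w, mem_fx_conj.2 ?_, e.symm⟩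
    · rwa [fx_subgroupOf hmin.aLe] at hv
    · have h1 := mem_fx_conj.1 hw
      rw [fx_subgroupOf hmin.aLe] at h1
      exact h1
  have hgY : ∀ w ∈ Y, g1 • w ∈ Y := fun w hw => by
    rw [hY, ← hC']
    exact CfsgLib.LocalEven.MinOffender.smul_mem_fx_conj hw
  have hD : ∀ d, d ∈ fx M C → d ∈ Y → d ∈ fx M L := fun d h1 h2 => by
    have hle : L ≤ MulAction.stabilizer Γ d := hgen.ge.trans (sup_le (fun c hc => h1 c hc) fun c hc => h2 c hc)
    exact fun l hl => hle hl
  have hshift : ∀ w ∈ Y, g1 • w - w ∈ fx M L := fun w hw => by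
    refine hD _ (InT.fix_of h hC ha₀ ha₀1 ?_) (sub_mem (hgY w hw) hw)
    have h1 := hg1fix _ (cm_le_offFix h hC ha₀ (mem_cm.2 ⟨w, rfl⟩))
    rw [smul_sub, ← mul_smul, hcom g1 (Subgroup.mem_zpowers g1), mul_smul] at h1
    rw [smul_sub]
    exact sub_eq_sub_iff_sub_eq_sub.1 h1
  let U : AddSubgroup M :=
    { carrier := {v | g1 • v = v}
      zero_mem' := smul_zero g1
      add_mem' := fun {a b} (ha : g1 • a = a) (hb : g1 • b = b) => show g1 • (a + b) = a + b by rw [smul_add, ha, hb]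
      neg_mem' := fun {a} (ha : g1 • a = a) => show g1 • (-a) = -a by rw [smul_neg, ha] }
  suffices hU : mv M L ≤ U from fun v hv => hU hv
  refine mv_le_of_gen (S := (C : Set Γ) ∪ (conjSub x C : Set Γ)) ?_ ?_
  · rw [Subgroup.closure_union, Subgroup.closure_eq, Subgroup.closure_eq, hgen]
  rintro c (hc | hc) m
  · exact hg1fix _ (cm_le_offFix h hC hc (mem_cm.2 ⟨m, rfl⟩))
  obtain ⟨v, hv, w, hw, rfl⟩ := hsplit m
  obtain ⟨vm, hvm, vd, hvd, rfl⟩ := AddSubgroup.mem_sup.1 ((InT.mv_sup h hC).ge (AddSubgroup.mem_top v))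
  have hcL : c ∈ L := hgen.le (Subgroup.mem_sup_right hc)
  have hvmC : vm ∈ fx M C := by
    have h1 := sub_mem hv (fx_anti hmin.aLe hvd)
    rwa [add_sub_cancel_right] at h1
  have e : c • (vm + vd + w) - (vm + vd + w) = c • vm - vm := by
    rw [smul_add, smul_add, hvd c hcL, hw c hc]; abel
  show g1 • (c • (vm + vd + w) - (vm + vd + w)) = c • (vm + vd + w) - (vm + vd + w)
  rw [e]
  have hvm1 : g1 • vm = vm := hg1fix _ (mv_inf_le_offFix h hC ⟨hvm, hvmC⟩)
  obtain ⟨c₀, hc₀, hce⟩ := hc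
  have hce' : c = x * c₀ * x⁻¹ := hce.symm
  have hgc : g1 * c * g1⁻¹ ∈ conjSub x C := hC' ▸ conj_mem_conjSub (hce' ▸ conj_mem_conjSub hc₀)
  set d := g1 • (c • vm - vm) - (c • vm - vm) with hd
  have hcm : (c⁻¹ * (g1 * c * g1⁻¹)) • vm - vm = c⁻¹ • d := by
    have h1 : g1⁻¹ • vm = vm := by rw [inv_smul_eq_iff, hvm1]
    rw [hd, mul_smul, mul_smul, mul_smul, h1, smul_sub, smul_sub, smul_sub, smul_sub, hvm1, inv_smul_smul]
    abel
  have hdL : d ∈ fx M L := by
    obtain ⟨k, hk, e'⟩ : ∃ k ∈ fx M C, ∃ w' ∈ Y, k + w' = c • vm - vm := hsplit _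
    obtain ⟨w', hw', e''⟩ := e'
    obtain ⟨km, hkm, kd, hkd, rfl⟩ := AddSubgroup.mem_sup.1 ((InT.mv_sup h hC).ge (AddSubgroup.mem_top k))
    have hkmC : km ∈ fx M C := by
      have h1 := sub_mem hk (fx_anti hmin.aLe hkd)
      rwa [add_sub_cancel_right] at h1
    have hgkd : g1 • kd - kd ∈ fx M L := hshift kd (fun l hl => hkd l (hgen.le (Subgroup.mem_sup_right hl)))
    rw [hd, ← e'', smul_add, smul_add, hg1fix km (mv_inf_le_offFix h hC ⟨hkm, hkmC⟩)]
    rw [show km + g1 • kd + g1 • w' - (km + kd + w') = (g1 • kd - kd) + (g1 • w' - w') by abel]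
    exact add_mem hgkd (hshift w' hw')
  have hd0 : d = 0 := by
    set b := c⁻¹ * (g1 * c * g1⁻¹) with hb
    have hbC : b ∈ conjSub x C := mul_mem (inv_mem (hce' ▸ conj_mem_conjSub hc₀)) hgc
    rw [hdL c⁻¹ (inv_mem hcL)] at hcm
    obtain ⟨b₀, hb₀, hbe⟩ := hbC
    have h2 : x⁻¹ • d ∈ cm M b₀ := by
      refine mem_cm.2 ⟨x⁻¹ • vm, ?_⟩
      rw [← hcm, smul_sub, ← hbe]
      show b₀ • x⁻¹ • vm - x⁻¹ • vm = x⁻¹ • (x * b₀ * x⁻¹) • vm - x⁻¹ • vm
      rw [mul_smul, mul_smul, inv_smul_smul]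
    have hdx : x⁻¹ • d = d := hdL _ (inv_mem hxL)
    rw [hdx] at h2
    exact InT.cm_disj h hC hb₀ h2 hdL
  exact sub_eq_zero.1 (hd ▸ hd0)

/-- It lies in the join of the minimal offenders. -/
theorem mem_offJoin : g ∈ offJoin p T M := by
  classical
  haveI := Fintype.ofFinite {C : Subgroup Γ // InT p T M C}
  have key : ∀ S : Finset {C : Subgroup Γ // InT p T M C}, ∃ u ∈ offJoin p T M, u ∈ (T : Subgroup Γ) ∧
      ∀ C ∈ S, ∀ v ∈ mv M (blk p T M C.1), (u⁻¹ * g) • v = v := by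
    intro S
    induction S using Finset.induction_on with
    | empty => exact ⟨1, one_mem _, one_mem _, by simp⟩
    | insert k S hk ih =>
      obtain ⟨u, hu, huT, hS⟩ := ih
      have hfix' : ∀ v ∈ offFix p T M, (u⁻¹ * g) • v = v := fun v hv => by
        rw [mul_smul, hfix v hv, inv_smul_eq_iff, hv u hu]
      obtain ⟨c, hc, hck⟩ := exists_fix_mv h (mul_mem (inv_mem huT) hg) hfix' k.2
      have hcJ : c ∈ offJoin p T M := le_iSup (fun C : {C : Subgroup Γ // InT p T M C} => C.1) k hc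
      refine ⟨u * c, mul_mem hu hcJ, mul_mem huT (k.2.2 hc), fun C hC v hv => ?_⟩
      rw [mul_inv_rev, mul_assoc]
      rcases Finset.mem_insert.1 hC with rfl | hC
      · exact hck v hv
      · rw [mul_smul, hS C hC v hv, inv_smul_eq_iff]
        exact (InT.mv_le_fix h C.2 k.2 (fun e => hk ((Subtype.ext e : k = C) ▸ hC)) hv c hc).symm
  obtain ⟨u, hu, huT, hS⟩ := key Finset.univ
  have hdec : ∀ (S : Finset {C : Subgroup Γ // InT p T M C}) (v : M),
      ∃ w, (u⁻¹ * g) • w = w ∧ ∀ C ∈ S, v - w ∈ fx M C.1 := by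
    intro S
    induction S using Finset.induction_on with
    | empty => exact fun v => ⟨0, smul_zero _, by simp⟩
    | insert k S hk ih =>
      intro v
      obtain ⟨w, hw, hwS⟩ := ih v
      obtain ⟨y, hy, d, hd, e⟩ := AddSubgroup.mem_sup.1 ((InT.mv_sup h k.2).ge (AddSubgroup.mem_top (v - w)))
      refine ⟨w + y, by rw [smul_add, hw, hS k (Finset.mem_univ k) y hy], fun C hC => ?_⟩
      rw [sub_add_eq_sub_sub]
      rcases Finset.mem_insert.1 hC with rfl | hC
      · rw [show v - w - y = d by rw [← e]; abel]; exact fx_anti (InT.blk_min h C.2).aLe hd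
      · exact sub_mem (hwS C hC)
          (InT.mv_le_fix h k.2 C.2 (fun e => hk ((Subtype.ext e : C = k) ▸ hC)) hy)
  have h1 : u⁻¹ * g = 1 := h.faithful _ fun v => by
    obtain ⟨w, hw, hwC⟩ := hdec Finset.univ v
    have h2 : v - w ∈ offFix p T M := mem_offFix.2 fun C hC => hwC ⟨C, hC⟩ (Finset.mem_univ _)
    have h3 : (u⁻¹ * g) • (v - w) = v - w := by
      rw [mul_smul, hfix _ h2, inv_smul_eq_iff, h2 u hu]
    calc (u⁻¹ * g) • v = (u⁻¹ * g) • ((v - w) + w) := by rw [sub_add_cancel]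
      _ = v := by rw [smul_add, h3, hw, sub_add_cancel]
  rwa [← inv_mul_eq_one.1 h1]

end CfsgLib.Techniques.CharTransfer
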