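import Cfsg.Agent.Lib.LocalEven.RankOne.Pushing
import Cfsg.Agent.Lib.Techniques.CharTransfer.SLTwo

/-!
Sections on which `PSL₂(q)` acts with fixed points of a Sylow subgroup complemented by a conjugate are trivial.
-/

set_option autoImplicit false

namespace CfsgLib.Techniques.CharTransfer

open Subgroup Cfsg
open CfsgLib.Fusion (conjSub)
open CfsgLib.LocalEven.FaithfulBound

section Abstract

variable {p : ℕ} {M : Type*} [AddCommGroup M]

/-- An involution `W` and an element `U` of order a power of `p` with `(U W) ^ 3 = 1`: the fixed points of `U`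
have no complement which is their image under `W`, unless everything vanishes. -/
theorem eq_zero_of_relations [Fact p.Prime] (hp2 : p ≠ 2) (U W : M →+ M) {k : ℕ}
    (hU : ∀ x, (⇑U)^[p ^ k] x = x) (hM : ∀ x : M, ∃ j : ℕ, p ^ j • x = 0) (hW : ∀ x, W (W x) = x)
    (h3 : ∀ x, U (W (U (W (U (W x))))) = x) (E : AddSubgroup M) (hE : ∀ e ∈ E, U e = e)
    (hd : ∀ e ∈ E, ∀ f ∈ E, e = W f → e = 0) (hc : ∀ x, ∃ e ∈ E, ∃ f ∈ E, x = e + W f) :
    ∀ x : M, x = 0 := by
  have hp : p.Prime := Fact.out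
  have hinj : Function.Injective U := by
    intro a b hab
    have h1 := congrArg (⇑U)^[p ^ k - 1] hab
    rw [← Function.iterate_succ_apply, ← Function.iterate_succ_apply,
      show (p ^ k - 1).succ = p ^ k by have := pow_pos hp.pos k; omega, hU, hU] at h1
    exact h1
  -- `U W` maps no nonzero element of `E` into `E`
  have hz : ∀ h ∈ E, U (W h) ∈ E → h = 0 := by
    intro h hh hU'
    have h1 : W h = U (W h) := hinj (hE _ hU').symm
    have h2 := hd _ hU' h hh h1.symm
    rw [← h1] at h2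
    rw [← hW h, h2, map_zero]
  have step : ∀ e ∈ E, ∀ f ∈ E, ∀ g ∈ E, U (W e) = f + W g → U (W f) = -g + W e := by
    intro e he f hf g hg h1
    obtain ⟨f', hf', g', hg', h2⟩ := hc (U (W f))
    have h4 := h3 e
    simp only [h1, map_add, hW, h2, hE g hg, hE g' hg'] at h4
    have h5 : U (W (f' + g)) = e - g' := by rw [map_add, map_add, eq_sub_iff_add_eq, ← h4]; abel
    have h6 : f' + g = 0 := hz _ (add_mem hf' hg) (h5 ▸ sub_mem he hg')
    rw [h6, map_zero, map_zero, eq_comm, sub_eq_zero] at h5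
    rw [h2, h5, eq_neg_of_add_eq_zero_left h6]
  have cube : ∀ e ∈ E, ∃ h ∈ E, (⇑U)^[3] (W e) = h - W e := by
    intro e he
    obtain ⟨f, hf, g, hg, h1⟩ := hc (U (W e))
    have h2 := step e he f hf g hg h1
    have h3' := step f hf (-g) (neg_mem hg) e he h2
    simp only [map_neg] at h3'
    have h4 : U (W g) = e - W f := by
      rw [← neg_inj, h3']; abel
    refine ⟨f + e + g, add_mem (add_mem hf he) hg, ?_⟩
    show U (U (U (W e))) = _
    rw [h1, map_add, hE f hf, h4, map_add, map_sub, hE f hf, hE e he, h2]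
    abel
  have odd : ∀ e ∈ E, ∀ m : ℕ, (⇑U)^[6 * m + 3] (W e) + W e ∈ E := by
    intro e he m
    induction m with
    | zero =>
      obtain ⟨h, hh, e1⟩ := cube e he
      show (⇑U)^[3] (W e) + W e ∈ E
      rw [e1, sub_add_cancel]
      exact hh
    | succ m ih =>
      have h6 : (⇑U)^[6] (W e) - W e ∈ E := by
        obtain ⟨h, hh, e1⟩ := cube e he
        rw [show (6 : ℕ) = 3 + 3 from rfl, Function.iterate_add_apply, e1]
        show U (U (U (h - W e))) - W e ∈ E
        rw [map_sub, map_sub, map_sub, hE h hh, hE h hh, hE h hh, show U (U (U (W e))) = h - W e from e1]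
        simp
      have hfix : ∀ j : ℕ, ∀ x ∈ E, (⇑U)^[j] x = x := fun j x hx => Function.iterate_fixed (hE x hx) j
      have hsub : ∀ (j : ℕ) (x y : M), (⇑U)^[j] (x - y) = (⇑U)^[j] x - (⇑U)^[j] y := fun j => by
        induction j with
        | zero => intro x y; rfl
        | succ j ih' => intro x y; rw [Function.iterate_succ_apply, map_sub, ih']; rfl
      have e2 := hfix (6 * m + 3) _ h6
      rw [hsub, ← Function.iterate_add_apply, show 6 * m + 3 + 6 = 6 * (m + 1) + 3 by ring] at e2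
      have h7 := add_mem h6 ih
      rw [← e2, ← add_assoc, sub_add_cancel] at h7
      exact h7
  obtain ⟨m, hm⟩ : ∃ m, 3 * p ^ k = 6 * m + 3 := by
    obtain ⟨m, hm⟩ := (hp.odd_of_ne_two hp2).pow (n := k)
    exact ⟨m, by rw [hm]; ring⟩
  have hE0 : ∀ e ∈ E, e = 0 := by
    intro e he
    have h1 := odd e he m
    rw [← hm, Function.iterate_mul] at h1
    have hfix : ((⇑U)^[3])^[p ^ k] (W e) = W e := by
      rw [← Function.iterate_mul, mul_comm, Function.iterate_mul]
      exact Function.iterate_fixed (hU _) 3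
    rw [hfix, ← map_add] at h1
    have h2 : W (e + e) = 0 := hd _ h1 (e + e) (add_mem he he) rfl
    have h3' : (2 : ℕ) • e = 0 := by rw [two_nsmul, ← hW (e + e), h2, map_zero]
    obtain ⟨j, hj⟩ := hM e
    obtain ⟨r, hr⟩ := (hp.odd_of_ne_two hp2).pow (n := j)
    rw [hr, succ_nsmul, mul_comm, mul_nsmul', h3', smul_zero, zero_add] at hj
    exact hj
  intro x
  obtain ⟨e, he, f, hf, rfl⟩ := hc x
  rw [hE0 e he, hE0 f hf, map_zero, add_zero]

end Abstract

section Pair

variable {G : Type*} [Group G] [Finite G] {p : ℕ} [hp : Fact p.Prime]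

/-- A `p`-element and an involution in the shape of the generators of `PSL₂(q)`. -/
theorem exists_pair (S : Sylow p G) (K : Subgroup G) [K.Normal] {F : Type} [Field F] [Fintype F] {n : ℕ}
    (hn : 1 ≤ n) (hF : Fintype.card F = p ^ n)
    (e : G ⧸ K ≃* Matrix.ProjectiveSpecialLinearGroup (Fin 2) F) :
    ∃ u ∈ (S : Subgroup G), ∃ w : G, w * w ∈ K ∧ u * w * (u * w) * (u * w) ∈ K ∧
      (S : Subgroup G) ⊔ conjSub w S ⊔ K = ⊤ := by
  classical
  let mk : Matrix.SpecialLinearGroup (Fin 2) F →* Matrix.ProjectiveSpecialLinearGroup (Fin 2) F :=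
    QuotientGroup.mk' _
  let f : G →* Matrix.ProjectiveSpecialLinearGroup (Fin 2) F := e.toMonoidHom.comp (QuotientGroup.mk' K)
  have hfs : Function.Surjective f := e.surjective.comp (QuotientGroup.mk'_surjective K)
  have hfk : ∀ x, f x = 1 ↔ x ∈ K := fun x => by
    show e (QuotientGroup.mk' K x) = 1 ↔ _
    rw [map_eq_one_iff e e.injective]; exact QuotientGroup.eq_one_iff x
  set U0 := (mk.comp CfsgLib.LocalEven.RankOne.upperHom).range with hU0
  have hinj : Function.Injective (mk.comp (CfsgLib.LocalEven.RankOne.upperHom (F := F))) := by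
    refine (injective_iff_map_eq_one _).2 fun a ha => ?_
    have h1 : upper (Multiplicative.toAdd a) ∈ center (Matrix.SpecialLinearGroup (Fin 2) F) :=
      (QuotientGroup.eq_one_iff _).1 ha
    have h2 := (center_entries h1).1
    rw [upper01] at h2
    exact Multiplicative.toAdd.injective h2
  have hU0c : Nat.card U0 = p ^ n := by
    rw [hU0, ← Nat.card_congr (MonoidHom.ofInjective hinj).toEquiv,
      Nat.card_congr Multiplicative.toAdd, Nat.card_eq_fintype_card, hF]
  have hlike := CfsgLib.LocalEven.RankOne.likeL2_psl (p := p) (F := F) hn hF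
  obtain ⟨P3, hP3⟩ := (IsPGroup.of_card hU0c).exists_le_sylow
  have hU0e : U0 = (P3 : Subgroup _) := eq_of_le_of_card_ge hP3 (by rw [hU0c, hlike.card P3])
  obtain ⟨y, hy⟩ := MulAction.exists_smul_eq (Matrix.ProjectiveSpecialLinearGroup (Fin 2) F) P3
    (S.mapSurjective hfs)
  obtain ⟨y, rfl⟩ := hfs y
  have himg : ∀ t : F, ∃ s ∈ (S : Subgroup G), f s = f y * mk (upper t) * (f y)⁻¹ := fun t => by
    have h1 : f y * mk (upper t) * (f y)⁻¹ ∈ ((f y • P3 : Sylow p _) : Subgroup _) := by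
      rw [Sylow.coe_subgroup_smul]
      exact ⟨_, hU0e.le ⟨Multiplicative.ofAdd t, rfl⟩, rfl⟩
    rw [hy, Sylow.coe_mapSurjective] at h1
    exact h1
  obtain ⟨u, hu, hue⟩ := himg 1
  obtain ⟨w0, hw0⟩ := hfs (mk (CfsgLib.LocalEven.RankOne.weyl 1 one_ne_zero))
  have hw : f (y * w0 * y⁻¹) = f y * mk (CfsgLib.LocalEven.RankOne.weyl 1 one_ne_zero) * (f y)⁻¹ := by
    rw [map_mul, map_mul, map_inv, hw0]
  have hmk : ∀ z : Matrix.SpecialLinearGroup (Fin 2) F,
      z = CfsgLib.LocalEven.RankOne.scalarM (-1) (by ring) → mk z = 1 := fun z hz => by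
    rw [hz]; exact (QuotientGroup.eq_one_iff _).2 (CfsgLib.LocalEven.RankOne.scalarM_mem_center _ _)
  refine ⟨u, hu, y * w0 * y⁻¹, ?_, ?_, ?_⟩
  · rw [← hfk, map_mul, hw]
    have h1 : mk (CfsgLib.LocalEven.RankOne.weyl (1 : F) one_ne_zero * CfsgLib.LocalEven.RankOne.weyl 1 one_ne_zero) = 1 :=
      hmk _ (sl_ext (by simp [sl_mul_apply, CfsgLib.LocalEven.RankOne.weyl00, CfsgLib.LocalEven.RankOne.weyl01,
          CfsgLib.LocalEven.RankOne.weyl10, CfsgLib.LocalEven.RankOne.weyl11, CfsgLib.LocalEven.RankOne.scalarM00])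
        (by simp [sl_mul_apply, CfsgLib.LocalEven.RankOne.weyl00, CfsgLib.LocalEven.RankOne.weyl01,
          CfsgLib.LocalEven.RankOne.weyl10, CfsgLib.LocalEven.RankOne.weyl11, CfsgLib.LocalEven.RankOne.scalarM01])
        (by simp [sl_mul_apply, CfsgLib.LocalEven.RankOne.weyl00, CfsgLib.LocalEven.RankOne.weyl01,
          CfsgLib.LocalEven.RankOne.weyl10, CfsgLib.LocalEven.RankOne.weyl11, CfsgLib.LocalEven.RankOne.scalarM10])
        (by simp [sl_mul_apply, CfsgLib.LocalEven.RankOne.weyl00, CfsgLib.LocalEven.RankOne.weyl01,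
          CfsgLib.LocalEven.RankOne.weyl10, CfsgLib.LocalEven.RankOne.weyl11, CfsgLib.LocalEven.RankOne.scalarM11]))
    rw [map_mul] at h1
    rw [show ∀ a b : Matrix.ProjectiveSpecialLinearGroup (Fin 2) F, a * b * a⁻¹ * (a * b * a⁻¹) = a * (b * b) * a⁻¹
      from fun a b => by group, h1, mul_one, mul_inv_cancel]
  · rw [← hfk, map_mul, map_mul, map_mul, hue, hw]
    set z : Matrix.SpecialLinearGroup (Fin 2) F := upper 1 * CfsgLib.LocalEven.RankOne.weyl 1 one_ne_zero with hz
    have h1 : mk (z * z * z) = 1 :=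
      hmk _ (sl_ext (by simp [hz, sl_mul_apply, upper00, upper01, upper10, upper11,
          CfsgLib.LocalEven.RankOne.weyl00, CfsgLib.LocalEven.RankOne.weyl01,
          CfsgLib.LocalEven.RankOne.weyl10, CfsgLib.LocalEven.RankOne.weyl11, CfsgLib.LocalEven.RankOne.scalarM00])
        (by simp [hz, sl_mul_apply, upper00, upper01, upper10, upper11,
          CfsgLib.LocalEven.RankOne.weyl00, CfsgLib.LocalEven.RankOne.weyl01,
          CfsgLib.LocalEven.RankOne.weyl10, CfsgLib.LocalEven.RankOne.weyl11, CfsgLib.LocalEven.RankOne.scalarM01])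
        (by simp [hz, sl_mul_apply, upper00, upper01, upper10, upper11,
          CfsgLib.LocalEven.RankOne.weyl00, CfsgLib.LocalEven.RankOne.weyl01,
          CfsgLib.LocalEven.RankOne.weyl10, CfsgLib.LocalEven.RankOne.weyl11, CfsgLib.LocalEven.RankOne.scalarM10])
        (by simp [hz, sl_mul_apply, upper00, upper01, upper10, upper11,
          CfsgLib.LocalEven.RankOne.weyl00, CfsgLib.LocalEven.RankOne.weyl01,
          CfsgLib.LocalEven.RankOne.weyl10, CfsgLib.LocalEven.RankOne.weyl11, CfsgLib.LocalEven.RankOne.scalarM11]))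
    rw [map_mul, map_mul, hz, map_mul] at h1
    rw [show ∀ a b c : Matrix.ProjectiveSpecialLinearGroup (Fin 2) F,
      a * b * a⁻¹ * (a * c * a⁻¹) * (a * b * a⁻¹ * (a * c * a⁻¹)) * (a * b * a⁻¹ * (a * c * a⁻¹)) =
        a * (b * c * (b * c) * (b * c)) * a⁻¹ from fun a b c => by group, h1, mul_one, mul_inv_cancel]
  · set H := (S : Subgroup G) ⊔ conjSub (y * w0 * y⁻¹) S ⊔ K with hH
    set H2 := ((H.map f).comap (MulAut.conj (f y)).toMonoidHom).comap mk with hH2
    have hup : ∀ t, upper t ∈ H2 := fun t => by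
      obtain ⟨s, hs, hse⟩ := himg t
      exact ⟨s, mem_sup_left (mem_sup_left hs), hse⟩
    have hlo : CfsgLib.LocalEven.RankOne.weyl (1 : F) one_ne_zero * upper 1 *
        (CfsgLib.LocalEven.RankOne.weyl 1 one_ne_zero)⁻¹ ∈ H2 := by
      refine ⟨y * w0 * y⁻¹ * u * (y * w0 * y⁻¹)⁻¹, mem_sup_left (mem_sup_right ⟨u, hu, rfl⟩), ?_⟩
      show _ = f y * mk _ * (f y)⁻¹
      simp only [map_mul, map_inv, hw, hue, hw0]
      group
    have htop := CfsgLib.LocalEven.RankOne.eq_top_of_upper_of_lowerLeft hup hlo (by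
      rw [CfsgLib.LocalEven.RankOne.weyl_conj, lower10]; simp)
    refine eq_top_iff.2 fun g _ => ?_
    obtain ⟨z, hz⟩ := QuotientGroup.mk'_surjective _ ((f y)⁻¹ * f g * f y)
    obtain ⟨x, hx, hxe⟩ := htop.ge (mem_top z)
    have hz' : mk z = (f y)⁻¹ * f g * f y := hz
    change f x = f y * mk z * (f y)⁻¹ at hxe
    rw [hz'] at hxe
    have h1 : g⁻¹ * x ∈ K := (hfk _).1 (by rw [map_mul, map_inv, hxe]; group)
    have h2 : x * (g⁻¹ * x)⁻¹ ∈ H := mul_mem hx (inv_mem (mem_sup_right h1))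
    simpa [mul_assoc] using h2

end Pair

end CfsgLib.Techniques.CharTransfer
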