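import Cfsg.Agent.Lib.Techniques.CharTransfer.Data
import Cfsg.Agent.Lib.LocalEven.PushUp.Pull
import Cfsg.Agent.Lib.LocalEven.CharP
import Cfsg.Agent.Lib.Techniques.ChiefTools

/-!
A `p'`-element outside the maximal subgroup centralising a chief factor below `O_p`.
-/

set_option autoImplicit false

namespace CfsgLib.Techniques.CharTransfer

open Subgroup Cfsg
open scoped commutatorElement
open CfsgLib.LocalEven.RankOne (modStab modStab_normal Hyp zS vS scalarM scalarM_mem_center scalarM00)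
open CfsgLib.PStab (jGen zjGen maxAdm le_jGen jGen_le zjGen_le)
open CfsgLib.Fusion (conjSub)

universe u

variable {p : ℕ} [hp : Fact p.Prime] {Γ : Type u} [Group Γ] [Finite Γ]

omit [Finite Γ] hp in
theorem char_trans {T B K : Subgroup Γ} (hBT : B ≤ T) (hKB : K ≤ B) (hB : (B.subgroupOf T).Characteristic)
    (hK : (K.subgroupOf B).Characteristic) : (K.subgroupOf T).Characteristic := by
  refine characteristic_iff_map_le.2 fun φ => ?_
  rintro _ ⟨x, hx, rfl⟩
  have hmem : ∀ (ψ : MulAut ↥T) (b : ↥B), ((ψ (Subgroup.inclusion hBT b) : ↥T) : Γ) ∈ B := fun ψ b => by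
    haveI := hB
    exact characteristic_iff_map_le.1 hB ψ ⟨Subgroup.inclusion hBT b, b.2, rfl⟩
  let ψ : MulAut ↥B :=
    { toFun := fun b => ⟨_, hmem φ b⟩
      invFun := fun b => ⟨_, hmem φ.symm b⟩
      left_inv := fun b => Subtype.ext (by
        show ((φ.symm (⟨(φ (Subgroup.inclusion hBT b) : ↥T).1, _⟩ : ↥T) : ↥T) : Γ) = b
        simp)
      right_inv := fun b => Subtype.ext (by
        show ((φ (⟨(φ.symm (Subgroup.inclusion hBT b) : ↥T).1, _⟩ : ↥T) : ↥T) : Γ) = b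
        simp)
      map_mul' := fun a b => Subtype.ext (by simp [map_mul]) }
  have h1 : ψ ⟨(x : Γ), hKB hx⟩ ∈ K.subgroupOf B := characteristic_iff_map_le.1 hK ψ ⟨⟨(x : Γ), hKB hx⟩, hx, rfl⟩
  exact h1

omit [Finite Γ] hp in
/-- A `p'`-element centralising a step of a chain centralises it. -/
theorem mem_of_commutator_chain {P R : Subgroup Γ} [R.Normal] (hP : IsPGroup p P) {g u : Γ}
    (hg : (orderOf g).Coprime p) (hy : ⁅g, u⁆ ∈ P) (hgy : ⁅g, ⁅g, u⁆⁆ ∈ R) : ⁅g, u⁆ ∈ R := by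
  set π := QuotientGroup.mk' R
  have hc : π g * π ⁅g, u⁆ = π ⁅g, u⁆ * π g := by
    rw [← commutatorElement_eq_one_iff_mul_comm, ← map_commutatorElement]
    exact (QuotientGroup.eq_one_iff _).2 hgy
  -- work with the inverse, so that the moved part sits on the right
  have h1 : π g * (π u)⁻¹ * (π g)⁻¹ = (π u)⁻¹ * (π ⁅g, u⁆)⁻¹ := by
    rw [map_commutatorElement, commutatorElement_def]; group
  have h2 : π g * (π ⁅g, u⁆)⁻¹ = (π ⁅g, u⁆)⁻¹ * π g := (show Commute (π g) (π ⁅g, u⁆) from hc).inv_right.eq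
  have h3 := CfsgLib.LocalEven.commute_of_conj_eq_mul (hP.map π) (inv_mem (mem_map_of_mem π hy))
    (hg.coprime_dvd_left (orderOf_map_dvd π g)) h1 h2
  refine (QuotientGroup.eq_one_iff _).1 ?_
  show π ⁅g, u⁆ = 1
  rw [map_commutatorElement, commutatorElement_eq_one_iff_mul_comm]
  have := (show Commute (π g) (π u)⁻¹ from h3).inv_right
  rwa [inv_inv] at this

variable {G : Type*} [Group G] [Finite G]

/-- In a group with natural factors a `p'`-element centralises what the central involution centralises. -/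
theorem chain_centralized {F : Type} [Field F] [Fintype F] {n : ℕ} (hp2 : p ≠ 2) (hn : 1 ≤ n) (hF : Fintype.card F = p ^ n)
    (hnat : CfsgLib.LocalEven.PushUp.NaturalFactors p G F) {z : G} (hzQ : z ∉ pCore p G)
    (hzc : ∀ x : G, ⁅z, x⁆ ∈ pCore p G) {U R : Subgroup G} [R.Normal] (hUQ : U ≤ pCore p G)
    (hz : ∀ u ∈ U, ⁅z, u⁆ ∈ R) {g : G} (hg : (orderOf g).Coprime p) :
    ∀ N : Subgroup G, N.Normal → R ≤ N → N ≤ U → ∀ x ∈ N, ⁅g, x⁆ ∈ R := by
  classical
  intro N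
  induction N using WellFoundedLT.induction with
  | ind N ih =>
    intro hN hRN hNU x hx
    haveI := hN
    rcases eq_or_lt_of_le hRN with e | hlt
    · rw [← e] at hx
      rw [show ⁅g, x⁆ = g * x * g⁻¹ * x⁻¹ from commutatorElement_def g x]
      exact mul_mem ((inferInstance : R.Normal).conj_mem x hx g) (inv_mem hx)
    obtain ⟨V, hRV, hV⟩ := CfsgLib.Techniques.Chief.exists_chief_top ‹R.Normal› hN hlt
    haveI := hV.2.2.1
    have hNQ := hNU.trans hUQ
    have hcen : ⁅N, (⊤ : Subgroup G)⁆ ≤ V := by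
      by_contra hnc
      obtain ⟨-, ρ, ψ, hρs, hρk, hact⟩ := hnat.2 N V hNQ hV hnc
      let π : G →* G ⧸ V := QuotientGroup.mk' V
      let ρG : G →* Matrix.SpecialLinearGroup (Fin 2) F :=
        (ρ.comp (Subgroup.topEquiv (G := G ⧸ V)).symm.toMonoidHom).comp π
      have hρGs : Function.Surjective ρG := fun w => by
        obtain ⟨l, hl⟩ := hρs w
        obtain ⟨y, hy⟩ := QuotientGroup.mk'_surjective V (l : G ⧸ V)
        exact ⟨y, by rw [← hl]; exact congrArg ρ (Subtype.ext hy)⟩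
      have hQk : pCore p G ≤ ρG.ker := by
        intro q hq
        haveI : ((pCore p G).map ρG).Normal := (inferInstance : (pCore p G).Normal).map _ hρGs
        exact (mem_bot.1 ((normal_pGroup_eq_bot (p := p) hp2 hn hF (inferInstance : ((pCore p G).map ρG).Normal)
          ((CfsgLib.Cores.isPGroup_pCore p).map _)).le (mem_map_of_mem ρG hq)))
      have hker : ρG.ker = pCore p G := by
        obtain ⟨e⟩ := hnat.1
        refine (eq_of_le_of_card_ge hQk ?_).symm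
        have e1 := Subgroup.card_eq_card_quotient_mul_card_subgroup ρG.ker
        have e2 := Subgroup.card_eq_card_quotient_mul_card_subgroup (pCore p G)
        rw [Nat.card_congr (QuotientGroup.quotientKerEquivOfSurjective ρG hρGs).toEquiv] at e1
        rw [Nat.card_congr e.toEquiv, e1] at e2
        exact (Nat.eq_of_mul_eq_mul_left Nat.card_pos e2).le
      have hz1 : ρG z ≠ 1 := fun h => hzQ (hker ▸ h)
      have hzC : ρG z ∈ center (Matrix.SpecialLinearGroup (Fin 2) F) := by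
        refine mem_center_iff.2 fun w => ?_
        obtain ⟨y, rfl⟩ := hρGs w
        refine (commutatorElement_eq_one_iff_mul_comm.1 ?_).symm
        rw [← map_commutatorElement]
        exact (hker.ge (hzc y) : _)
      have hzneg := (center_cases hzC).resolve_left hz1
      obtain ⟨v, hv⟩ := ψ.surjective (fun _ => (1 : F))
      obtain ⟨n', hn', hvn⟩ := (Additive.toMul v).2
      obtain ⟨w, hw, hwv⟩ := hact ⟨π z, mem_top _⟩ (Additive.toMul v)
      have hwv' : w = Additive.toMul v := by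
        refine Subtype.ext ?_
        rw [hw]
        show π z * ((Additive.toMul v : _) : G ⧸ V) * (π z)⁻¹ = _
        rw [← hvn]
        have h1 : π ⁅z, n'⁆ = 1 := (QuotientGroup.eq_one_iff _).2 (hRV (hz _ (hNU hn')))
        rw [map_commutatorElement, commutatorElement_eq_one_iff_mul_comm] at h1
        rw [h1, mul_inv_cancel_right]
      rw [hwv'] at hwv
      have h5 : (fun _ => (1 : F)) = (ρG z : Matrix (Fin 2) (Fin 2) F).mulVec (fun _ => 1) :=
        hv.symm.trans (hwv.trans (congrArg (ρG z : Matrix (Fin 2) (Fin 2) F).mulVec hv))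
      rw [hzneg] at h5
      have h0 := congrFun h5 0
      simp [Matrix.mulVec, dotProduct, Fin.sum_univ_two, scalarM] at h0
      haveI : CharP F p := charP_of_card_eq_prime_pow hF
      refine hp2 ((Nat.prime_dvd_prime_iff_eq hp.out Nat.prime_two).1 ((CharP.cast_eq_zero_iff F p 2).1 ?_))
      rw [Nat.cast_two]
      linear_combination h0
    have hy : ⁅g, x⁆ ∈ V := by
      rw [← commutatorElement_inv]
      exact inv_mem (hcen (commutator_mem_commutator hx (mem_top g)))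
    exact mem_of_commutator_chain ((CfsgLib.Cores.isPGroup_pCore p).to_le (hV.1.le.trans hNQ)) hg hy
      (ih V hV.1 hV.2.2.1 hRV (hV.1.le.trans hNU) _ hy)

/-- The element outside `M`. -/
theorem Ctx.exists_fixing {T : Sylow p Γ} {M : Subgroup Γ} (c : Ctx T M)
    (hJ : jGen 0 (T : Subgroup Γ) ≤ blocks p Γ)
    (hB : (T : Subgroup Γ) ⊓ centralizer (zjGen 0 (T : Subgroup Γ) : Set Γ) ≤ blocks p Γ)
    {U R : Subgroup Γ} [U.Normal] [R.Normal] (hUP : U ≤ pCore p Γ) (hRU : R ≤ U)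
    (hUN : ∀ N : Subgroup Γ, N.Normal → N ≤ M → ∀ g ∈ N, ∀ x ∈ U, ⁅g, x⁆ ∈ R) :
    ∃ g : Γ, g ∉ M ∧ ∀ x ∈ U, ⁅g, x⁆ ∈ R := by
  classical
  obtain ⟨F, iF, iFF, n, E, E0, ρ, hF, blk⟩ := c.exists_block
  rw [← blk.eqBlocks] at hJ hB
  haveI hEn := blk.normal
  set T0 := (T : Subgroup Γ) ⊓ E with hT0
  have hT0p : IsPGroup p T0 := T.2.to_le inf_le_left
  have hT0i : ¬ p ∣ T0.relIndex E := CfsgLib.LocalEven.ZJFusion.not_dvd_relIndex_inf (K := ⊤) T.2 le_top
    (by rw [relIndex_top_right]; exact T.not_dvd_index) le_top (by rw [normalizer_eq_top E])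
  have hPT0 : pCore p Γ ≤ T0 := le_inf (CfsgLib.Cores.pCore_le_sylow T) blk.pCore_le
  have hρs : Function.Surjective ρ := fun w => let ⟨e, _, he⟩ := blk.onto w; ⟨e, he⟩
  let Q : Sylow p ↥E := hT0p.comap_subtype.toSylow hT0i
  have hQ : (Q : Subgroup ↥E) = T0.subgroupOf E := IsPGroup.toSylow_coe _ _
  set Y := E0 ⊔ T0 with hY
  have hYE : Y ≤ E := sup_le blk.le inf_le_right
  -- a subgroup of `Y` covering `ρ T0` and not in `M` covers everything
  have hcover : ∀ H : Subgroup Γ, H ≤ Y → ¬ H ≤ M →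
      (T0.subgroupOf E).map ρ ≤ (H.subgroupOf E).map ρ → (H.subgroupOf E).map ρ = ⊤ := by
    intro H hHY hHM hle
    by_contra hne
    have h1 := le_normalizer_of_sylow_le c.hp2 blk.pos hF (Q.mapSurjective hρs)
      (by rw [Sylow.coe_mapSurjective, hQ]; exact hle) hne
    rw [Sylow.coe_mapSurjective, hQ] at h1
    refine hHM fun x hx => ?_
    obtain ⟨e, he, t, ht, rfl⟩ := CfsgLib.Solvable.exists_mul_of_mem_sup (K := E0) (A := T0)
      (inf_le_right.trans blk.norm) (hHY hx)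
    refine mul_mem (blk.move ⟨e, blk.le he⟩ he ?_) (c.sylLe ht.1)
    have h2 := h1 (mem_map_of_mem ρ (show (⟨e * t, hYE (hHY hx)⟩ : ↥E) ∈ H.subgroupOf E from hx))
    have h3 : ρ ⟨e * t, hYE (hHY hx)⟩ = ρ ⟨e, blk.le he⟩ * ρ ⟨t, ht.2⟩ := by rw [← map_mul]; rfl
    rw [h3] at h2
    have h4 := le_normalizer (H := (T0.subgroupOf E).map ρ)
      (mem_map_of_mem ρ (show (⟨t, ht.2⟩ : ↥E) ∈ T0.subgroupOf E from ht))
    have h5 := mul_mem h2 (inv_mem h4)
    rwa [mul_inv_cancel_right] at h5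
  -- `p'`-elements of `Y` lie in `E0`
  have hcop : ∀ y ∈ Y, (orderOf y).Coprime p → y ∈ E0 := by
    intro y hy hco
    haveI : (E0.subgroupOf Y).Normal :=
      normal_subgroupOf_of_le_normalizer (sup_le le_normalizer (inf_le_right.trans blk.norm))
    set π := QuotientGroup.mk' (E0.subgroupOf Y)
    have htop : (T0.subgroupOf Y).map π = ⊤ := by
      refine eq_top_iff.2 fun w _ => ?_
      obtain ⟨w, rfl⟩ := QuotientGroup.mk'_surjective _ w
      obtain ⟨e, he, t, ht, hwe⟩ := CfsgLib.Solvable.exists_mul_of_mem_sup (K := E0) (A := T0)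
        (inf_le_right.trans blk.norm) w.2
      refine ⟨⟨t, (le_sup_right : T0 ≤ Y) ht⟩, ht, ?_⟩
      rw [show w = (⟨e, (le_sup_left : E0 ≤ Y) he⟩ : ↥Y) * ⟨t, (le_sup_right : T0 ≤ Y) ht⟩ from Subtype.ext hwe,
        map_mul, show π ⟨e, (le_sup_left : E0 ≤ Y) he⟩ = 1 from (QuotientGroup.eq_one_iff _).2 he, one_mul]
    have hq : IsPGroup p ↥((T0.subgroupOf Y).map π) := hT0p.comap_subtype.map π
    have h1 := CfsgLib.LocalEven.eq_one_of_pow_eq_one_of_pGroup hq (htop.ge (mem_top (π ⟨y, hy⟩)))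
      hco (show π ⟨y, hy⟩ ^ orderOf y = 1 by
        rw [← map_pow, show (⟨y, hy⟩ : ↥Y) ^ orderOf y = 1 from Subtype.ext (pow_orderOf_eq_one y), map_one])
    exact mem_subgroupOf.1 ((QuotientGroup.eq_one_iff (⟨y, hy⟩ : ↥Y)).1 h1)
  -- the member
  have hYM : ¬ Y ≤ M := fun h => blk.notLe (le_sup_left.trans h)
  obtain ⟨X, ⟨hT0X, hXY, hXM⟩, hXmin⟩ := Set.Finite.exists_minimal
    (s := {X : Subgroup Γ | T0 ≤ X ∧ X ≤ Y ∧ ¬ X ≤ M}) (Set.toFinite _) ⟨Y, le_sup_right, le_rfl, hYM⟩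
  have hXE : X ≤ E := hXY.trans hYE
  have hXtop : (X.subgroupOf E).map ρ = ⊤ := hcover X hXY hXM (Subgroup.map_mono (Subgroup.comap_mono hT0X))
  let π2 : Matrix.SpecialLinearGroup (Fin 2) F →* Matrix.ProjectiveSpecialLinearGroup (Fin 2) F := QuotientGroup.mk' _
  -- the rank-one hypotheses on a subgroup of `Y`
  have mk : ∀ (H B : Subgroup Γ) (hHE : H ≤ E), ¬ H ≤ M → B ≤ H → IsPGroup p B → B ≤ (T : Subgroup Γ) →
      ¬ p ∣ B.relIndex H → CfsgLib.LocalEven.HasCharP p ↥H → (H.subgroupOf E).map ρ = ⊤ →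
      (∀ H', B ≤ H' → H' ≤ H → ¬ H' ≤ M → H' = H) →
      ∃ S : Sylow p ↥H, (S : Subgroup ↥H) = B.subgroupOf H ∧
        Hyp n S (π2.comp (ρ.comp (Subgroup.inclusion hHE))).ker ∧
        Function.Surjective (ρ.comp (Subgroup.inclusion hHE)) ∧
        Nonempty (↥H ⧸ (π2.comp (ρ.comp (Subgroup.inclusion hHE))).ker ≃*
          Matrix.ProjectiveSpecialLinearGroup (Fin 2) F) := by
    intro H B hHE hHM hBH hBp hBT hBi hchar htop hmin
    let S : Sylow p ↥H := hBp.comap_subtype.toSylow hBi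
    have hS : (S : Subgroup ↥H) = B.subgroupOf H := IsPGroup.toSylow_coe _ _
    have hsur : Function.Surjective (ρ.comp (Subgroup.inclusion hHE)) := fun w => by
      obtain ⟨e, he, hew⟩ := htop.ge (mem_top w)
      exact ⟨⟨e, he⟩, hew⟩
    have hsur2 : Function.Surjective (π2.comp (ρ.comp (Subgroup.inclusion hHE))) :=
      (QuotientGroup.mk'_surjective _).comp hsur
    have he3 : Nonempty (↥H ⧸ (π2.comp (ρ.comp (Subgroup.inclusion hHE))).ker ≃*
        Matrix.ProjectiveSpecialLinearGroup (Fin 2) F) := ⟨QuotientGroup.quotientKerEquivOfSurjective _ hsur2⟩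
    refine ⟨S, hS, CfsgLib.LocalEven.RankOne.hyp_of_equiv S hchar ?_ _ F n blk.pos hF he3, hsur, he3⟩
    have hbelow : ∀ H' : Subgroup ↥H, (S : Subgroup ↥H) ≤ H' → H' ≠ ⊤ → H' ≤ M.subgroupOf H := by
      intro H' hle hne x hx
      by_contra hxM
      refine hne (eq_top_iff.2 fun y _ => ?_)
      have h1 := hmin (H'.map H.subtype) (fun b hb => ⟨⟨b, hBH hb⟩, hle (hS.ge hb), rfl⟩) (map_subtype_le _)
        fun h => hxM (h ⟨x, hx, rfl⟩)
      obtain ⟨y', hy', hyy⟩ := h1.ge y.2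
      exact Subtype.ext hyy ▸ hy'
    have hMne : M.subgroupOf H ≠ ⊤ := fun h => hHM (subgroupOf_eq_top.1 h)
    have hMS : (S : Subgroup ↥H) ≤ M.subgroupOf H := hS.le.trans (fun b hb => c.sylLe (hBT hb))
    refine ⟨M.subgroupOf H, ⟨⟨hMne, fun H' hlt => ?_⟩, hMS⟩, fun M' hM' => ?_⟩
    · by_contra hne
      exact hlt.not_ge (hbelow H' (hMS.trans hlt.le) hne)
    · exact ((hM'.1.le_iff.1 (hbelow M' hM'.2 hM'.1.1)).resolve_left hMne).symm
  have hcharΓ : CfsgLib.LocalEven.HasCharP p Γ := c.cP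
  have hXchar : CfsgLib.LocalEven.HasCharP p ↥X :=
    hcharΓ.of_pCore_le_normalizer ((hPT0.trans hT0X).trans le_normalizer)
  have hT0Xi : ¬ p ∣ T0.relIndex X := fun hd => hT0i (hd.trans (Dvd.intro _ (relIndex_mul_relIndex _ _ _ hT0X hXE)))
  obtain ⟨S0, hS0, hypX, hρX, -⟩ := mk X T0 hXE hXM hT0X hT0p inf_le_left hT0Xi hXchar hXtop
    fun H' h1 h2 h3 => le_antisymm h2 (hXmin ⟨h1, h2.trans hXY, h3⟩ h2)
  set K0 := (π2.comp (ρ.comp (Subgroup.inclusion hXE))).ker with hK0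
  -- `B`
  set B := (T : Subgroup Γ) ⊓ centralizer (zjGen 0 (T : Subgroup Γ) : Set Γ) with hBdef
  have hBT0 : B ≤ T0 := le_inf inf_le_left hB
  have hBc : (B.subgroupOf (T : Subgroup Γ)).Characteristic :=
    CfsgLib.LocalEven.PushUp.char_centralizer_zjGen T
  have hTB : (T : Subgroup Γ) ≤ normalizer (B : Set Γ) := sylow_le_normalizer_char inf_le_left hBc
  have hS0map : (S0 : Subgroup ↥X).map X.subtype = T0 := by rw [hS0, map_subgroupOf_eq_of_le hT0X]
  have hmax : maxAdm 0 (T : Subgroup Γ) = maxAdm 0 T0 := by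
    ext A
    constructor
    · intro hA
      exact ⟨le_inf hA.1 ((le_jGen hA).trans hJ), hA.2.1, fun C hC hCa => hA.2.2 C (hC.trans inf_le_left) hCa⟩
    · intro hA
      obtain ⟨A1, hA1⟩ := CfsgLib.PStab.maxAdm_nonempty 0 (T : Subgroup Γ)
      exact ⟨hA.1.trans inf_le_left, hA.2.1, fun C hC hCa => (hA1.2.2 C hC hCa).trans
        (hA.2.2 A1 (le_inf hA1.1 ((le_jGen hA1).trans hJ)) hA1.2.1)⟩
  have hzj : (zjGen 0 (S0 : Subgroup ↥X)).map X.subtype = zjGen 0 (T : Subgroup Γ) := by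
    rw [← CfsgLib.PStab.zjGen_map X.subtype_injective, hS0map, zjGen, zjGen, jGen, jGen, hmax]
  set B0 := (S0 : Subgroup ↥X) ⊓ centralizer (zjGen 0 (S0 : Subgroup ↥X) : Set ↥X) with hB0
  have hB0map : B0.map X.subtype = B := by
    ext x
    constructor
    · rintro ⟨y, ⟨hy1, hy2⟩, rfl⟩
      refine ⟨(hS0map.le ⟨y, hy1, rfl⟩).1, mem_centralizer_iff.2 fun z hz => ?_⟩
      obtain ⟨z', hz', rfl⟩ := hzj.ge hz
      exact congrArg Subtype.val (mem_centralizer_iff.1 hy2 z' hz')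
    · intro hx
      obtain ⟨y, hy, rfl⟩ := hS0map.ge (hBT0 hx)
      refine ⟨y, ⟨hy, mem_centralizer_iff.2 fun z hz => Subtype.ext ?_⟩, rfl⟩
      exact mem_centralizer_iff.1 hx.2 (z : Γ) (hzj.le ⟨z, hz, rfl⟩)
  have hZnc : ¬ zS S0 ≤ center ↥X := by
    intro hle
    refine c.noChar _ inf_le_left c.center_ne_bot (CfsgLib.LocalEven.PushUp.char_zS T) ?_
    refine c.normal_of_normalized (sylow_le_normalizer_char inf_le_left (CfsgLib.LocalEven.PushUp.char_zS T))
      (X := X) (fun x hx => CfsgLib.Fusion.mem_normalizer_of_forall fun z hz => ?_) hXM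
    have hzX : z ∈ X := hT0X (hPT0 (c.center_le_pCore hz))
    have hzz : (⟨z, hzX⟩ : ↥X) ∈ zS S0 := ⟨hS0 ▸ (hPT0 (c.center_le_pCore hz) : z ∈ T0),
      mem_centralizer_iff.2 fun s hs => Subtype.ext
        (mem_centralizer_iff.1 hz.2 (s : Γ) (hS0map.le ⟨s, hs, rfl⟩).1)⟩
    have h1 : x * z = z * x := congrArg Subtype.val (mem_center_iff.1 (hle hzz) ⟨x, hx⟩)
    rw [h1, mul_inv_cancel_right]
    exact hz
  have hJX : ¬ jGen 0 (S0 : Subgroup ↥X) ≤ pCore p ↥X := by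
    intro hle
    have hn := (hypX.of_jGen_le hle).resolve_left hZnc
    refine c.noChar B inf_le_left (fun e => c.center_ne_bot (le_bot_iff.1 ?_)) hBc
      (c.normal_of_normalized hTB (X := X) (fun x hx => CfsgLib.Fusion.mem_normalizer_of_forall fun z hz => ?_) hXM)
    · exact (inf_le_inf_left _ (centralizer_le (CfsgLib.PStab.zjGen_le 0 _))).trans e.le
    · obtain ⟨y, hy, rfl⟩ := hB0map.ge hz
      exact hB0map.le ⟨_, hn.conj_mem y hy ⟨x, hx⟩, rfl⟩
  obtain ⟨A, hA, hAQ, -⟩ := hypX.exists_quad hJX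
  have hρpX : ∀ q ∈ pCore p ↥X, ρ (Subgroup.inclusion hXE q) = 1 := fun q hq => by
    have h1 := normal_pGroup_eq_bot (p := p) c.hp2 blk.pos hF
      ((inferInstance : (pCore p ↥X).Normal).map _ hρX) ((CfsgLib.Cores.isPGroup_pCore p).map _)
    exact mem_bot.1 (h1.le (mem_map_of_mem _ hq))
  have hAB : A ≤ B0 := le_inf hA.1 fun a ha =>
    mem_centralizer_iff.2 fun z hz => (mem_centralizer_iff.1 hz.2 a (le_jGen hA ha)).symm
  have hρB : (T0.subgroupOf E).map ρ ≤ (B.subgroupOf E).map ρ := by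
    rintro _ ⟨t, ht, rfl⟩
    have hts : (⟨(t : Γ), hT0X ht⟩ : ↥X) ∈ (S0 : Subgroup ↥X) := hS0 ▸ (ht : (t : Γ) ∈ T0)
    obtain ⟨q, hq, a, ha, hqa⟩ := hypX.exists_mul hZnc hA hAQ hts
    refine ⟨Subgroup.inclusion hXE a, hB0map.le ⟨a, hAB ha, rfl⟩, ?_⟩
    rw [show t = Subgroup.inclusion hXE (⟨(t : Γ), hT0X ht⟩ : ↥X) from rfl, hqa, map_mul, map_mul, hρpX q hq, one_mul]
  -- the Baumann member
  set L := normalClosure (B0 : Set ↥X) with hL
  haveI hLn : L.Normal := normalClosure_normal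
  have hLsyl : (S0 : Subgroup ↥X) ⊓ L = B0 := hypX.baumann_sylow hZnc
  set L1 := L.map X.subtype with hL1
  have hL1X : L1 ≤ X := map_subtype_le _
  have hBL1 : B ≤ L1 := hB0map.ge.trans (Subgroup.map_mono le_normalClosure)
  have hL1M : ¬ L1 ≤ M := by
    intro hle
    have hLK : ¬ L ≤ K0 := by
      intro h
      refine hypX.sup_ne_top (eq_top_iff.2 fun x _ => ?_)
      have hT1 : ∀ t : ↥E, (t : Γ) ∈ T0 → π2 (ρ t) = 1 := fun t ht => by
        obtain ⟨b, hb, hbt⟩ := hρB (mem_map_of_mem ρ ht)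
        obtain ⟨y, hy, hyb⟩ := hB0map.ge hb
        have hk := (MonoidHom.mem_ker (f := π2.comp (ρ.comp (Subgroup.inclusion hXE)))).1 (h (le_normalClosure hy))
        rw [← hbt, show b = Subgroup.inclusion hXE y from Subtype.ext hyb.symm]
        exact hk
      let P2 : Sylow p (Matrix.ProjectiveSpecialLinearGroup (Fin 2) F) :=
        (Q.mapSurjective hρs).mapSurjective (f := π2) (QuotientGroup.mk'_surjective _)
      have hbot : (P2 : Subgroup (Matrix.ProjectiveSpecialLinearGroup (Fin 2) F)) = ⊥ := by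
        rw [Sylow.coe_mapSurjective, Sylow.coe_mapSurjective, hQ, eq_bot_iff]
        rintro _ ⟨_, ⟨t, ht, rfl⟩, rfl⟩
        exact hT1 t ht
      have hc1 := (CfsgLib.LocalEven.RankOne.likeL2_psl (p := p) (F := F) blk.pos hF).card P2
      rw [hbot, card_bot] at hc1
      exact absurd hc1 (Nat.one_lt_pow (by have := blk.pos; omega) hp.out.one_lt).ne
    have h1 := hypX.gen hLn hLK
    refine hXM fun x hx => ?_
    obtain ⟨l, hl, s, hs, hls⟩ := CfsgLib.Solvable.exists_mul_of_mem_sup (K := L) (A := (S0 : Subgroup ↥X))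
      (by rw [normalizer_eq_top L]; exact le_top) (h1.ge (mem_top (⟨x, hx⟩ : ↥X)))
    rw [show x = ((⟨x, hx⟩ : ↥X) : Γ) from rfl, hls]
    exact mul_mem (hle ⟨l, hl, rfl⟩) (c.sylLe (hS0map.le ⟨s, hs, rfl⟩).1)
  obtain ⟨Z, ⟨hBZ, hZL, hZM⟩, hZmin⟩ := Set.Finite.exists_minimal
    (s := {Z : Subgroup Γ | B ≤ Z ∧ Z ≤ L1 ∧ ¬ Z ≤ M}) (Set.toFinite _) ⟨L1, hBL1, le_rfl, hL1M⟩
  have hZX : Z ≤ X := hZL.trans hL1X
  have hZE : Z ≤ E := hZX.trans hXE
  have hBp : IsPGroup p B := T.2.to_le inf_le_left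
  have hL1i : ¬ p ∣ B.relIndex L1 := by
    rw [hL1, ← hB0map, relIndex_map_map_of_injective _ _ X.subtype_injective, ← hLsyl]
    exact CfsgLib.LocalEven.ZJFusion.not_dvd_relIndex_inf (K := ⊤) S0.2 le_top
      (by rw [relIndex_top_right]; exact S0.not_dvd_index) le_top (by rw [normalizer_eq_top L])
  have hBZi : ¬ p ∣ B.relIndex Z := fun hd => hL1i (hd.trans (Dvd.intro _ (relIndex_mul_relIndex _ _ _ hBZ hZL)))
  have hL1char : CfsgLib.LocalEven.HasCharP p ↥L1 :=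
    CfsgLib.LocalEven.hasCharP_congr (L.equivMapOfInjective X.subtype X.subtype_injective) (hXchar.of_normal L)
  have hZchar : CfsgLib.LocalEven.HasCharP p ↥Z := by
    refine (CfsgLib.LocalEven.hasCharP_subgroupOf_iff hZL).1 (hL1char.of_pCore_le_normalizer ?_)
    refine le_trans ?_ le_normalizer
    intro q hq
    let BQ : Sylow p ↥L1 := hBp.comap_subtype.toSylow hL1i
    exact hBZ ((IsPGroup.toSylow_coe _ _ : (BQ : Subgroup ↥L1) = _).le (CfsgLib.Cores.pCore_le_sylow BQ hq))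
  have hZtop : (Z.subgroupOf E).map ρ = ⊤ :=
    hcover Z (hZX.trans hXY) hZM (hρB.trans (Subgroup.map_mono (Subgroup.comap_mono hBZ)))
  obtain ⟨SB, hSB, hypZ, hρZ, he3⟩ := mk Z B hZE hZM hBZ hBp inf_le_left hBZi hZchar hZtop
    fun H' h1 h2 h3 => le_antisymm h2 (hZmin ⟨h1, h2.trans hZL, h3⟩ h2)
  have hSBmap : (SB : Subgroup ↥Z).map Z.subtype = B := by rw [hSB, map_subgroupOf_eq_of_le hBZ]
  have hd : CfsgLib.LocalEven.PushUp.NoChar SB := by
    intro K hK hKne hKc hKn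
    set K1 := K.map Z.subtype with hK1
    have hK1B : K1 ≤ B := (Subgroup.map_mono hK).trans hSBmap.le
    have hK1c : (K1.subgroupOf B).Characteristic := by
      refine characteristic_iff_map_le.2 fun φ => ?_
      rintro _ ⟨x, hx, rfl⟩
      let ε : ↥(SB : Subgroup ↥Z) ≃* ↥B :=
        ((SB : Subgroup ↥Z).equivMapOfInjective Z.subtype Z.subtype_injective).trans (MulEquiv.subgroupCongr hSBmap)
      have hε : ∀ y : ↥(SB : Subgroup ↥Z), ((ε y : ↥B) : Γ) = ((y : ↥Z) : Γ) := fun y => rfl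
      obtain ⟨k, hk, hkx⟩ := hx
      have hxk : ε ⟨k, hK hk⟩ = x := Subtype.ext ((hε _).trans hkx)
      have h1 := characteristic_iff_map_le.1 hKc ((ε.trans φ).trans ε.symm) ⟨⟨k, hK hk⟩, hk, rfl⟩
      simp only [MulEquiv.coe_toMonoidHom, MulEquiv.trans_apply, hxk] at h1
      refine ⟨_, h1, ?_⟩
      exact (hε _).symm.trans (congrArg Subtype.val (ε.apply_symm_apply (φ x)))
    have hK1T := char_trans (inf_le_left : B ≤ _) hK1B hBc hK1c
    refine c.noChar K1 (hK1B.trans inf_le_left)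
      (fun e => hKne ((Subgroup.map_eq_bot_iff_of_injective _ Z.subtype_injective).1 e)) hK1T ?_
    refine c.normal_of_normalized (sylow_le_normalizer_char (hK1B.trans inf_le_left) hK1T) (X := Z) ?_ hZM
    intro x hx
    refine CfsgLib.Fusion.mem_normalizer_of_forall ?_
    rintro _ ⟨k, hk, rfl⟩
    exact ⟨_, hKn.conj_mem k hk ⟨x, hx⟩, rfl⟩
  have hnat := (CfsgLib.LocalEven.PushUp.pushingUp hypZ
    (CfsgLib.LocalEven.PushUp.torusComm_of_equiv _ F n blk.pos hF he3) hd F hF).1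
  -- the central involution
  set ρZ := ρ.comp (Subgroup.inclusion hZE) with hρZdef
  have hpZk : pCore p ↥Z ≤ ρZ.ker := fun q hq => mem_bot.1 ((normal_pGroup_eq_bot (p := p) c.hp2 blk.pos hF
    ((inferInstance : (pCore p ↥Z).Normal).map _ hρZ) ((CfsgLib.Cores.isPGroup_pCore p).map _)).le
      (mem_map_of_mem _ hq))
  have hkerZ : ρZ.ker = pCore p ↥Z := by
    obtain ⟨e⟩ := hnat.1
    refine (eq_of_le_of_card_ge hpZk ?_).symm
    have e1 := Subgroup.card_eq_card_quotient_mul_card_subgroup ρZ.ker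
    have e2 := Subgroup.card_eq_card_quotient_mul_card_subgroup (pCore p ↥Z)
    rw [Nat.card_congr (QuotientGroup.quotientKerEquivOfSurjective ρZ hρZ).toEquiv] at e1
    rw [Nat.card_congr e.toEquiv, e1] at e2
    exact (Nat.eq_of_mul_eq_mul_left Nat.card_pos e2).le
  set m : Matrix.SpecialLinearGroup (Fin 2) F := scalarM (-1) (by ring) with hm
  have hmc : m ∈ center _ := scalarM_mem_center _ _
  have hm2 : m ^ 2 = 1 := by rw [pow_two]; exact center_sq hmc
  have hm1 : m ≠ 1 := fun e => by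
    have h1 := congrArg (fun x : Matrix.SpecialLinearGroup (Fin 2) F => x.1 0 0) e
    simp [hm, scalarM00] at h1
    haveI : CharP F p := charP_of_card_eq_prime_pow hF
    refine c.hp2 ((Nat.prime_dvd_prime_iff_eq hp.out Nat.prime_two).1 ((CharP.cast_eq_zero_iff F p 2).1 ?_))
    rw [Nat.cast_two]
    linear_combination -h1
  obtain ⟨z0, hz0⟩ := hρZ m
  obtain ⟨k, l, hl, hkl⟩ := Nat.exists_eq_pow_mul_and_not_dvd (orderOf_pos z0).ne' p hp.out.ne_one
  set z := z0 ^ p ^ k with hz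
  have hzord : (orderOf z).Coprime p := by
    rw [hz, orderOf_pow_of_dvd (pow_ne_zero _ hp.out.ne_zero) (hkl ▸ dvd_mul_right _ _), hkl,
      Nat.mul_div_cancel_left _ (pow_pos hp.out.pos k)]
    exact ((hp.out.coprime_iff_not_dvd).2 hl).symm
  have hzρ : ρZ z = m := by
    obtain ⟨j, hj⟩ := (hp.out.odd_of_ne_two c.hp2).pow (n := k)
    rw [hz, map_pow, hz0, hj, pow_succ, pow_mul, hm2, one_pow, one_mul]
  have hzQ : z ∉ pCore p ↥Z := fun h => hm1 (hzρ ▸ (MonoidHom.mem_ker (f := ρZ)).1 (hkerZ ▸ h))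
  have hzc : ∀ x : ↥Z, ⁅z, x⁆ ∈ pCore p ↥Z := fun x => by
    rw [← hkerZ, MonoidHom.mem_ker, map_commutatorElement, hzρ, commutatorElement_eq_one_iff_mul_comm]
    exact (mem_center_iff.1 hmc _).symm
  have hzE0 : (z : Γ) ∈ E0 := hcop _ (hXY (hZX z.2)) (by rwa [Subgroup.orderOf_coe])
  obtain ⟨N, hN, hNM, hzN⟩ := blk.central (Subgroup.inclusion hZE z) hzE0 (hzρ ▸ hmc : ρZ z ∈ center _)
  -- a `p'`-element outside `M`
  obtain ⟨g, hg, hgM⟩ : ∃ g : ↥Z, (orderOf g).Coprime p ∧ (g : Γ) ∉ M := by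
    by_contra hall
    push Not at hall
    have h1 : pResidual p ↥Z ⊔ (SB : Subgroup ↥Z) ≤ M.subgroupOf Z := sup_le
      ((closure_le _).2 fun x hx => hall x hx) (hSB.le.trans fun b hb => c.sylLe hb.1)
    rw [CfsgLib.Transfer.pResidual_sup_sylow] at h1
    exact hZM (subgroupOf_eq_top.1 (top_unique h1))
  set U' := U.subgroupOf Z with hU'
  set R' := R.subgroupOf Z with hR'
  have hU'Q : U' ≤ pCore p ↥Z :=
    CfsgLib.Cores.le_pCore ((CfsgLib.Cores.isPGroup_pCore p).to_le hUP).comap_subtype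
  have hfix := chain_centralized c.hp2 blk.pos hF hnat hzQ hzc hU'Q
    (fun u hu => hUN N hN hNM _ hzN (u : Γ) hu) hg U' inferInstance (Subgroup.comap_mono hRU) le_rfl
  refine ⟨g, hgM, fun x hx => ?_⟩
  have hy : ⁅(g : Γ), x⁆ ∈ U := by
    rw [commutatorElement_def]
    exact mul_mem ((inferInstance : U.Normal).conj_mem x hx g) (inv_mem hx)
  have hxX : x ∈ X := hT0X (hPT0 (hUP hx))
  obtain ⟨g1, hg1, hg1e⟩ := hZL g.2
  have hyL : ⁅(g : Γ), x⁆ ∈ L1 := by
    refine ⟨⁅g1, (⟨x, hxX⟩ : ↥X)⁆, ?_, by rw [map_commutatorElement, hg1e]; rfl⟩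
    rw [show ⁅g1, (⟨x, hxX⟩ : ↥X)⁆ = g1 * ((⟨x, hxX⟩ : ↥X) * g1⁻¹ * (⟨x, hxX⟩ : ↥X)⁻¹) by
      rw [commutatorElement_def]; group]
    exact mul_mem hg1 (hLn.conj_mem _ (inv_mem hg1) _)
  have hyB : ⁅(g : Γ), x⁆ ∈ B := by
    obtain ⟨y1, hy1, he⟩ := hyL
    rw [← he] at hy ⊢
    exact hB0map.le ⟨y1, hLsyl.le ⟨hS0 ▸ (hPT0 (hUP hy) : (y1 : Γ) ∈ T0), hy1⟩, rfl⟩
  exact mem_of_commutator_chain ((CfsgLib.Cores.isPGroup_pCore p).to_le hUP)
    (by rwa [Subgroup.orderOf_coe]) hy (hfix ⟨_, hBZ hyB⟩ hy)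

end CfsgLib.Techniques.CharTransfer
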