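import Cfsg.Agent.Lib.LocalEven.PairUp.Reduce
import Cfsg.Agent.Lib.LocalEven.PushUp.Transport
import Cfsg.Agent.Lib.Techniques.Functor.TransferStatements

/-!
The characteristic subgroup `K(T)`: with `B = C_T(Z(J(T)))`, the join of the Frattini subgroups of the minimal
centrally large subgroups of `B` with largest `Ω₁` of the centre, or `B` itself if that join is trivial.
-/

set_option autoImplicit false

namespace CfsgLib.Techniques.CharTransfer

open Subgroup Cfsg CfsgLib.Techniques.Functor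
open CfsgLib.PStab (zjGen zjGen_le zjGen_map maxAdm)

universe u

variable {G : Type*} [Group G]

/-- `C_T(Z(J(T)))`. -/
def zjCen (T : Subgroup G) : Subgroup G := T ⊓ centralizer (zjGen 0 T : Set G)

/-- The subgroup `K(T)`. -/
noncomputable def kOf (p : ℕ) (T : Subgroup G) : Subgroup G :=
  @ite _ (frattiniOfMinimalCLJoin p ↥(zjCen T) = ⊥) (Classical.propDecidable _) (zjCen T)
    ((frattiniOfMinimalCLJoin p ↥(zjCen T)).map (zjCen T).subtype)

theorem kOf_le_zjCen (p : ℕ) (T : Subgroup G) : kOf p T ≤ zjCen T := by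
  unfold kOf
  split
  · exact le_rfl
  · exact map_subtype_le _

theorem kOf_le (p : ℕ) (T : Subgroup G) : kOf p T ≤ T := (kOf_le_zjCen p T).trans inf_le_left

theorem kOf_eq_bot {p : ℕ} {T : Subgroup G} (h : frattiniOfMinimalCLJoin p ↥(zjCen T) = ⊥) :
    kOf p T = zjCen T := by
  classical
  rw [kOf, if_pos h]

theorem kOf_eq_map {p : ℕ} {T : Subgroup G} (h : frattiniOfMinimalCLJoin p ↥(zjCen T) ≠ ⊥) :
    kOf p T = (frattiniOfMinimalCLJoin p ↥(zjCen T)).map (zjCen T).subtype := by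
  classical
  rw [kOf, if_neg h]

theorem kOf_ne_bot [Finite G] {p : ℕ} [Fact p.Prime] {T : Subgroup G} (hT : IsPGroup p T) (hne : T ≠ ⊥) :
    kOf p T ≠ ⊥ := by
  classical
  by_cases h : frattiniOfMinimalCLJoin p ↥(zjCen T) = ⊥
  · rw [kOf_eq_bot h]
    haveI : Nontrivial ↥T := (nontrivial_iff_ne_bot T).2 hne
    obtain ⟨z, hz⟩ := (nontrivial_iff_exists_ne_one _).1 hT.center_nontrivial
    intro e
    refine hz.2 (Subtype.ext (mem_bot.1 (e ▸ (?_ : (z : G) ∈ zjCen T))))
    exact ⟨z.2, mem_centralizer_iff.2 fun x hx =>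
      congrArg Subtype.val (mem_center_iff.1 hz.1 ⟨x, zjGen_le 0 T hx⟩)⟩
  · rw [kOf_eq_map h]
    exact fun e => h ((Subgroup.map_eq_bot_iff_of_injective _ (zjCen T).subtype_injective).1 e)

theorem zjCen_map {H : Type*} [Group H] {f : G →* H} (hf : Function.Injective f) (T : Subgroup G) :
    (zjCen T).map f = zjCen (T.map f) := by
  ext y
  constructor
  · rintro ⟨x, ⟨hx1, hx2⟩, rfl⟩
    refine ⟨mem_map_of_mem f hx1, mem_centralizer_iff.2 ?_⟩
    intro z hz
    rw [SetLike.mem_coe, zjGen_map (e := 0) hf] at hz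
    obtain ⟨z, hz, rfl⟩ := hz
    rw [← map_mul, mem_centralizer_iff.1 hx2 z hz, map_mul]
  · rintro ⟨⟨x, hx, rfl⟩, hy⟩
    refine ⟨x, ⟨hx, mem_centralizer_iff.2 fun z hz => hf ?_⟩, rfl⟩
    rw [map_mul, map_mul]
    exact mem_centralizer_iff.1 hy _ ((zjGen_map (e := 0) hf T).ge (mem_map_of_mem f hz))

/-- `K` commutes with injective homomorphisms. -/
theorem kOf_map [Finite G] {H : Type*} [Group H] [Finite H] (p : ℕ) {f : G →* H} (hf : Function.Injective f)
    (T : Subgroup G) : (kOf p T).map f = kOf p (T.map f) := by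
  classical
  let e : ↥(zjCen T) ≃* ↥(zjCen (T.map f)) :=
    ((zjCen T).equivMapOfInjective f hf).trans (MulEquiv.subgroupCongr (zjCen_map hf T))
  have hFJ := CfsgLib.LocalEven.PairUp.map_frattiniJoin p e
  have he : (zjCen (T.map f)).subtype.comp e.toMonoidHom = f.comp (zjCen T).subtype := MonoidHom.ext fun _ => rfl
  by_cases h : frattiniOfMinimalCLJoin p ↥(zjCen T) = ⊥
  · have h' : frattiniOfMinimalCLJoin p ↥(zjCen (T.map f)) = ⊥ := by rw [← hFJ, h, Subgroup.map_bot]
    rw [kOf_eq_bot h, kOf_eq_bot h', zjCen_map hf]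
  · have h' : frattiniOfMinimalCLJoin p ↥(zjCen (T.map f)) ≠ ⊥ := fun e0 =>
      h ((Subgroup.map_eq_bot_iff_of_injective _ e.injective).1 (hFJ.trans e0))
    rw [kOf_eq_map h, kOf_eq_map h', ← hFJ, Subgroup.map_map, Subgroup.map_map, he]

/-- `K` as a functor. -/
noncomputable def kFun (p : ℕ) : ∀ (Q : Type u) [Group Q], Subgroup Q := fun Q _ => kOf p (⊤ : Subgroup Q)

theorem isCharPFunctor_kFun (p : ℕ) [Fact p.Prime] : IsCharPFunctor.{u} p (kFun p) := by
  refine ⟨fun Q _ _ hQ _ => ?_, fun Q R _ _ _ _ φ => ?_⟩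
  · exact kOf_ne_bot (hQ.to_subgroup ⊤) fun e => not_subsingleton Q (by
      refine ⟨fun a b => ?_⟩
      have ha : a ∈ (⊤ : Subgroup Q) := mem_top a
      have hb : b ∈ (⊤ : Subgroup Q) := mem_top b
      rw [e, mem_bot] at ha hb
      rw [ha, hb])
  · show (kOf p (⊤ : Subgroup Q)).map φ.toMonoidHom = kOf p (⊤ : Subgroup R)
    haveI := Finite.of_equiv Q φ.toEquiv
    rw [kOf_map p (f := φ.toMonoidHom) φ.injective, map_top_of_surjective _ φ.surjective]

theorem induced_kFun {Γ : Type u} [Group Γ] [Finite Γ] (p : ℕ) (T : Subgroup Γ) :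
    inducedFunctor (G := Γ) (kFun p) T = kOf p T := by
  show (kOf p (⊤ : Subgroup ↥T)).map T.subtype = kOf p T
  rw [kOf_map p T.subtype_injective, ← MonoidHom.range_eq_map, range_subtype]

/-- The centre as a functor. -/
def zFun : ∀ (Q : Type u) [Group Q], Subgroup Q := fun Q _ => center Q

theorem isCharPFunctor_zFun (p : ℕ) [Fact p.Prime] : IsCharPFunctor.{u} p zFun := by
  refine ⟨fun Q _ _ hQ _ => ?_, fun Q R _ _ _ _ φ => ?_⟩
  · haveI := hQ.center_nontrivial
    show center Q ≠ ⊥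
    exact (nontrivial_iff_ne_bot _).1 inferInstance
  · show (center Q).map φ.toMonoidHom = center R
    ext y
    constructor
    · rintro ⟨x, hx, rfl⟩
      refine mem_center_iff.2 fun r => ?_
      obtain ⟨q, rfl⟩ := φ.surjective r
      show φ q * φ x = φ x * φ q
      rw [← map_mul, ← map_mul, mem_center_iff.1 hx q]
    · intro hy
      refine ⟨φ.symm y, mem_center_iff.2 fun q => φ.injective ?_, φ.apply_symm_apply y⟩
      rw [map_mul, map_mul, φ.apply_symm_apply]
      exact mem_center_iff.1 hy (φ q)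

theorem induced_zFun {Γ : Type u} [Group Γ] (T : Subgroup Γ) :
    inducedFunctor (G := Γ) zFun T = T ⊓ centralizer (T : Set Γ) := by
  show (center ↥T).map T.subtype = _
  ext x
  constructor
  · rintro ⟨y, hy, rfl⟩
    exact ⟨y.2, mem_centralizer_iff.2 fun g hg => congrArg Subtype.val (mem_center_iff.1 hy ⟨g, hg⟩)⟩
  · rintro ⟨hx, hxc⟩
    exact ⟨⟨x, hx⟩, mem_center_iff.2 fun g => Subtype.ext (mem_centralizer_iff.1 hxc g g.2), rfl⟩

/-- The two functors. -/
def kzSet (p : ℕ) : Set (∀ (Q : Type u) [Group Q], Subgroup Q) := {kFun p, zFun}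

theorem isCharPFunctor_kzSet (p : ℕ) [Fact p.Prime] : ∀ W ∈ kzSet.{u} p, IsCharPFunctor.{u} p W := by
  rintro _ (rfl | rfl)
  · exact isCharPFunctor_kFun p
  · exact isCharPFunctor_zFun p

end CfsgLib.Techniques.CharTransfer
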