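import Cfsg.Agent.Lib.Techniques.Functor.TransferStatements

/-!
The set of all isomorphism-invariant `p`-group functors: its target in a group is generated by the
`T ∩ N(K)'`, `K` running over the nontrivial characteristic subgroups of `T`.
-/

set_option autoImplicit false

namespace CfsgLib.Techniques.CharTransfer

open Subgroup Cfsg CfsgLib.Techniques.Functor
open scoped commutatorElement

universe u

/-- All isomorphism-invariant `p`-group functors. -/
def allChar (p : ℕ) : Set (∀ (Q : Type u) [Group Q], Subgroup Q) := {W | IsCharPFunctor.{u} p W}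

open Classical in
/-- A functor with a prescribed value at `T`. -/
noncomputable def pinned (T : Type u) [Group T] (K : Subgroup T) : ∀ (Q : Type u) [Group Q], Subgroup Q :=
  fun Q _ => if h : Nonempty (T ≃* Q) then K.map h.some.toMonoidHom else ⊤

theorem pinned_map {T : Type u} [Group T] {K : Subgroup T} (hK : K.Characteristic) {Q : Type u} [Group Q]
    (e : T ≃* Q) : pinned T K Q = K.map e.toMonoidHom := by
  classical
  have h : Nonempty (T ≃* Q) := ⟨e⟩
  rw [pinned, dif_pos h]
  conv_lhs => rw [← characteristic_iff_map_eq.1 hK (e.trans h.some.symm)]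
  rw [Subgroup.map_map]
  congr 1
  ext x
  simp

theorem isCharPFunctor_pinned (p : ℕ) (T : Type u) [Group T] (K : Subgroup T) (hK : K.Characteristic)
    (hne : K ≠ ⊥) : IsCharPFunctor.{u} p (pinned T K) := by
  classical
  refine ⟨fun Q _ _ _ hQ => ?_, fun Q R _ _ _ _ φ => ?_⟩
  · by_cases h : Nonempty (T ≃* Q)
    · rw [pinned_map hK h.some]
      exact fun e => hne ((Subgroup.map_eq_bot_iff_of_injective _ h.some.injective).1 e)
    · rw [pinned, dif_neg h]
      exact top_ne_bot
  · by_cases h : Nonempty (T ≃* Q)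
    · rw [pinned_map hK h.some, pinned_map hK (h.some.trans φ), Subgroup.map_map]
      rfl
    · have h' : ¬ Nonempty (T ≃* R) := fun ⟨e⟩ => h ⟨e.trans φ.symm⟩
      rw [pinned, dif_neg h, pinned, dif_neg h', map_top_of_surjective _ φ.surjective]

theorem isCharPFunctor_top (p : ℕ) : IsCharPFunctor.{u} p (fun (Q : Type u) [Group Q] => (⊤ : Subgroup Q)) :=
  ⟨fun _ _ _ _ _ => top_ne_bot, fun _ _ _ _ _ _ φ => map_top_of_surjective _ φ.surjective⟩

variable {p : ℕ} {Γ : Type u} [Group Γ]

/-- Each nontrivial characteristic subgroup contributes to the target. -/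
theorem le_tgt_char (T : Subgroup Γ) {K : Subgroup Γ} (hKT : K ≤ T) (hne : K ≠ ⊥)
    (hK : (K.subgroupOf T).Characteristic) :
    T ⊓ ⁅normalizer (K : Set Γ), normalizer (K : Set Γ)⁆ ≤ tgt (allChar.{u} p) T := by
  have hne' : K.subgroupOf T ≠ ⊥ := fun e => hne (by
    rw [← map_subgroupOf_eq_of_le hKT, e, Subgroup.map_bot])
  have hval : inducedFunctor (G := Γ) (pinned ↥T (K.subgroupOf T)) T = K := by
    show (pinned ↥T (K.subgroupOf T) ↥T).map T.subtype = K
    rw [pinned_map hK (MulEquiv.refl ↥T), Subgroup.map_map]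
    exact map_subgroupOf_eq_of_le hKT
  have h := le_tgt (𝓦 := allChar.{u} p) (isCharPFunctor_pinned p ↥T _ hK hne') T
  rwa [hval] at h

theorem derived_le_tgt (T : Subgroup Γ) : ⁅T, T⁆ ≤ tgt (allChar.{u} p) T := by
  have h := le_tgt (𝓦 := allChar.{u} p) (isCharPFunctor_top.{u} p) T
  refine le_trans (le_inf ((commutator_le_self T)) ?_) h
  have e : inducedFunctor (G := Γ) (fun (Q : Type u) [Group Q] => (⊤ : Subgroup Q)) T = T := by
    show (⊤ : Subgroup ↥T).map T.subtype = T
    rw [← MonoidHom.range_eq_map, range_subtype]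
  rw [e]
  exact commutator_mono le_normalizer le_normalizer

theorem tgt_allChar_le [Finite Γ] {T : Subgroup Γ} (hT : IsPGroup p T) (hne : T ≠ ⊥) :
    tgt (allChar.{u} p) T ≤
      ⨆ K : {K : Subgroup ↥T // K ≠ ⊥ ∧ K.Characteristic},
        T ⊓ ⁅normalizer (((K : Subgroup ↥T).map T.subtype : Subgroup Γ) : Set Γ),
          normalizer (((K : Subgroup ↥T).map T.subtype : Subgroup Γ) : Set Γ)⁆ :=
  iSup₂_le fun W hW => le_iSup_of_le (⟨W ↥T, hW.1 ↥T hT ((nontrivial_iff_ne_bot T).2 hne),
    characteristic_iff_map_eq.2 fun φ => hW.2 ↥T ↥T hT φ⟩ : {K : Subgroup ↥T // K ≠ ⊥ ∧ K.Characteristic}) le_rfl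

end CfsgLib.Techniques.CharTransfer
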