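import Cfsg.Agent.Lib.Techniques.CharTransfer.WeakCtx
import Cfsg.Agent.Lib.Techniques.CharTransfer.Fixed
import Cfsg.Agent.Lib.LocalEven.MinimalOver
import Cfsg.Agent.Lib.Solvable.LagrangeConverse

/-!
One block, cut out by the abelian subgroups of largest order of the Sylow subgroup.
-/

set_option autoImplicit false
set_option maxHeartbeats 1000000

namespace CfsgLib.Techniques.CharTransfer

open Subgroup Cfsg
open CfsgLib.LocalEven
open scoped commutatorElement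
open CfsgLib.LocalEven.RankOne (modStab modStab_normal)
open CfsgLib.Fusion (conjSub conjSub_conjSub conjSub_eq_iff_mem_normalizer conj_mem_conjSub)
open CfsgLib.PStab (jGen zjGen maxAdm adm_comm le_jGen mem_of_commute_maxAdm)

universe u

variable {p : ℕ} [hp : Fact p.Prime] {Γ : Type u} [Group Γ] [Finite Γ]

/-- What is used of one block. -/
structure OffBlock (T : Sylow p Γ) (M : Subgroup Γ) (F : Type) [Field F] (n : ℕ) (E E0 : Subgroup Γ)
    (ρ : ↥E →* Matrix.SpecialLinearGroup (Fin 2) F) : Prop where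
  jLe : jGen 0 (T : Subgroup Γ) ≤ E
  bLe : zjCen (T : Subgroup Γ) ≤ E
  normal : E.Normal
  pCore_le : pCore p Γ ≤ E
  pos : 1 ≤ n
  le : E0 ≤ E
  norm : E ≤ normalizer (E0 : Set Γ)
  notLe : ¬ E0 ≤ M
  onto : ∀ w, ∃ e : ↥E, (e : Γ) ∈ E0 ∧ ρ e = w
  move : ∀ e : ↥E, (e : Γ) ∈ E0 →
    ρ e ∈ normalizer ((((T : Subgroup Γ) ⊓ E).subgroupOf E).map ρ : Set (Matrix.SpecialLinearGroup (Fin 2) F)) → (e : Γ) ∈ M
  central : ∀ z : ↥E, (z : Γ) ∈ E0 → ρ z ∈ center (Matrix.SpecialLinearGroup (Fin 2) F) →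
    ∃ N : Subgroup Γ, N.Normal ∧ N ≤ M ∧ (z : Γ) ∈ N

theorem WCtx.exists_offBlock {T : Sylow p Γ} {M : Subgroup Γ} (c : WCtx T M) :
    ∃ (F : Type) (_ : Field F) (_ : Fintype F) (n : ℕ) (E E0 : Subgroup Γ)
      (ρ : ↥E →* Matrix.SpecialLinearGroup (Fin 2) F), Fintype.card F = p ^ n ∧ OffBlock T M F n E E0 ρ := by
  classical
  haveI := CfsgLib.Cores.pCore_characteristic (G := Γ) p
  haveI hQn : (pCore p Γ).Normal := inferInstance
  set Q := pCore p Γ with hQdef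
  set V := omegaOneCenter p Q with hVdef
  set C := centralizer (V : Set Γ) with hCdef
  have hQT : Q ≤ (T : Subgroup Γ) := CfsgLib.Cores.pCore_le_sylow T
  have hVT : V ≤ (T : Subgroup Γ) := (Oz.le_self Q).trans hQT
  haveI hVn : V.Normal := normalizer_eq_top_iff.1 (top_le_iff.1
    ((normalizer_eq_top (H := Q)).ge.trans (Oz.normalizer_le Q)))
  have hVe : IsElementaryAbelian p V := Oz.elemAb Q
  haveI hCn : C.Normal := by rw [hCdef]; infer_instance
  have hPC : pCore p Γ ≤ C := fun q hq => mem_centralizer_iff.2 fun v hv => ((Oz.mem_iff.1 hv).2.1 q hq).symm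
  have hZV : omegaOneCenter p (T : Subgroup Γ) ≤ V := by
    intro z hz
    obtain ⟨hzT, hzc, hzp⟩ := Oz.mem_iff.1 hz
    have hzQ : z ∈ Q := c.center_le_pCore ⟨hzT, mem_centralizer_iff.2 fun t ht => hzc t ht⟩
    exact Oz.mem_iff.2 ⟨hzQ, fun q hq => hzc q (hQT hq), hzp⟩
  have hCM : C ≤ M := (centralizer_le hZV).trans c.centralizer_omega_le
  have huniqC : ∀ M' : Subgroup Γ, IsCoatom M' ∧ (T : Subgroup Γ) ≤ M' → M' = M := fun M' hM' =>
    ((hM'.1.le_iff.1 (c.uniq M' hM'.2 hM'.1.1)).resolve_left c.coatom.1).symm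
  -- the quotient
  set π : Γ →* Γ ⧸ C := QuotientGroup.mk' C with hπdef
  have hπs : Function.Surjective π := QuotientGroup.mk'_surjective C
  have hπ1 : ∀ g : Γ, π g = 1 ↔ g ∈ C := fun g => QuotientGroup.eq_one_iff g
  set Tb : Sylow p (Γ ⧸ C) := T.mapSurjective hπs with hTb
  have hTbc : (Tb : Subgroup (Γ ⧸ C)) = (T : Subgroup Γ).map π := rfl
  letI : CommGroup ↥V :=
    { (inferInstance : Group ↥V) with mul_comm := fun a b => hVe.1.1.comm a b }
  let f : Γ ⧸ C →* MulAut ↥V := QuotientGroup.lift C (MulAut.conjNormal (H := V)) fun c hc => by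
    rw [MonoidHom.mem_ker]
    ext v
    rw [MulAut.conjNormal_apply, MulAut.one_apply, ← mem_centralizer_iff.1 hc v v.2, mul_inv_cancel_right]
  letI : DistribMulAction (Γ ⧸ C) (Additive ↥V) :=
    { smul := fun x v => Additive.ofMul (f x (Additive.toMul v))
      one_smul := fun v => by
        show Additive.ofMul (f 1 (Additive.toMul v)) = v
        rw [map_one, MulAut.one_apply, ofMul_toMul]
      mul_smul := fun x y v => by
        show Additive.ofMul (f (x * y) (Additive.toMul v)) = Additive.ofMul (f x (f y (Additive.toMul v)))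
        rw [map_mul, MulAut.mul_apply]
      smul_zero := fun x => congrArg Additive.ofMul (map_one (f x))
      smul_add := fun x a b => congrArg Additive.ofMul (map_mul (f x) (Additive.toMul a) (Additive.toMul b)) }
  have hsmul : ∀ (g : Γ) (v : Additive ↥V),
      ((Additive.toMul (π g • v) : ↥V) : Γ) = g * (Additive.toMul v : ↥V) * g⁻¹ := fun g v => MulAut.conjNormal_apply g _
  have hext : ∀ v w : Additive ↥V, ((Additive.toMul v : ↥V) : Γ) = ((Additive.toMul w : ↥V) : Γ) → v = w :=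
    fun v w e => Additive.toMul.injective (Subtype.ext e)
  have hfx : ∀ (K : Subgroup Γ) (v : Additive ↥V), v ∈ MinOffender.fx (Additive ↥V) (K.map π) ↔
      ((Additive.toMul v : ↥V) : Γ) ∈ V ⊓ centralizer (K : Set Γ) := by
    intro K v
    constructor
    · intro hv
      refine ⟨(Additive.toMul v).2, mem_centralizer_iff.2 fun g hg => ?_⟩
      have h1 := congrArg (fun z : Additive ↥V => ((Additive.toMul z : ↥V) : Γ)) (hv (π g) ⟨g, hg, rfl⟩)
      simp only [hsmul] at h1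
      exact mul_inv_eq_iff_eq_mul.1 h1
    · rintro hv _ ⟨g, hg, rfl⟩
      apply hext
      rw [hsmul, mem_centralizer_iff.1 hv.2 g hg, mul_inv_cancel_right]
  have hMc : ∀ g : Γ, π g ∈ M.map π → g ∈ M := fun g hg => by
    have h1 : g ∈ (M.map π).comap π := hg
    rwa [comap_map_eq_self (by rw [hπdef, QuotientGroup.ker_mk']; exact hCM)] at h1
  have hset : PMinFF.Setting p Tb (M.map π) (Additive ↥V) := by
    refine ⟨fun v => ?_, fun x hx => ?_, ?_, fun e => ?_, fun H hH hne' => ?_, fun E hE hEp => ?_, fun x hx => ?_⟩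
    · apply hext
      rw [toMul_nsmul, Subgroup.coe_pow]
      exact hVe.2 _ (Additive.toMul v).2
    · obtain ⟨g, rfl⟩ := hπs x
      refine (hπ1 g).2 (mem_centralizer_iff.2 fun v hv => ?_)
      have h1 := congrArg (fun z : Additive ↥V => ((Additive.toMul z : ↥V) : Γ)) (hx (Additive.ofMul ⟨v, hv⟩))
      simp only [hsmul] at h1
      exact (mul_inv_eq_iff_eq_mul.1 h1).symm
    · rw [hTbc]; exact Subgroup.map_mono c.sylLe
    · exact c.coatom.1 (top_le_iff.1 fun g _ => hMc g (e ▸ Subgroup.mem_top _))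
    · have h1 : H.comap π ≤ M := c.uniq _ (fun t ht => hH (by rw [hTbc]; exact ⟨t, ht, rfl⟩))
        fun e => hne' (by rw [← map_comap_eq_self_of_surjective hπs H, e, map_top_of_surjective _ hπs])
      rw [← map_comap_eq_self_of_surjective hπs H]
      exact Subgroup.map_mono h1
    · haveI := hE
      have hKM : E.comap π ≤ M := fun g hg => hMc g (Subgroup.map_mono c.sylLe (hTbc ▸ hEp.le_sylow_of_normal Tb hg))
      rw [Subgroup.eq_bot_iff_forall]
      intro x hx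
      obtain ⟨g, rfl⟩ := hπs x
      obtain ⟨t, ht, hte⟩ : π g ∈ (T : Subgroup Γ).map π := hTbc ▸ hEp.le_sylow_of_normal Tb hx
      rw [← hte]
      haveI := hE.comap π
      exact (hπ1 t).2 (hPC (MinOver.inf_le_pCore T c.coatom huniqC (E.comap π) hKM
        ⟨ht, show π t ∈ E from hte ▸ hx⟩))
    · obtain ⟨g, rfl⟩ := hπs x
      refine ⟨g, c.centralizer_omega_le (mem_centralizer_iff.2 fun z hz => ?_), rfl⟩
      have h1 := congrArg (fun w : Additive ↥V => ((Additive.toMul w : ↥V) : Γ))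
        (hx (Additive.ofMul ⟨z, hZV hz⟩) (by
          rw [hTbc]
          exact (hfx _ _).2 ⟨hZV hz, mem_centralizer_iff.2 (Oz.mem_iff.1 hz).2.1⟩))
      simp only [hsmul] at h1
      exact (mul_inv_eq_iff_eq_mul.1 h1).symm
  -- abelian subgroups of largest order give offenders
  have hcardπ : ∀ A : Subgroup Γ,
      Nat.card ↥A = Nat.card ↥(A.map π) * Nat.card ↥(A ⊓ C : Subgroup Γ) := by
    intro A
    let φ := π.subgroupMap A
    have hk : φ.ker = C.subgroupOf A := by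
      ext a
      rw [MonoidHom.mem_ker, Subgroup.mem_subgroupOf, ← Subtype.val_inj]
      exact hπ1 _
    have e1 := Subgroup.card_eq_card_quotient_mul_card_subgroup φ.ker
    rw [Nat.card_congr (QuotientGroup.quotientKerEquivOfSurjective φ (π.subgroupMap_surjective A)).toEquiv] at e1
    rw [e1, hk, Nat.card_congr (subgroupOfEquivOfLe (inf_le_left : A ⊓ C ≤ A)).symm.toEquiv,
      inf_subgroupOf_left]
  have hAc : ∀ A ∈ maxAdm 0 (T : Subgroup Γ), ∀ a ∈ A.map π, ∀ b ∈ A.map π, a * b = b * a := by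
    rintro A hA _ ⟨a, ha, rfl⟩ _ ⟨b, hb, rfl⟩
    rw [← map_mul, ← map_mul, adm_comm hA.2.1 ha hb]
  have hoff : ∀ A ∈ maxAdm 0 (T : Subgroup Γ),
      Nat.card (Additive ↥V) ≤ Nat.card ↥(A.map π) * Nat.card ↥(MinOffender.fx (Additive ↥V) (A.map π)) := by
    intro A hA
    have h2 := CfsgLib.Solvable.card_sup_mul_card_inf V (A ⊓ C)
    have h1 : Nat.card ↥(V ⊔ (A ⊓ C) : Subgroup Γ) ≤ Nat.card ↥A := by
      refine hA.2.2 _ (sup_le hVT (inf_le_left.trans hA.1)) ⟨?_, fun a _ => pow_zero a⟩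
      have key : V ⊔ (A ⊓ C) ≤ centralizer ((V ⊔ (A ⊓ C) : Subgroup Γ) : Set Γ) := by
        refine sup_le ?_ ?_ <;> rw [le_centralizer_iff] <;> refine sup_le ?_ ?_
        · exact fun v hv => mem_centralizer_iff.2 fun w hw => congrArg Subtype.val (hVe.1.1.comm ⟨w, hw⟩ ⟨v, hv⟩)
        · exact fun a ha => ha.2
        · exact fun v hv => mem_centralizer_iff.2 fun a ha => (mem_centralizer_iff.1 ha.2 v hv).symm
        · exact fun v hv => mem_centralizer_iff.2 fun a ha => adm_comm hA.2.1 ha.1 hv.1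
      exact ⟨⟨fun a b => Subtype.ext (mem_centralizer_iff.1 (key b.2) a a.2)⟩⟩
    have h4 : Nat.card ↥(V ⊓ (A ⊓ C) : Subgroup Γ) ≤ Nat.card ↥(MinOffender.fx (Additive ↥V) (A.map π)) := by
      refine Nat.card_le_card_of_injective (fun w => (⟨Additive.ofMul ⟨(w : Γ), w.2.1⟩, (hfx _ _).2
        ⟨w.2.1, mem_centralizer_iff.2 fun a ha => adm_comm hA.2.1 ha w.2.2.1⟩⟩ :
        ↥(MinOffender.fx (Additive ↥V) (A.map π)))) fun w w' e => ?_
      exact Subtype.ext (congrArg (fun z : ↥(MinOffender.fx (Additive ↥V) (A.map π)) =>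
        ((Additive.toMul (z : Additive ↥V) : ↥V) : Γ)) e)
    rw [show Nat.card (Additive ↥V) = Nat.card ↥V from Nat.card_congr Additive.toMul]
    refine Nat.le_of_mul_le_mul_right (c := Nat.card ↥(A ⊓ C : Subgroup Γ)) ?_ Nat.card_pos
    rw [← h2]
    calc Nat.card ↥(V ⊔ A ⊓ C : Subgroup Γ) * Nat.card ↥(V ⊓ (A ⊓ C) : Subgroup Γ)
        ≤ Nat.card ↥A * Nat.card ↥(MinOffender.fx (Additive ↥V) (A.map π)) := Nat.mul_le_mul h1 h4
      _ = _ := by rw [hcardπ A]; ring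
  obtain ⟨A₀, hA₀, hA₀C⟩ := c.exists_maxAdm_not_le hCM
  have hex : ∃ A : Subgroup (Γ ⧸ C), PMinFF.Member p (Additive ↥V) A :=
    (PMinFF.exists_member (A := A₀.map π)
      (fun e => hA₀C fun a ha => (hπ1 a).1 (mem_bot.1 (e ▸ (⟨a, ha, rfl⟩ : π a ∈ A₀.map π))))
      ((T.2.to_le hA₀.1).map _) (hAc _ hA₀) (hoff _ hA₀)).imp fun B hB => hB.2
  obtain ⟨r, Eb, -, hcommb, hindb, hsupb, hcjb, -, -, hblkb, hmemb, hEle⟩ := hset.structure_thm hex
  have hEnorm : (⨆ i, Eb i).Normal := by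
    refine normalizer_eq_top_iff.1 (top_le_iff.1 (hsupb.ge.trans (sup_le le_normalizer fun t ht =>
      CfsgLib.LocalEven.mem_normalizer_of_conj_le ?_)))
    rw [Subgroup.map_iSup]
    refine iSup_le fun i => map_le_iff_le_comap.2 ((hEle i).trans (iSup_le fun B => ?_))
    exact map_le_iff_le_comap.1
      ((PMinFF.blk_conj hset ht).ge.trans (hmemb _ (PMinFF.InT.conj hset B.2 ht)))
  have hoj : offJoin p Tb (Additive ↥V) ≤ ⨆ i, Eb i := iSup_le fun B =>
    (PMinFF.InT.blk_min hset B.2).aLe.trans (hmemb _ B.2)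
  set E := (⨆ i, Eb i).comap π with hE
  haveI hEn : E.Normal := hEnorm.comap π
  set Ei : Fin r → Subgroup Γ := fun i => (Eb i).comap π with hEi
  have hmapE : ∀ i, (Ei i).map π = Eb i := fun i => map_comap_eq_self_of_surjective hπs _
  have hCE : ∀ i, C ≤ Ei i := fun i c hc => show π c ∈ Eb i by rw [(hπ1 c).2 hc]; exact one_mem _
  have hCsE : C ≤ E := fun c hc => show π c ∈ ⨆ i, Eb i by rw [(hπ1 c).2 hc]; exact one_mem _
  have hAoff : ∀ A ∈ maxAdm 0 (T : Subgroup Γ), A.map π ≤ offJoin p Tb (Additive ↥V) := fun A hA =>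
    le_offJoin hset (hTbc ▸ Subgroup.map_mono hA.1) (hAc A hA) (hoff A hA)
  have hJE : jGen 0 (T : Subgroup Γ) ≤ E := sSup_le fun A hA a ha => hoj (hAoff A hA ⟨a, ha, rfl⟩)
  have hBE : zjCen (T : Subgroup Γ) ≤ E := by
    rintro t ⟨htT, htc⟩
    refine hoj (mem_offJoin hset (g := π t) (hTbc ▸ ⟨t, htT, rfl⟩) fun v hv => ?_)
    set v₀ : Γ := ((Additive.toMul v : ↥V) : Γ) with hv₀
    have hvA : ∀ A ∈ maxAdm 0 (T : Subgroup Γ), ∀ a ∈ A, v₀ * a = a * v₀ := by
      intro A hA a ha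
      have h1 := hv (π a) (hAoff A hA ⟨a, ha, rfl⟩)
      have h2 := hsmul a v
      rw [h1] at h2
      conv_lhs => rw [hv₀, h2]
      rw [← hv₀]
      group
    have hmem : ∀ A ∈ maxAdm 0 (T : Subgroup Γ), v₀ ∈ A := fun A hA =>
      mem_of_commute_maxAdm (p := p) (Or.inl rfl) hA (hVT (Additive.toMul v).2)
        (hVe.2 _ (Additive.toMul v).2) (hvA A hA)
    have hvz : v₀ ∈ zjGen 0 (T : Subgroup Γ) := by
      refine ⟨le_jGen hA₀ (hmem A₀ hA₀), ?_⟩
      have hle : jGen 0 (T : Subgroup Γ) ≤ centralizer ({v₀} : Set Γ) := sSup_le fun A hA a ha =>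
        mem_centralizer_iff.2 fun z hz => by rw [Set.mem_singleton_iff.1 hz]; exact hvA A hA a ha
      exact mem_centralizer_iff.2 fun a ha =>
        (mem_centralizer_iff.1 (hle ha) v₀ (Set.mem_singleton _)).symm
    apply hext
    rw [hsmul, ← mem_centralizer_iff.1 htc v₀ hvz, mul_inv_cancel_right]
  have hgen : E ⊔ (T : Subgroup Γ) = ⊤ := by
    rw [eq_top_iff]
    intro g _
    have h1 : π g ∈ (E ⊔ (T : Subgroup Γ)).map π := by
      rw [Subgroup.map_sup, hE, map_comap_eq_self_of_surjective hπs, ← hTbc, hsupb]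
      exact Subgroup.mem_top _
    have h2 : g ∈ ((E ⊔ (T : Subgroup Γ)).map π).comap π := h1
    rwa [comap_map_eq_self (by rw [hπdef, QuotientGroup.ker_mk']; exact hCsE.trans le_sup_left)] at h2
  obtain ⟨i0⟩ : Nonempty (Fin r) := by
    by_contra hr
    rw [not_nonempty_iff] at hr
    refine hA₀C fun a ha => ?_
    have h1 := hJE (le_jGen hA₀ ha)
    rw [hE, mem_comap, iSup_of_empty, mem_bot] at h1
    exact (hπ1 a).1 h1
  have hsup' : (⨆ i, Ei i) = E := by
    refine le_antisymm (iSup_le fun i => Subgroup.comap_mono (le_iSup Eb i)) fun g hg => ?_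
    obtain ⟨e, he, hee⟩ : π g ∈ (⨆ i, Ei i).map π := by
      rw [Subgroup.map_iSup]
      simp only [hmapE]
      exact hg
    have h3 : e⁻¹ * g ∈ C := (hπ1 _).1 (by rw [map_mul, map_inv, hee, inv_mul_cancel])
    have h4 := Subgroup.mul_mem _ he ((le_iSup Ei i0) (hCE i0 h3))
    rwa [mul_inv_cancel_left] at h4
  have hcomm : ∀ i j, i ≠ j → ⁅Ei i, Ei j⁆ ≤ C := fun i j hij => commutator_le.2 fun x hx y hy => by
    refine (hπ1 _).1 ?_
    rw [map_commutatorElement]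
    exact commutatorElement_eq_one_iff_mul_comm.2 (hcommb i j hij _ hx _ hy)
  have hind : ∀ i, Ei i ⊓ (⨆ j ∈ {j | j ≠ i}, Ei j) ≤ C := fun i => by
    rintro g ⟨hg, hg'⟩
    refine (hπ1 g).1 ?_
    have h1 : π g ∈ Eb i ⊓ ⨆ j ∈ {j | j ≠ i}, Eb j := by
      refine ⟨hg, ?_⟩
      show π g ∈ ⨆ j ∈ {j | j ≠ i}, Eb j
      have h2 : π g ∈ (⨆ j ∈ {j | j ≠ i}, Ei j).map π := ⟨g, hg', rfl⟩
      simpa only [Subgroup.map_iSup, hmapE] using h2
    rwa [hindb i, mem_bot] at h1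
  have hconj : ∀ i j, ∃ t ∈ (T : Subgroup Γ), (Ei i).map (MulAut.conj t).toMonoidHom = Ei j := fun i j => by
    obtain ⟨x, hx, e⟩ := hcjb i j
    obtain ⟨t, ht, rfl⟩ := hTbc ▸ hx
    refine ⟨t, ht, Subgroup.ext fun g => ⟨?_, fun hg => ⟨t⁻¹ * g * t, ?_, by simp [mul_assoc]⟩⟩⟩
    · rintro ⟨y, hy, rfl⟩
      show π (t * y * t⁻¹) ∈ Eb j
      rw [← e, map_mul, map_mul, map_inv]
      exact conj_mem_conjSub hy
    · show π (t⁻¹ * g * t) ∈ Eb i
      have h1 : π g ∈ conjSub (π t) (Eb i) := e ▸ hg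
      rw [map_mul, map_mul, map_inv]
      exact CfsgLib.Fusion.mem_conjSub.1 h1
  have hEiE : ∀ i, Ei i ≤ E := fun i => (le_iSup Ei i).trans hsup'.le
  have hET : ∀ H : Subgroup Γ, (T : Subgroup Γ) ≤ H → E ≤ H → H = ⊤ := fun H h1 h2 =>
    top_unique (hgen.ge.trans (sup_le h2 h1))
  set E0 := Ei i0 with hE0
  set O := C ⊔ ⨆ j ∈ {j | j ≠ i0}, Ei j with hO
  have hCE0 : C ≤ E0 := hCE i0
  have hnorm : E ≤ normalizer (E0 : Set Γ) := by
    rw [← hsup']
    refine iSup_le fun j => ?_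
    rcases eq_or_ne j i0 with rfl | hj
    · exact le_normalizer
    intro e he
    refine CfsgLib.Fusion.mem_normalizer_of_forall fun x hx => ?_
    rw [show e * x * e⁻¹ = ⁅e, x⁆ * x by rw [commutatorElement_def]; group]
    exact mul_mem (hCE0 (hcomm j i0 hj (commutator_mem_commutator he hx))) hx
  have hOc : O ≤ modStab C E0 := by
    refine sup_le (fun x hx w _ => ?_) (iSup₂_le fun j hj x hx w hw => hcomm j i0 hj (commutator_mem_commutator hx hw))
    rw [show ⁅x, w⁆ = x * (w * x⁻¹ * w⁻¹) by rw [commutatorElement_def]; group]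
    exact mul_mem hx (hCn.conj_mem _ (inv_mem hx) w)
  have hOE : O ≤ E := sup_le hCsE (iSup₂_le fun j _ => hEiE j)
  have hEO : E ≤ normalizer (O : Set Γ) := by
    rw [← hsup']
    refine iSup_le fun j => ?_
    rcases eq_or_ne j i0 with rfl | hj
    · intro e he
      refine CfsgLib.Fusion.mem_normalizer_of_forall fun x hx => ?_
      rw [show e * x * e⁻¹ = ⁅x, e⁆⁻¹ * x by rw [commutatorElement_def]; group]
      exact mul_mem (inv_mem (mem_sup_left (hOc hx e he))) hx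
    · exact ((le_iSup₂ (f := fun j (_ : j ∈ {j | j ≠ i0}) => Ei j) j hj).trans le_sup_right).trans le_normalizer
  have hE0O : E0 ⊓ O = C := by
    refine le_antisymm (fun x hx => ?_) (le_inf hCE0 le_sup_left)
    obtain ⟨k, hk, o, ho, rfl⟩ := CfsgLib.Solvable.exists_mul_of_mem_sup (K := C)
      (A := ⨆ j ∈ {j | j ≠ i0}, Ei j) (by rw [normalizer_eq_top C]; exact le_top) hx.2
    exact mul_mem hk (hind i0 ⟨by simpa using mul_mem (inv_mem (hCE0 hk)) hx.1, ho⟩)
  -- the homomorphism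
  obtain ⟨-, n, hn, hcase⟩ := hblkb i0
  obtain ⟨F, iF, iFF, hF, σ, -, hσ, -⟩ := hcase.resolve_right fun h => c.hp2 h.1
  let res : ↥E0 →* ↥(Eb i0) := (π.comp E0.subtype).codRestrict (Eb i0) fun g => g.2
  have hres : Function.Surjective res := fun x => by
    obtain ⟨g, hg⟩ := hπs x.1
    exact ⟨⟨g, show π g ∈ Eb i0 from hg ▸ x.2⟩, Subtype.ext hg⟩
  have hresk : res.ker = C.subgroupOf E0 := by
    ext g
    rw [MonoidHom.mem_ker, mem_subgroupOf, ← Subtype.val_inj]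
    exact hπ1 _
  have hCn0 : (C.subgroupOf E0).Normal := hresk ▸ MonoidHom.normal_ker res
  haveI := hCn0
  let q : ↥E0 ⧸ C.subgroupOf E0 ≃* Matrix.SpecialLinearGroup (Fin 2) F :=
    ((QuotientGroup.quotientMulEquivOfEq hresk.symm).trans
      (QuotientGroup.quotientKerEquivOfSurjective res hres)).trans (MulEquiv.ofBijective σ hσ)
  set f : ↥E0 →* Matrix.SpecialLinearGroup (Fin 2) F :=
    q.toMonoidHom.comp (QuotientGroup.mk' (C.subgroupOf E0)) with hf
  have hfk : ∀ x : ↥E0, f x = 1 ↔ (x : Γ) ∈ C := fun x => by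
    show q (QuotientGroup.mk' _ x) = 1 ↔ _
    rw [MulEquiv.map_eq_one_iff]
    exact QuotientGroup.eq_one_iff x
  haveI hOn : (O.subgroupOf E).Normal := normal_subgroupOf_of_le_normalizer hEO
  set ι : ↥E0 →* ↥E ⧸ O.subgroupOf E := (QuotientGroup.mk' _).comp (Subgroup.inclusion (hEiE i0)) with hι
  have hιk : ι.ker = f.ker := by
    ext x
    rw [MonoidHom.mem_ker, MonoidHom.mem_ker, hfk, ← hE0O]
    exact ⟨fun h => ⟨x.2, ((QuotientGroup.eq_one_iff _).1 h : _)⟩, fun h => (QuotientGroup.eq_one_iff _).2 h.2⟩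
  have hιs : Function.Surjective ι := by
    intro y
    obtain ⟨y, rfl⟩ := QuotientGroup.mk'_surjective _ y
    have hy : (y : Γ) ∈ E0 ⊔ O := by
      refine (hsup'.ge.trans (iSup_le fun j => ?_)) y.2
      rcases eq_or_ne j i0 with rfl | hj
      · exact le_sup_left
      · exact ((le_iSup₂ (f := fun j (_ : j ∈ {j | j ≠ i0}) => Ei j) j hj).trans le_sup_right).trans le_sup_right
    rw [sup_comm] at hy
    obtain ⟨o, ho, e, he, hye⟩ := CfsgLib.Solvable.exists_mul_of_mem_sup (K := O) (A := E0)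
      ((hEiE i0).trans hEO) hy
    refine ⟨⟨e, he⟩, ?_⟩
    show QuotientGroup.mk' _ _ = QuotientGroup.mk' _ y
    rw [show y = (⟨o, hOE ho⟩ : ↥E) * ⟨e, hEiE i0 he⟩ from Subtype.ext hye, map_mul,
      show QuotientGroup.mk' (O.subgroupOf E) ⟨o, hOE ho⟩ = 1 from (QuotientGroup.eq_one_iff _).2 ho, one_mul]
    rfl
  have hfs : Function.Surjective f := q.surjective.comp (QuotientGroup.mk'_surjective _)
  set ρ : ↥E →* Matrix.SpecialLinearGroup (Fin 2) F :=
    ((ι.liftOfSurjective hιs) ⟨f, hιk.le⟩).comp (QuotientGroup.mk' (O.subgroupOf E)) with hρ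
  have hρf : ∀ x : ↥E0, ρ (Subgroup.inclusion (hEiE i0) x) = f x := fun x =>
    MonoidHom.liftOfRightInverse_comp_apply ι _ (Function.rightInverse_surjInv hιs) ⟨f, hιk.le⟩ x
  have hρO : ∀ x : ↥E, (x : Γ) ∈ O → ρ x = 1 := fun x hx => by
    show ((ι.liftOfSurjective hιs) ⟨f, hιk.le⟩) (QuotientGroup.mk' _ x) = 1
    rw [show QuotientGroup.mk' (O.subgroupOf E) x = 1 from (QuotientGroup.eq_one_iff _).2 hx, map_one]
  have hρs : Function.Surjective ρ := fun w => by
    obtain ⟨x, hx⟩ := hfs w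
    exact ⟨_, (hρf x).trans hx⟩
  have hkerC : ∀ e : ↥E, (e : Γ) ∈ E0 → ρ e = 1 → (e : Γ) ∈ C := fun e he h1 =>
    (hfk ⟨e, he⟩).1 ((hρf ⟨e, he⟩).symm.trans h1)
  have hkerO : ∀ e : ↥E, ρ e = 1 → (e : Γ) ∈ O := fun e he => by
    obtain ⟨x, hx⟩ := hιs (QuotientGroup.mk' _ e)
    have h1 : f x = 1 := by
      rw [← hρf]
      show ((ι.liftOfSurjective hιs) ⟨f, hιk.le⟩) (ι x) = 1
      rw [hx]; exact he
    have h2 : ι x = 1 := (MonoidHom.mem_ker (f := ι)).1 (hιk.ge h1)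
    rw [h2] at hx
    exact (QuotientGroup.eq_one_iff e).1 hx.symm
  -- the Sylow subgroup of `E`
  set T0 := (T : Subgroup Γ) ⊓ E with hT0
  have hT0i : ¬ p ∣ T0.relIndex E := CfsgLib.LocalEven.ZJFusion.not_dvd_relIndex_inf (K := ⊤) T.2 le_top
    (by rw [relIndex_top_right]; exact T.not_dvd_index) le_top (by rw [normalizer_eq_top E])
  have hTT0 : (T : Subgroup Γ) ≤ normalizer (T0 : Set Γ) :=
    le_trans (le_inf le_normalizer (by rw [normalizer_eq_top E]; exact le_top)) (inf_normalizer_le_normalizer_inf)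
  have hT0C : ¬ T0.Normal := by
    intro hn
    have h1 : T0 ≤ C := (CfsgLib.Cores.le_pCore (T.2.to_le inf_le_left)).trans hPC
    let Q : Sylow p ↥E := (T.2.to_le (inf_le_left : T0 ≤ _)).comap_subtype.toSylow hT0i
    have hQ : (Q : Subgroup ↥E) = T0.subgroupOf E := IsPGroup.toSylow_coe _ _
    obtain ⟨k, hk⟩ : p ∣ Nat.card (Matrix.SpecialLinearGroup (Fin 2) F) := by
      have hinj : Function.Injective (CfsgLib.LocalEven.RankOne.upperHom (F := F)) := fun a b e => by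
        have h1 := congrArg (fun x : Matrix.SpecialLinearGroup (Fin 2) F => x.1 0 1) e
        simpa [CfsgLib.LocalEven.RankOne.upperHom, CfsgLib.LocalEven.FaithfulBound.upper01] using h1
      refine (dvd_pow_self p (by omega : n ≠ 0)).trans ?_
      rw [← hF, ← Nat.card_eq_fintype_card, ← Nat.card_congr Multiplicative.toAdd,
        Nat.card_congr (MonoidHom.ofInjective hinj).toEquiv]
      exact Subgroup.card_subgroup_dvd_card _
    have hbot : (Q : Subgroup ↥E).map ρ = ⊥ := by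
      rw [hQ, Subgroup.map_eq_bot_iff]
      exact fun x hx => hρO x (mem_sup_left (h1 hx))
    have h2 := (Q.mapSurjective hρs).not_dvd_index
    rw [Sylow.coe_mapSurjective, hbot, index_bot] at h2
    exact h2 ⟨k, hk⟩
  have hNT0 : normalizer (T0 : Set Γ) ≤ M :=
    c.uniq _ hTT0 fun e => hT0C (normalizer_eq_top_iff.1 e)
  have hmove : ∀ x : Γ, (∀ t ∈ T0, x * t * x⁻¹ ∈ T0 ⊔ C) → x ∈ M := by
    intro x hx
    have hle : T0 ⊔ C ≤ E := sup_le inf_le_right hCsE
    have hi : ¬ p ∣ T0.relIndex (T0 ⊔ C) := fun hd =>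
      hT0i (hd.trans (Dvd.intro _ (relIndex_mul_relIndex _ _ _ le_sup_left hle)))
    have hxle : conjSub x T0 ≤ T0 ⊔ C := by
      rintro _ ⟨t, ht, rfl⟩; exact hx t ht
    have hi' : ¬ p ∣ (conjSub x T0).relIndex (T0 ⊔ C) := by
      intro hd
      refine hi ?_
      have e1 : Nat.card ↥(conjSub x T0) = Nat.card ↥T0 := CfsgLib.Fusion.card_conjSub x _
      have e2 := relIndex_mul_relIndex ⊥ _ _ bot_le hxle
      have e3 := relIndex_mul_relIndex ⊥ T0 (T0 ⊔ C) bot_le le_sup_left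
      rw [relIndex_bot_left, relIndex_bot_left, e1] at e2
      rw [relIndex_bot_left, relIndex_bot_left, ← e2] at e3
      rwa [Nat.eq_of_mul_eq_mul_left Nat.card_pos e3]
    obtain ⟨h, hh, e⟩ := CfsgLib.Techniques.Functor.exists_conjSub_eq ((T.2.to_le inf_le_left).map _) hxle hi'
      (T.2.to_le (inf_le_left : T0 ≤ _)) le_sup_left hi
    change conjSub h (conjSub x T0) = T0 at e
    rw [conjSub_conjSub, conjSub_eq_iff_mem_normalizer] at e
    have hhM : h ∈ M := (sup_le (inf_le_left.trans c.sylLe) hCM) hh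
    simpa using mul_mem (inv_mem hhM) (hNT0 e)
  refine ⟨F, iF, iFF, n, E, E0, ρ, hF, hJE, hBE, hEn, hPC.trans hCsE, hn, hEiE i0, hnorm, fun hle => ?_,
    fun w => ?_, fun e he hρe => ?_, fun z hz hρz => ?_⟩
  · refine c.coatom.1 (hET M c.sylLe ?_)
    rw [← hsup']
    refine iSup_le fun j => ?_
    obtain ⟨t, ht, hte⟩ := hconj i0 j
    rw [← hte]
    rintro _ ⟨x, hx, rfl⟩
    exact mul_mem (mul_mem (c.sylLe ht) (hle hx)) (inv_mem (c.sylLe ht))
  · obtain ⟨x, hx⟩ := hfs w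
    exact ⟨_, x.2, (hρf x).trans hx⟩
  · refine hmove e fun t ht => ?_
    have hAn : (E0.subgroupOf E).Normal := normal_subgroupOf_of_le_normalizer hnorm
    let Q : Sylow p ↥E := (T.2.to_le (inf_le_left : T0 ≤ _)).comap_subtype.toSylow hT0i
    have hQ : (Q : Subgroup ↥E) = T0.subgroupOf E := IsPGroup.toSylow_coe _ _
    obtain ⟨A, hA⟩ := CfsgLib.LocalEven.exists_sylow_eq_inf_of_isSubnormal Q hAn.isSubnormal
    have hAs : Function.Surjective (ρ.comp (E0.subgroupOf E).subtype) := fun w => by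
      obtain ⟨x, hx⟩ := hfs w
      exact ⟨⟨_, (x.2 : (Subgroup.inclusion (hEiE i0) x : Γ) ∈ E0)⟩, (hρf x).trans hx⟩
    have hAQ : (A : Subgroup _).map (ρ.comp (E0.subgroupOf E).subtype) ≤ (T0.subgroupOf E).map ρ := by
      rintro _ ⟨y, hy, rfl⟩
      exact ⟨y, hQ ▸ (hA.le hy : (y : ↥E) ∈ (Q : Subgroup ↥E)), rfl⟩
    have heq : (A : Subgroup _).map (ρ.comp (E0.subgroupOf E).subtype) = (T0.subgroupOf E).map ρ := by
      refine ((A.mapSurjective hAs).3 ?_ ?_).symm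
      · exact (T.2.to_le (inf_le_left : T0 ≤ _)).comap_subtype.map ρ
      · rw [Sylow.coe_mapSurjective]; exact hAQ
    -- split `t`
    obtain ⟨a, ha, hat⟩ : ρ ⟨t, ht.2⟩ ∈ (A : Subgroup _).map (ρ.comp (E0.subgroupOf E).subtype) :=
      heq ▸ mem_map_of_mem ρ (show (⟨t, ht.2⟩ : ↥E) ∈ T0.subgroupOf E from ht)
    have haT : ((a : ↥E) : Γ) ∈ T0 := mem_subgroupOf.1 (hQ ▸ (hA.le ha : (a : ↥E) ∈ (Q : Subgroup ↥E)))
    have haE0 : ((a : ↥E) : Γ) ∈ E0 := a.2
    set o : ↥E := (a : ↥E)⁻¹ * ⟨t, ht.2⟩ with ho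
    have hoO : (o : Γ) ∈ O := hkerO o (by rw [ho, map_mul, map_inv, show ρ (a : ↥E) = ρ ⟨t, ht.2⟩ from hat, inv_mul_cancel])
    have hoT : (o : Γ) ∈ T0 := mul_mem (inv_mem haT) ht
    -- the conjugate of `a`
    obtain ⟨a', ha', hat'⟩ : ρ (e * (a : ↥E) * e⁻¹) ∈ (A : Subgroup _).map (ρ.comp (E0.subgroupOf E).subtype) := by
      rw [heq, map_mul, map_mul, map_inv]
      exact (mem_normalizer_iff.1 hρe _).1 (mem_map_of_mem ρ (show (a : ↥E) ∈ T0.subgroupOf E from haT))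
    have ha'T : ((a' : ↥E) : Γ) ∈ T0 := mem_subgroupOf.1 (hQ ▸ (hA.le ha' : (a' : ↥E) ∈ (Q : Subgroup ↥E)))
    have ha'C : ((a' : ↥E) : Γ)⁻¹ * ((e : Γ) * (a : ↥E) * (e : Γ)⁻¹) ∈ C := by
      refine hkerC ((a' : ↥E)⁻¹ * (e * (a : ↥E) * e⁻¹)) (mul_mem (inv_mem a'.2) (mul_mem (mul_mem he haE0) (inv_mem he))) ?_
      rw [map_mul, map_inv, show ρ (a' : ↥E) = ρ (e * (a : ↥E) * e⁻¹) from hat', inv_mul_cancel]
    have hsplit : (e : Γ) * t * (e : Γ)⁻¹ =
        ((a' : ↥E) : Γ) * (((a' : ↥E) : Γ)⁻¹ * ((e : Γ) * (a : ↥E) * (e : Γ)⁻¹)) * (⁅(o : Γ), (e : Γ)⁆⁻¹ * o) := by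
      rw [ho, commutatorElement_def]; simp only [Subgroup.coe_mul, Subgroup.coe_inv]; group
    rw [hsplit]
    exact mul_mem (mul_mem (mem_sup_left ha'T) (mem_sup_right ha'C))
      (mul_mem (inv_mem (mem_sup_right (hOc hoO _ he))) (mem_sup_left hoT))
  · refine ⟨modStab C E ⊓ E, inferInstance, fun x hx => hmove x fun t ht => ?_, ?_, z.2⟩
    · rw [show x * t * x⁻¹ = ⁅x, t⁆ * t by rw [commutatorElement_def]; group]
      exact mul_mem (mem_sup_right (hx.1 t ht.2)) (mem_sup_left ht)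
    · intro x hx
      have h1 : ρ ⁅z, ⟨x, hx⟩⁆ = 1 := by
        rw [map_commutatorElement, commutatorElement_eq_one_iff_mul_comm]
        exact (mem_center_iff.1 hρz _).symm
      refine hkerC ⁅z, ⟨x, hx⟩⁆ ?_ h1
      show ⁅(z : Γ), x⁆ ∈ E0
      rw [show ⁅(z : Γ), x⁆ = (z : Γ) * (x * (z : Γ)⁻¹ * x⁻¹) by rw [commutatorElement_def]; group]
      exact mul_mem hz ((mem_normalizer_iff.1 (hnorm hx) _).1 (inv_mem hz))

end CfsgLib.Techniques.CharTransfer
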