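import Cfsg.Agent.Lib.Techniques.CharTransfer.FixedSection
import Cfsg.Agent.Lib.Solvable.CoprimeAction

/-!
The fixed points of a `p'`-complement of the kernel on a section are trivial.
-/

set_option autoImplicit false

namespace CfsgLib.Techniques.CharTransfer

open Subgroup Cfsg
open CfsgLib.Fusion (conjSub)

variable {G : Type*} [Group G] [Finite G] {p : ℕ} [hp : Fact p.Prime]

/-- A normalizer of a complement supplements a normal `p`-subgroup. -/
theorem exists_mul_mem_normalizer {N D : Subgroup G} [N.Normal] (hN : IsPGroup p N)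
    (hco : (Nat.card D).Coprime p) (hn : (N ⊔ D).Normal) (g : G) :
    ∃ n ∈ N, n * g ∈ normalizer (D : Set G) := by
  haveI : Group.IsNilpotent ↥N := hN.isNilpotent
  set A := conjSub g D with hA
  have hcA : (Nat.card A).Coprime (Nat.card N) := by
    obtain ⟨j, hj⟩ := IsPGroup.iff_card.1 hN
    rw [hA, CfsgLib.Fusion.card_conjSub, hj]
    exact hco.pow_right j
  obtain ⟨n, hn', hfix⟩ := CfsgLib.Solvable.exists_fixed_point (Ω := G ⧸ D) A N
    (by rw [normalizer_eq_top]; exact le_top) hcA (Or.inr inferInstance) ((1 : G) : G ⧸ D) (by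
      rintro _ ⟨d, hd, rfl⟩
      obtain ⟨k, hk, d', hd', e⟩ := CfsgLib.Solvable.exists_mul_of_mem_sup (K := N) (A := D)
        (by rw [normalizer_eq_top]; exact le_top) (hn.conj_mem d (mem_sup_right hd) g)
      refine ⟨k, hk, ?_⟩
      show ((MulAut.conj g d * 1 : G) : G ⧸ D) = ((k * 1 : G) : G ⧸ D)
      rw [mul_one, mul_one, QuotientGroup.eq, MulAut.conj_apply, e, mul_inv_rev, inv_mul_cancel_right]
      exact inv_mem hd')
  refine ⟨n⁻¹, inv_mem hn', CfsgLib.Fusion.conjSub_eq_iff_mem_normalizer.1 ?_⟩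
  refine eq_of_le_of_card_ge ?_ (by rw [CfsgLib.Fusion.card_conjSub])
  rintro _ ⟨d, hd, rfl⟩
  have h1 : ((MulAut.conj g d * (n * 1) : G) : G ⧸ D) = ((n * 1 : G) : G ⧸ D) := hfix _ ⟨d, hd, rfl⟩
  rw [mul_one, QuotientGroup.eq] at h1
  have e : MulAut.conj (n⁻¹ * g) d = ((MulAut.conj g d * n)⁻¹ * n)⁻¹ := by
    simp only [MulAut.conj_apply]; group
  show MulAut.conj (n⁻¹ * g) d ∈ D
  rw [e]
  exact inv_mem h1

/-- The fixed points of `D` on an abelian normal `p`-subgroup `F` are trivial. -/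
theorem section_fixed (hp2 : p ≠ 2) {F D A : Subgroup G} [F.Normal] (hFc : ∀ x ∈ F, ∀ y ∈ F, x * y = y * x)
    (hFp : IsPGroup p F) (hco : (Nat.card D).Coprime p)
    (hnorm : ∀ g : G, ∃ c ∈ centralizer (F : Set G), c * g ∈ normalizer (D : Set G))
    (hAp : IsPGroup p A) {u w : G} (hu : u ∈ A)
    (hw2 : ∀ x ∈ F, (∀ d ∈ D, d * x = x * d) → w * w * x = x * (w * w))
    (huw : ∀ x ∈ F, (∀ d ∈ D, d * x = x * d) →
      u * w * (u * w) * (u * w) * x = x * (u * w * (u * w) * (u * w)))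
    (hd : ∀ x ∈ F, x ∈ centralizer (A : Set G) → x ∈ centralizer (conjSub w A : Set G) → x = 1)
    (hc : ∀ x ∈ F, ∃ e ∈ F ⊓ centralizer (A : Set G), ∃ f ∈ F ⊓ centralizer (conjSub w A : Set G), x = e * f) :
    ∀ x ∈ F, (∀ d ∈ D, d * x = x * d) → x = 1 := by
  classical
  letI : CommGroup ↥F := { (inferInstance : Group ↥F) with
    mul_comm := fun a b => Subtype.ext (hFc _ a.2 _ b.2) }
  letI : Fintype ↥D := Fintype.ofFinite _
  let cn : G →* MulAut ↥F := MulAut.conjNormal
  have hcn : ∀ (g : G) (y : ↥F), cn g y = y ↔ g * (y : G) = y * g := fun g y => by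
    rw [Subtype.ext_iff, MulAut.conjNormal_apply, mul_inv_eq_iff_eq_mul]
  let T : ↥F → ↥F := fun y => ∏ d : ↥D, cn (d : G) y
  have hTD : ∀ (y : ↥F), ∀ d0 ∈ D, cn d0 (T y) = T y := fun y d0 hd0 => by
    show cn d0 (∏ d : ↥D, cn (d : G) y) = _
    rw [map_prod]
    refine Fintype.prod_equiv (Equiv.mulLeft (⟨d0, hd0⟩ : ↥D)) _ _ fun d => ?_
    rw [Equiv.coe_mulLeft, Subgroup.coe_mul, map_mul]
    rfl
  have hTm : ∀ (g : G) (y : ↥F), cn g (T y) = T (cn g y) := fun g y => by
    obtain ⟨c, hc', hm⟩ := hnorm g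
    have hc1 : ∀ z : ↥F, cn g z = cn (c * g) z := fun z => by
      rw [map_mul]
      exact ((hcn c _).2 (mem_centralizer_iff.1 hc' _ (cn g z).2).symm).symm
    rw [hc1, hc1]
    show cn (c * g) (∏ d : ↥D, cn (d : G) y) = _
    rw [map_prod]
    refine Fintype.prod_equiv (D.normalizerMonoidHom ⟨c * g, hm⟩).toEquiv _ _ fun d => ?_
    show cn (c * g) (cn (d : G) y) = cn ((c * g) * (d : G) * (c * g)⁻¹) (cn (c * g) y)
    rw [← MulAut.mul_apply, ← MulAut.mul_apply, ← map_mul, ← map_mul]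
    congr 2
    group
  let Mg : Subgroup ↥F :=
    { carrier := {y | ∀ d ∈ D, cn d y = y}
      one_mem' := fun d _ => map_one _
      mul_mem' := fun {a b} ha hb d hd' => by rw [map_mul, ha d hd', hb d hd']
      inv_mem' := fun {a} ha d hd' => by rw [map_inv, ha d hd'] }
  have hTMg : ∀ y, T y ∈ Mg := fun y d hd' => hTD y d hd'
  have hMg : ∀ (g : G) (y : ↥Mg), cn g (y : ↥F) ∈ Mg := fun g y d hd' => by
    obtain ⟨c, hc', hm⟩ := hnorm g
    have hc1 : cn g (y : ↥F) = cn (c * g) y := by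
      rw [map_mul]
      exact ((hcn c _).2 (mem_centralizer_iff.1 hc' _ (cn g y).2).symm).symm
    rw [hc1, ← MulAut.mul_apply, ← map_mul,
      show d * (c * g) = (c * g) * ((c * g)⁻¹ * d * (c * g)) by group, map_mul, MulAut.mul_apply,
      y.2 _ ((mem_normalizer_iff''.1 hm d).1 hd')]
  let act : G → (↥Mg →* ↥Mg) := fun g => ((cn g).toMonoidHom.comp Mg.subtype).codRestrict Mg (hMg g)
  have hact : ∀ g (y : ↥Mg), ((act g y : ↥Mg) : ↥F) = cn g y := fun g y => rfl
  have hmul : ∀ g h (y : ↥Mg), act g (act h y) = act (g * h) y := fun g h y => Subtype.ext (by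
    rw [hact, hact, hact, map_mul, MulAut.mul_apply])
  have hfix : ∀ g : G, (∀ x ∈ F, (∀ d ∈ D, d * x = x * d) → g * x = x * g) → ∀ y : ↥Mg, act g y = y :=
    fun g hg y => Subtype.ext ((hcn g _).2 (hg _ (y : ↥F).2 fun d hd' => (hcn d _).1 (y.2 d hd')))
  let E : Subgroup ↥Mg :=
    { carrier := {y | ∀ a ∈ A, act a y = y}
      one_mem' := fun a _ => map_one _
      mul_mem' := fun {x y} hx hy a ha => by rw [map_mul, hx a ha, hy a ha]
      inv_mem' := fun {x} hx a ha => by rw [map_inv, hx a ha] }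
  have hwinv : ∀ y : ↥Mg, act w y = act w⁻¹ y := fun y => by
    conv_lhs => rw [← hfix (w * w) hw2 y]
    conv_rhs => rw [← hfix (w * w) hw2 y]
    rw [hmul, hmul, ← hfix (w * w) hw2 (act (w⁻¹ * (w * w)) y), hmul]
    congr 2
    group
  obtain ⟨k, hk⟩ := hAp ⟨u, hu⟩
  have hk' : u ^ p ^ k = 1 := congrArg Subtype.val hk
  have hiter : ∀ (j : ℕ) (y : ↥Mg), (⇑(act u))^[j] y = act (u ^ j) y := fun j => by
    induction j with
    | zero => intro y; rw [pow_zero]; exact Subtype.ext (by rw [hact, map_one]; rfl)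
    | succ j ih => intro y; rw [Function.iterate_succ_apply, ih, hmul, pow_succ]
  have hEw : ∀ f : ↥F, (f : G) ∈ centralizer (conjSub w A : Set G) → ∀ a ∈ A, cn a (cn w⁻¹ f) = cn w⁻¹ f := by
    intro f hf a ha
    rw [← MulAut.mul_apply, ← map_mul, show a * w⁻¹ = w⁻¹ * (w * a * w⁻¹) by group, map_mul, MulAut.mul_apply,
      (hcn (w * a * w⁻¹) f).2 (mem_centralizer_iff.1 hf _ ⟨a, ha, rfl⟩)]
  intro x hxF hxD
  have hxM : (⟨x, hxF⟩ : ↥F) ∈ Mg := fun d hd' => (hcn d _).2 (hxD d hd')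
  have h0 : ∀ y : Additive ↥Mg, y = 0 := by
    refine eq_zero_of_relations hp2 (MonoidHom.toAdditive (act u)) (MonoidHom.toAdditive (act w)) (k := k)
      (fun y => ?_) (fun y => ?_) (fun y => ?_) (fun y => ?_) (Subgroup.toAddSubgroup E) (fun e he => ?_)
      (fun e he f hf hef => ?_) fun y => ?_
    · show Additive.ofMul ((⇑(act u))^[p ^ k] (Additive.toMul y)) = y
      rw [hiter, hk', hfix 1 (fun x _ _ => by rw [one_mul, mul_one])]
      rfl
    · obtain ⟨j, hj⟩ := hFp ((Additive.toMul y : ↥Mg) : ↥F)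
      exact ⟨j, congrArg Additive.ofMul (show (Additive.toMul y : ↥Mg) ^ p ^ j = 1 from Subtype.ext hj)⟩
    · show Additive.ofMul (act w (act w (Additive.toMul y))) = y
      rw [hmul, hfix _ hw2]
      rfl
    · show Additive.ofMul (act u (act w (act u (act w (act u (act w (Additive.toMul y))))))) = y
      rw [hmul, hmul, hmul, hmul, hmul, show u * w * u * w * u * w = u * w * (u * w) * (u * w) by group,
        hfix _ huw]
      rfl
    · exact congrArg Additive.ofMul ((show ∀ a ∈ A, act a (Additive.toMul e) = _ from he) u hu)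
    · -- fixed by both
      have he' : Additive.toMul e = act w (Additive.toMul f) := congrArg Additive.toMul hef
      set z := Additive.toMul e with hz
      have h1 : (((z : ↥Mg) : ↥F) : G) ∈ centralizer (A : Set G) := mem_centralizer_iff.2 fun a ha =>
        (hcn a _).1 ((hact a z).symm.trans (congrArg Subtype.val ((show ∀ a ∈ A, act a z = z from he) a ha)))
      have h2 : (((z : ↥Mg) : ↥F) : G) ∈ centralizer (conjSub w A : Set G) := by
        refine mem_centralizer_iff.2 ?_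
        rintro _ ⟨a, ha, rfl⟩
        refine (hcn _ _).1 ((hact _ z).symm.trans (congrArg Subtype.val ?_))
        rw [he', hmul, show (MulAut.conj w).toMonoidHom a * w = w * a by simp, ← hmul,
          (show ∀ a ∈ A, act a (Additive.toMul f) = _ from hf) a ha]
      have h3 : z = 1 := Subtype.ext (Subtype.ext (hd _ (z : ↥F).2 h1 h2))
      exact congrArg Additive.ofMul h3
    · -- averaging
      set z := Additive.toMul y with hz
      set m := Nat.card D
      obtain ⟨j, hj⟩ : ∃ j, (z ^ m) ^ j = z := exists_pow_eq_self_of_coprime (by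
        obtain ⟨i, hi⟩ := hFp (z : ↥F)
        exact Nat.Coprime.coprime_dvd_right (orderOf_dvd_of_pow_eq_one (Subtype.ext hi)) (hco.pow_right i))
      obtain ⟨e, he, f, hf, hef⟩ := hc _ (z : ↥F).2
      let e1 : ↥Mg := ⟨T ⟨e, he.1⟩, hTMg _⟩
      let f1 : ↥Mg := ⟨T ⟨f, hf.1⟩, hTMg _⟩
      have he1 : e1 ∈ E := fun a ha => Subtype.ext (by
        rw [hact]; show cn a (T _) = T _
        rw [hTm, (hcn a ⟨e, he.1⟩).2 (mem_centralizer_iff.1 he.2 a ha)])
      have hf1 : act w f1 ∈ E := fun a ha => by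
        rw [hwinv]
        refine Subtype.ext ?_
        rw [hact, hact]
        show cn a (cn w⁻¹ (T _)) = cn w⁻¹ (T _)
        rw [hTm, hTm, hEw ⟨f, hf.1⟩ hf.2 a ha]
      have hz1 : z ^ m = e1 * f1 := Subtype.ext (by
        show (z : ↥F) ^ m = T _ * T _
        rw [show T ⟨e, he.1⟩ * T ⟨f, hf.1⟩ = T ((⟨e, he.1⟩ : ↥F) * ⟨f, hf.1⟩) by
          simp only [T, map_mul, Finset.prod_mul_distrib],
          show (⟨e, he.1⟩ : ↥F) * ⟨f, hf.1⟩ = (z : ↥F) from Subtype.ext hef.symm]
        show _ = ∏ d : ↥D, cn (d : G) (z : ↥F)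
        rw [Finset.prod_congr rfl (g := fun _ => (z : ↥F)) (fun (d : ↥D) _ => z.2 (d : G) d.2), Finset.prod_const, Finset.card_univ,
          ← Nat.card_eq_fintype_card])
      refine ⟨Additive.ofMul (e1 ^ j), pow_mem he1 j, Additive.ofMul (act w f1 ^ j), pow_mem hf1 j, ?_⟩
      show Additive.ofMul z = Additive.ofMul (e1 ^ j * act w (act w f1 ^ j))
      rw [map_pow, hmul, hfix _ hw2, ← mul_pow, ← hz1, hj]
  have := h0 (Additive.ofMul ⟨⟨x, hxF⟩, hxM⟩)
  exact congrArg (fun z : ↥Mg => ((z : ↥F) : G)) (congrArg Additive.toMul this)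

end CfsgLib.Techniques.CharTransfer
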