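import Cfsg.Agent.Lib.Techniques.CharTransfer.Functors
import Cfsg.Agent.Lib.Techniques.CharTransfer.Fixing
import Cfsg.Agent.Lib.Techniques.CharTransfer.Blocks

/-!
For odd `p` the characteristic subgroups of a Sylow subgroup control transfer.
-/

set_option autoImplicit false

namespace CfsgLib.Techniques.CharTransfer

open Subgroup Cfsg CfsgLib.Techniques.Functor
open scoped commutatorElement
open CfsgLib.LocalEven.RankOne (modStab modStab_normal)

universe u

variable {p : ℕ} [Fact p.Prime] {Γ : Type u} [Group Γ] [Finite Γ]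

theorem le_of_pGroup_commutator {T U R : Subgroup Γ} [R.Normal] (hT : IsPGroup p T) (hUT : U ≤ T)
    (hU : U ≤ ⁅U, T⁆ ⊔ R) : U ≤ R := by
  set π := QuotientGroup.mk' R with hπ
  have h1 : U.map π ≤ ⁅U.map π, T.map π⁆ := by
    refine (Subgroup.map_mono (f := π) hU).trans ?_
    rw [Subgroup.map_sup, map_commutator, QuotientGroup.map_mk'_self, sup_bot_eq]
  haveI : Group.IsNilpotent ↥(T.map π) := (hT.map π).isNilpotent
  have h2 : ∀ k, U.map π ≤ (T.map π).lowerCentralSeries k := by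
    intro k
    induction k with
    | zero => rw [Subgroup.lowerCentralSeries_zero]; exact Subgroup.map_mono hUT
    | succ k ih => rw [Subgroup.lowerCentralSeries_succ]; exact h1.trans (commutator_mono ih le_rfl)
  obtain ⟨c, hc⟩ := (Subgroup.isNilpotent_iff_lowerCentralSeries (S := T.map π)).1 inferInstance
  rw [← QuotientGroup.ker_mk' R, ← Subgroup.map_eq_bot_iff]
  exact le_bot_iff.1 ((h2 c).trans hc.le)

/-- The local step. -/
theorem step (hp2 : p ≠ 2) (hc : centralizer (pCore p Γ : Set Γ) ≤ pCore p Γ) (T : Sylow p Γ)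
    (hsub : ∀ H : Subgroup Γ, H ≠ ⊤ → (T : Subgroup Γ) ≤ H →
      (T : Subgroup Γ) ⊓ ⁅H, H⁆ ≤ tgt (allChar.{u} p) (T : Subgroup Γ)) :
    pCore p Γ ⊓ ⁅(⊤ : Subgroup Γ), (⊤ : Subgroup Γ)⁆ ≤ tgt (allChar.{u} p) (T : Subgroup Γ) := by
  classical
  set P := pCore p Γ with hP
  haveI hPn : P.Normal := by
    haveI := CfsgLib.Cores.pCore_characteristic (G := Γ) p
    infer_instance
  set D := tgt (allChar.{u} p) (T : Subgroup Γ) with hD
  have hPT : P ≤ (T : Subgroup Γ) := CfsgLib.Cores.pCore_le_sylow T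
  set N0 := P ⊓ ⁅(⊤ : Subgroup Γ), (⊤ : Subgroup Γ)⁆ with hN0
  by_contra hbad
  set R := (N0 ⊓ D).normalCore with hR
  have hRle : R ≤ N0 ⊓ D := normalCore_le _
  have hRlt : R < N0 := lt_of_le_of_ne (hRle.trans inf_le_left) fun e => hbad (e ▸ hRle.trans inf_le_right)
  -- a chief factor above the core
  obtain ⟨U, ⟨hUn, hRU, hUN0⟩, hUmin⟩ := Set.Finite.exists_minimal
    (s := {U : Subgroup Γ | U.Normal ∧ R < U ∧ U ≤ N0}) (Set.toFinite _)
    ⟨N0, inferInstance, hRlt, le_rfl⟩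
  haveI := hUn
  have hUP : U ≤ P := hUN0.trans inf_le_left
  have hUT : U ≤ (T : Subgroup Γ) := hUP.trans hPT
  have hUD : ¬ U ≤ D := fun h => hRU.not_ge (normal_le_normalCore.2 (le_inf hUN0 h))
  have hcore : ∀ X : Subgroup Γ, X.Normal → X ≤ U → X ≤ D → X ≤ R := fun X hX h1 h2 =>
    haveI := hX
    normal_le_normalCore.2 (le_inf (h1.trans hUN0) h2)
  have hstep : ∀ H : Subgroup Γ, H ≠ ⊤ → (T : Subgroup Γ) ≤ H → ∀ h ∈ H, ∀ x ∈ U, ⁅h, x⁆ ∈ U ⊓ D := by
    intro H hH hTH h hh x hx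
    have h1 : ⁅h, x⁆ ∈ U := by
      rw [commutatorElement_def]; exact mul_mem (hUn.conj_mem x hx h) (inv_mem hx)
    exact ⟨h1, hsub H hH hTH ⟨hUT h1, commutator_mem_commutator hh (hTH (hUT hx))⟩⟩
  -- central factors are covered
  have hncen : ¬ ⁅(⊤ : Subgroup Γ), U⁆ ≤ D := by
    intro hN
    refine hUD fun x hx => ?_
    set N := ⁅(⊤ : Subgroup Γ), U⁆ with hNdef
    set π := QuotientGroup.mk' N with hπ
    have hπs : Function.Surjective π := QuotientGroup.mk'_surjective N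
    have hxc : π x ∈ center (Γ ⧸ N) := by
      refine mem_center_iff.2 fun y => ?_
      obtain ⟨y, rfl⟩ := hπs y
      rw [← commutatorElement_eq_one_iff_mul_comm, ← map_commutatorElement]
      exact (QuotientGroup.eq_one_iff _).2 (commutator_mem_commutator (mem_top y) hx)
    have hxG : π x ∈ ⁅(⊤ : Subgroup (Γ ⧸ N)), (⊤ : Subgroup (Γ ⧸ N))⁆ := by
      rw [← map_top_commutator π hπs]; exact mem_map_of_mem π (hUN0 hx).2
    have h1 := central_inf_commutator_le (T.mapSurjective hπs) (mem_map_of_mem π (hUT hx)) hxc hxG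
    rw [Sylow.coe_mapSurjective, ← map_commutator] at h1
    obtain ⟨y, hy, he⟩ := h1
    have h2 : y⁻¹ * x ∈ N := (QuotientGroup.eq_one_iff _).1 (by
      show π (y⁻¹ * x) = 1
      rw [map_mul, map_inv, he, inv_mul_cancel])
    have h3 := D.mul_mem (derived_le_tgt _ hy) (hN h2)
    rwa [mul_inv_cancel_left] at h3
  -- no characteristic subgroup of `T` is normal
  have hnoChar : ∀ K : Subgroup Γ, K ≤ (T : Subgroup Γ) → K ≠ ⊥ →
      (K.subgroupOf (T : Subgroup Γ)).Characteristic → ¬ K.Normal := by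
    intro K hKT hne hK hn
    refine hbad ((inf_le_inf_right _ hPT).trans ?_)
    have h1 := le_tgt_char (p := p) (T : Subgroup Γ) hKT hne hK
    haveI := hn
    rwa [normalizer_eq_top] at h1
  have hTne : (T : Subgroup Γ) ≠ ⊥ := fun e => hUD (le_trans (e ▸ hUT) bot_le)
  have hTnn : ¬ (T : Subgroup Γ).Normal :=
    hnoChar _ le_rfl hTne (by rw [subgroupOf_self]; infer_instance)
  have hTtop : (T : Subgroup Γ) ≠ ⊤ := fun e => hTnn (e ▸ inferInstance)
  -- a unique maximal subgroup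
  obtain ⟨M, hM, hTM⟩ := (eq_top_or_exists_le_coatom (T : Subgroup Γ)).resolve_left hTtop
  have huniqC : ∀ M' : Subgroup Γ, IsCoatom M' ∧ (T : Subgroup Γ) ≤ M' → M' = M := by
    rintro M' ⟨hM', hTM'⟩
    by_contra hne
    have htop : M ⊔ M' = ⊤ := hM.2 _ (lt_of_le_of_ne le_sup_left fun e => hne ((hM'.le_iff.1 (e ▸ le_sup_right : M' ≤ M)).resolve_left hM.1).symm)
    have hnorm : ∀ H : Subgroup Γ, H ≠ ⊤ → (T : Subgroup Γ) ≤ H → H ≤ normalizer ((U ⊓ D : Subgroup Γ) : Set Γ) :=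
      fun H hH hTH h hh => CfsgLib.Fusion.mem_normalizer_of_forall fun x hx => by
        have e : h * x * h⁻¹ = ⁅h, x⁆ * x := by rw [commutatorElement_def]; group
        rw [e]
        exact mul_mem (hstep H hH hTH h hh x hx.1) hx
    haveI hn : (U ⊓ D).Normal := normalizer_eq_top_iff.1 (top_unique (htop.ge.trans
      (sup_le (hnorm M hM.1 hTM) (hnorm M' hM'.1 hTM'))))
    have hle : ∀ H : Subgroup Γ, H ≠ ⊤ → (T : Subgroup Γ) ≤ H → H ≤ modStab (U ⊓ D) U :=
      fun H hH hTH h hh x hx => hstep H hH hTH h hh x hx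
    refine hncen (commutator_le.2 fun g _ x hx => ?_)
    exact ((sup_le (hle M hM.1 hTM) (hle M' hM'.1 hTM')) (htop.ge (mem_top g)) x hx).2
  have huniq : ∀ H : Subgroup Γ, (T : Subgroup Γ) ≤ H → H ≠ ⊤ → H ≤ M :=
    fun H h1 h2 => CfsgLib.LocalEven.MinOver.le_of_ne_top huniqC h1 h2
  have hUN : ∀ N : Subgroup Γ, N.Normal → N ≤ M → ∀ g ∈ N, ∀ x ∈ U, ⁅g, x⁆ ∈ R := by
    intro N hN hNM g hg x hx
    haveI := hN
    refine hcore ⁅N, U⁆ inferInstance ?_ ?_ (commutator_mem_commutator hg hx)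
    · exact commutator_le_right N U
    · exact commutator_le.2 fun h hh y hy => (hstep M hM.1 hTM h (hNM hh) y hy).2
  have c : Ctx T M := ⟨hp2, hc, hM, hTM, huniq, hnoChar⟩
  obtain ⟨hJ, hB⟩ := baumann_le_blocks hp2 c.isPMinimal hc T c.cStarStar_ne_top
  obtain ⟨g, hgM, hg⟩ := c.exists_fixing hJ hB hUP hRU.le hUN
  -- conclusion
  set Kn := modStab R U
  have hKn : Kn ⊔ (T : Subgroup Γ) = ⊤ := by
    by_contra hne
    exact hgM ((le_sup_left.trans (huniq _ le_sup_right hne)) (show g ∈ Kn from hg))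
  set Y := ⁅(T : Subgroup Γ), U⁆ ⊔ R with hY
  have hYU : Y ≤ U := sup_le (commutator_le_right _ _) hRU.le
  haveI hYn : Y.Normal := by
    refine normalizer_eq_top_iff.1 (top_unique (hKn.ge.trans (sup_le (fun k hk => ?_) (fun t ht => ?_))))
    · refine CfsgLib.Fusion.mem_normalizer_of_forall fun y hy => ?_
      rw [show k * y * k⁻¹ = ⁅k, y⁆ * y by rw [commutatorElement_def]; group]
      exact mul_mem (mem_sup_right (hk y (hYU hy))) hy
    · refine CfsgLib.Fusion.mem_normalizer_of_forall fun y hy => ?_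
      rw [show t * y * t⁻¹ = ⁅t, y⁆ * y by rw [commutatorElement_def]; group]
      exact mul_mem (mem_sup_left (commutator_mem_commutator ht (hYU hy))) hy
  rcases eq_or_lt_of_le (le_sup_right : R ≤ Y) with e | hlt
  · have hTK : (T : Subgroup Γ) ≤ Kn := fun t ht x hx =>
      e.ge (mem_sup_left (commutator_mem_commutator ht hx))
    rw [sup_eq_left.2 hTK] at hKn
    exact hncen (commutator_le.2 fun y _ x hx => (hRle (hKn.ge (mem_top y) x hx)).2)
  · have hle : U ≤ Y := hUmin ⟨hYn, hlt, hYU.trans hUN0⟩ hYU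
    exact hRU.not_ge (le_of_pGroup_commutator T.2 hUT (hle.trans (by rw [hY, commutator_comm])))

/-- The characteristic subgroups of a Sylow `p`-subgroup, `p` odd, control transfer. -/
theorem inf_commutator_le_iSup (hp2 : p ≠ 2) (S : Sylow p Γ) (hS : (S : Subgroup Γ) ≠ ⊥) :
    (S : Subgroup Γ) ⊓ commutator Γ ≤ ⨆ K : {K : Subgroup ↥(S : Subgroup Γ) // K ≠ ⊥ ∧ K.Characteristic},
      (S : Subgroup Γ) ⊓ ⁅normalizer (((K : Subgroup ↥(S : Subgroup Γ)).map (S : Subgroup Γ).subtype : Subgroup Γ) : Set Γ),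
        normalizer (((K : Subgroup ↥(S : Subgroup Γ)).map (S : Subgroup Γ).subtype : Subgroup Γ) : Set Γ)⁆ :=
  le_trans (le_trans (by rw [commutator_def])
    (tgtOK_sections (p := p) (𝓦 := allChar.{u} p) (fun _ h => h) (fun _ _ _ hcΔ T hsub => step hp2 hcΔ T hsub)
      Γ (IsSect.refl Γ) S)) (tgt_allChar_le S.2 hS)

end CfsgLib.Techniques.CharTransfer
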