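import Cfsg.Agent.Lib.Techniques.CharTransfer.WeakFixing
import Cfsg.Agent.Lib.Techniques.CharTransfer.Step

/-!
The centre and `K(T)` control transfer, for odd `p`.
-/

set_option autoImplicit false

namespace CfsgLib.Techniques.CharTransfer

open Subgroup Cfsg CfsgLib.Techniques.Functor
open scoped commutatorElement
open CfsgLib.LocalEven.RankOne (modStab modStab_normal)

universe u

variable {p : ℕ} [Fact p.Prime] {Γ : Type u} [Group Γ] [Finite Γ]

/-- The local step. -/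
theorem stepK (hp2 : p ≠ 2) (hc : centralizer (pCore p Γ : Set Γ) ≤ pCore p Γ) (T : Sylow p Γ)
    (hsub : ∀ H : Subgroup Γ, H ≠ ⊤ → (T : Subgroup Γ) ≤ H →
      (T : Subgroup Γ) ⊓ ⁅H, H⁆ ≤ tgt (kzSet.{u} p) (T : Subgroup Γ)) :
    pCore p Γ ⊓ ⁅(⊤ : Subgroup Γ), (⊤ : Subgroup Γ)⁆ ≤ tgt (kzSet.{u} p) (T : Subgroup Γ) := by
  classical
  set P := pCore p Γ with hP
  haveI hPn : P.Normal := by
    haveI := CfsgLib.Cores.pCore_characteristic (G := Γ) p
    infer_instance
  set D := tgt (kzSet.{u} p) (T : Subgroup Γ) with hD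
  have hPT : P ≤ (T : Subgroup Γ) := CfsgLib.Cores.pCore_le_sylow T
  set N0 := P ⊓ ⁅(⊤ : Subgroup Γ), (⊤ : Subgroup Γ)⁆ with hN0
  by_contra hbad
  set R := (N0 ⊓ D).normalCore with hR
  have hRle : R ≤ N0 ⊓ D := normalCore_le _
  have hRlt : R < N0 := lt_of_le_of_ne (hRle.trans inf_le_left) fun e => hbad (e ▸ hRle.trans inf_le_right)
  -- a chief factor above the core
  obtain ⟨U, ⟨hUn, hRU, hUN0⟩, hUmin⟩ := Set.Finite.exists_minimal
    (s := {U : Subgroup Γ | U.Normal ∧ R < U ∧ U ≤ N0}) (Set.toFinite _)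
    ⟨N0, inferInstance, hRlt, le_rfl⟩
  haveI := hUn
  have hUP : U ≤ P := hUN0.trans inf_le_left
  have hUT : U ≤ (T : Subgroup Γ) := hUP.trans hPT
  have hUD : ¬ U ≤ D := fun h => hRU.not_ge (normal_le_normalCore.2 (le_inf hUN0 h))
  have hcore : ∀ X : Subgroup Γ, X.Normal → X ≤ U → X ≤ D → X ≤ R := fun X hX h1 h2 =>
    haveI := hX
    normal_le_normalCore.2 (le_inf (h1.trans hUN0) h2)
  have hstep : ∀ H : Subgroup Γ, H ≠ ⊤ → (T : Subgroup Γ) ≤ H → ∀ h ∈ H, ∀ x ∈ U, ⁅h, x⁆ ∈ U ⊓ D := by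
    intro H hH hTH h hh x hx
    have h1 : ⁅h, x⁆ ∈ U := by
      rw [commutatorElement_def]; exact mul_mem (hUn.conj_mem x hx h) (inv_mem hx)
    exact ⟨h1, hsub H hH hTH ⟨hUT h1, commutator_mem_commutator hh (hTH (hUT hx))⟩⟩
  have hder : ⁅(T : Subgroup Γ), (T : Subgroup Γ)⁆ ≤ D := by
    refine le_trans (le_inf (commutator_le_self _) (commutator_mono ?_ ?_))
      (le_tgt (Set.mem_insert (kFun.{u} p) _) (T : Subgroup Γ)) <;>
    exact (le_normalizer.trans (normalizer_induced_ge (isCharPFunctor_kFun.{u} p) T.2))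
  -- central factors are covered
  have hncen : ¬ ⁅(⊤ : Subgroup Γ), U⁆ ≤ D := by
    intro hN
    refine hUD fun x hx => ?_
    set N := ⁅(⊤ : Subgroup Γ), U⁆ with hNdef
    set π := QuotientGroup.mk' N with hπ
    have hπs : Function.Surjective π := QuotientGroup.mk'_surjective N
    have hxc : π x ∈ center (Γ ⧸ N) := by
      refine mem_center_iff.2 fun y => ?_
      obtain ⟨y, rfl⟩ := hπs y
      rw [← commutatorElement_eq_one_iff_mul_comm, ← map_commutatorElement]
      exact (QuotientGroup.eq_one_iff _).2 (commutator_mem_commutator (mem_top y) hx)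
    have hxG : π x ∈ ⁅(⊤ : Subgroup (Γ ⧸ N)), (⊤ : Subgroup (Γ ⧸ N))⁆ := by
      rw [← map_top_commutator π hπs]; exact mem_map_of_mem π (hUN0 hx).2
    have h1 := central_inf_commutator_le (T.mapSurjective hπs) (mem_map_of_mem π (hUT hx)) hxc hxG
    rw [Sylow.coe_mapSurjective, ← map_commutator] at h1
    obtain ⟨y, hy, he⟩ := h1
    have h2 : y⁻¹ * x ∈ N := (QuotientGroup.eq_one_iff _).1 (by
      show π (y⁻¹ * x) = 1
      rw [map_mul, map_inv, he, inv_mul_cancel])
    have h3 := D.mul_mem (hder hy) (hN h2)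
    rwa [mul_inv_cancel_left] at h3
  -- neither of the two subgroups is normal
  have hnot : ∀ W ∈ kzSet.{u} p, ¬ (inducedFunctor (G := Γ) W (T : Subgroup Γ)).Normal := by
    intro W hW hn
    refine hbad ((inf_le_inf_right _ hPT).trans ?_)
    have h1 := le_tgt hW (T : Subgroup Γ)
    haveI := hn
    rwa [normalizer_eq_top] at h1
  have hzNot := hnot zFun.{u} (Set.mem_insert_of_mem _ rfl)
  have hkNot := hnot (kFun.{u} p) (Set.mem_insert _ _)
  rw [induced_zFun] at hzNot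
  rw [induced_kFun] at hkNot
  have hTnn : ¬ (T : Subgroup Γ).Normal := by
    intro hn
    refine hkNot (normalizer_eq_top_iff.1 (top_unique ?_))
    rw [← induced_kFun p (T : Subgroup Γ)]
    exact (normalizer_eq_top_iff.2 hn).ge.trans (normalizer_induced_ge (isCharPFunctor_kFun.{u} p) T.2)
  have hTtop : (T : Subgroup Γ) ≠ ⊤ := fun e => hTnn (e ▸ inferInstance)
  -- a unique maximal subgroup
  obtain ⟨M, hM, hTM⟩ := (eq_top_or_exists_le_coatom (T : Subgroup Γ)).resolve_left hTtop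
  have huniqC : ∀ M' : Subgroup Γ, IsCoatom M' ∧ (T : Subgroup Γ) ≤ M' → M' = M := by
    rintro M' ⟨hM', hTM'⟩
    by_contra hne
    have htop : M ⊔ M' = ⊤ := hM.2 _ (lt_of_le_of_ne le_sup_left fun e => hne ((hM'.le_iff.1 (e ▸ le_sup_right : M' ≤ M)).resolve_left hM.1).symm)
    have hnorm : ∀ H : Subgroup Γ, H ≠ ⊤ → (T : Subgroup Γ) ≤ H → H ≤ normalizer ((U ⊓ D : Subgroup Γ) : Set Γ) :=
      fun H hH hTH h hh => CfsgLib.Fusion.mem_normalizer_of_forall fun x hx => by
        have e : h * x * h⁻¹ = ⁅h, x⁆ * x := by rw [commutatorElement_def]; group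
        rw [e]
        exact mul_mem (hstep H hH hTH h hh x hx.1) hx
    haveI hn : (U ⊓ D).Normal := normalizer_eq_top_iff.1 (top_unique (htop.ge.trans
      (sup_le (hnorm M hM.1 hTM) (hnorm M' hM'.1 hTM'))))
    have hle : ∀ H : Subgroup Γ, H ≠ ⊤ → (T : Subgroup Γ) ≤ H → H ≤ modStab (U ⊓ D) U :=
      fun H hH hTH h hh x hx => hstep H hH hTH h hh x hx
    refine hncen (commutator_le.2 fun g _ x hx => ?_)
    exact ((sup_le (hle M hM.1 hTM) (hle M' hM'.1 hTM')) (htop.ge (mem_top g)) x hx).2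
  have huniq : ∀ H : Subgroup Γ, (T : Subgroup Γ) ≤ H → H ≠ ⊤ → H ≤ M :=
    fun H h1 h2 => CfsgLib.LocalEven.MinOver.le_of_ne_top huniqC h1 h2
  have hUN : ∀ N : Subgroup Γ, N.Normal → N ≤ M → ∀ g ∈ N, ∀ x ∈ U, ⁅g, x⁆ ∈ R := by
    intro N hN hNM g hg x hx
    haveI := hN
    refine hcore ⁅N, U⁆ inferInstance ?_ ?_ (commutator_mem_commutator hg hx)
    · exact commutator_le_right N U
    · exact commutator_le.2 fun h hh y hy => (hstep M hM.1 hTM h (hNM hh) y hy).2
  have c : WCtx T M := ⟨hp2, hc, hM, hTM, huniq, hzNot, hkNot⟩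
  obtain ⟨g, hgM, hg⟩ := c.exists_fixing hUP hRU.le hUN
  -- conclusion
  set Kn := modStab R U
  have hKn : Kn ⊔ (T : Subgroup Γ) = ⊤ := by
    by_contra hne
    exact hgM ((le_sup_left.trans (huniq _ le_sup_right hne)) (show g ∈ Kn from hg))
  set Y := ⁅(T : Subgroup Γ), U⁆ ⊔ R with hY
  have hYU : Y ≤ U := sup_le (commutator_le_right _ _) hRU.le
  haveI hYn : Y.Normal := by
    refine normalizer_eq_top_iff.1 (top_unique (hKn.ge.trans (sup_le (fun k hk => ?_) (fun t ht => ?_))))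
    · refine CfsgLib.Fusion.mem_normalizer_of_forall fun y hy => ?_
      rw [show k * y * k⁻¹ = ⁅k, y⁆ * y by rw [commutatorElement_def]; group]
      exact mul_mem (mem_sup_right (hk y (hYU hy))) hy
    · refine CfsgLib.Fusion.mem_normalizer_of_forall fun y hy => ?_
      rw [show t * y * t⁻¹ = ⁅t, y⁆ * y by rw [commutatorElement_def]; group]
      exact mul_mem (mem_sup_left (commutator_mem_commutator ht (hYU hy))) hy
  rcases eq_or_lt_of_le (le_sup_right : R ≤ Y) with e | hlt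
  · have hTK : (T : Subgroup Γ) ≤ Kn := fun t ht x hx =>
      e.ge (mem_sup_left (commutator_mem_commutator ht hx))
    rw [sup_eq_left.2 hTK] at hKn
    exact hncen (commutator_le.2 fun y _ x hx => (hRle (hKn.ge (mem_top y) x hx)).2)
  · have hle : U ≤ Y := hUmin ⟨hYn, hlt, hYU.trans hUN0⟩ hYU
    exact hRU.not_ge (le_of_pGroup_commutator T.2 hUT (hle.trans (by rw [hY, commutator_comm])))

/-- The centre and `K` control transfer. -/
theorem tgtOK_kz (hp2 : p ≠ 2) (G : Type u) [Group G] [Finite G] : TgtOK p (kzSet.{u} p) G :=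
  tgtOK_sections (isCharPFunctor_kzSet.{u} p) (fun _ _ _ hcΔ T hsub => stepK hp2 hcΔ T hsub) G (IsSect.refl G)

/-- The transfer theorem with the centraliser of the centre. -/
theorem inf_commutator_le_kz (hp2 : p ≠ 2) {G : Type u} [Group G] [Finite G] (P : Sylow p G) :
    (P : Subgroup G) ⊓ commutator G ≤
      ((P : Subgroup G) ⊓ ⁅centralizer (((P : Subgroup G) ⊓ centralizer ((P : Subgroup G) : Set G) : Subgroup G) : Set G),
          centralizer (((P : Subgroup G) ⊓ centralizer ((P : Subgroup G) : Set G) : Subgroup G) : Set G)⁆) ⊔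
        ((P : Subgroup G) ⊓ ⁅normalizer (kOf p (P : Subgroup G) : Set G), normalizer (kOf p (P : Subgroup G) : Set G)⁆) := by
  set Zc := (P : Subgroup G) ⊓ centralizer ((P : Subgroup G) : Set G) with hZc
  set C := centralizer (Zc : Set G) with hC
  set NK := normalizer (kOf p (P : Subgroup G) : Set G) with hNK
  set R := ((P : Subgroup G) ⊓ ⁅C, C⁆) ⊔ ((P : Subgroup G) ⊓ ⁅NK, NK⁆)
  have hPC : (P : Subgroup G) ≤ C := fun t ht => mem_centralizer_iff.2 fun z hz =>
    (mem_centralizer_iff.1 hz.2 t ht).symm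
  have hPN : normalizer ((P : Subgroup G) : Set G) ≤ NK := by
    rw [hNK, ← induced_kFun p (P : Subgroup G)]
    exact normalizer_induced_ge (isCharPFunctor_kFun.{u} p) P.2
  set N := normalizer (Zc : Set G) with hN
  have hPNz : normalizer ((P : Subgroup G) : Set G) ≤ N := by
    rw [hN, hZc, ← induced_zFun]
    exact normalizer_induced_ge (isCharPFunctor_zFun.{u} p) P.2
  have hCN : C ≤ N := centralizer_le_normalizer _
  have hz : (P : Subgroup G) ⊓ ⁅N, N⁆ ≤ R := by
    refine inf_commutator_le P.2 (hPC.trans hCN) (relIndex_sylow_not_dvd P (hPC.trans hCN)) fun a ha g hg hga => ?_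
    obtain ⟨c, hc, n, hn, rfl⟩ : ∃ c ∈ C, ∃ n ∈ normalizer ((P : Subgroup G) : Set G), g = c * n := by
      haveI : (C.subgroupOf N).Normal := by
        refine ⟨fun x hx y => mem_subgroupOf.2 (mem_centralizer_iff.2 fun z hz => ?_)⟩
        have h1 : (y : G)⁻¹ * z * y ∈ Zc := (mem_normalizer_iff''.1 y.2 z).1 hz
        have h2 := mem_centralizer_iff.1 (mem_subgroupOf.1 hx) _ h1
        show z * ((y : G) * x * (y : G)⁻¹) = (y : G) * x * (y : G)⁻¹ * z
        calc z * ((y : G) * x * (y : G)⁻¹) = (y : G) * (((y : G)⁻¹ * z * y) * x) * (y : G)⁻¹ := by group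
          _ = (y : G) * ((x : G) * ((y : G)⁻¹ * z * y)) * (y : G)⁻¹ := by rw [h2]
          _ = (y : G) * x * (y : G)⁻¹ * z := by group
      let PN : Sylow p ↥N := (P.2.comap_subtype (K := N)).toSylow (relIndex_sylow_not_dvd P (hPC.trans hCN))
      have hPNe : (PN : Subgroup ↥N) = (P : Subgroup G).subgroupOf N := IsPGroup.toSylow_coe _ _
      obtain ⟨Q, hQ⟩ := CfsgLib.Transfer.exists_sylow_map_eq_inf (C.subgroupOf N) PN
      have hfr := Sylow.normalizer_sup_eq_top Q
      rw [hQ, inf_eq_left.2 (show (PN : Subgroup ↥N) ≤ C.subgroupOf N from hPNe.le.trans (Subgroup.comap_mono hPC))] at hfr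
      obtain ⟨c, hc, n, hn, e⟩ := CfsgLib.Solvable.exists_mul_of_mem_sup (K := C.subgroupOf N)
        (A := normalizer ((PN : Subgroup ↥N) : Set ↥N)) (by rw [normalizer_eq_top (C.subgroupOf N)]; exact le_top)
        ((sup_comm _ _).trans hfr |>.ge (mem_top (⟨g, hg⟩ : ↥N)))
      refine ⟨c, mem_subgroupOf.1 hc, n, ?_, congrArg Subtype.val e⟩
      have h1 := le_normalizer_map N.subtype (mem_map_of_mem N.subtype hn)
      rwa [hPNe, map_subgroupOf_eq_of_le (hPC.trans hCN)] at h1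
    have hb : n * a * n⁻¹ ∈ (P : Subgroup G) := (mem_normalizer_iff.1 hn a).1 ha
    have h1 : a⁻¹ * (n * a * n⁻¹) ∈ R := mem_sup_right ⟨Subgroup.mul_mem _ (Subgroup.inv_mem _ ha) hb, by
      rw [show a⁻¹ * (n * a * n⁻¹) = ⁅a⁻¹, n⁆ by simp only [commutatorElement_def]; group]
      exact commutator_mem_commutator (inv_mem (hPN (le_normalizer ha))) (hPN hn)⟩
    have h2 : (n * a * n⁻¹)⁻¹ * (c * (n * a * n⁻¹) * c⁻¹) ∈ R := mem_sup_left ⟨Subgroup.mul_mem _ (Subgroup.inv_mem _ hb) (by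
      rw [show c * (n * a * n⁻¹) * c⁻¹ = c * n * a * (c * n)⁻¹ by group]; exact hga), by
      rw [show (n * a * n⁻¹)⁻¹ * (c * (n * a * n⁻¹) * c⁻¹) = ⁅(n * a * n⁻¹)⁻¹, c⁆ by
        simp only [commutatorElement_def]; group]
      exact commutator_mem_commutator (inv_mem (hPC hb)) hc⟩
    have h3 := mul_mem h1 h2
    rwa [show a⁻¹ * (n * a * n⁻¹) * ((n * a * n⁻¹)⁻¹ * (c * (n * a * n⁻¹) * c⁻¹)) =
      a⁻¹ * (c * n * a * (c * n)⁻¹) by group] at h3
  rw [_root_.commutator_def]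
  refine (tgtOK_kz hp2 G P).trans (iSup₂_le ?_)
  rintro W (rfl | rfl)
  · rw [induced_kFun]; exact le_sup_right
  · rw [induced_zFun]; exact hz

end CfsgLib.Techniques.CharTransfer
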