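import Cfsg.Agent.Lib.Techniques.CharTransfer.FrattiniK
import Cfsg.Agent.Lib.Techniques.CharTransfer.Fixing

/-!
The local situation when only the centre of the Sylow subgroup and `K(T)` are known not to be normal.
-/

set_option autoImplicit false

namespace CfsgLib.Techniques.CharTransfer

open Subgroup Cfsg
open scoped commutatorElement
open CfsgLib.Fusion (conjSub)
open CfsgLib.PStab (jGen zjGen maxAdm le_jGen zjGen_le jGen_le mem_of_commute_maxAdm)

universe u

variable {p : ℕ} [hp : Fact p.Prime] {Γ : Type u} [Group Γ] [Finite Γ]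

/-- If the elements of order `p` of the centre of a Sylow subgroup are central, so is the centre. -/
theorem center_sylow_le_center (T : Sylow p Γ) (hc : centralizer (pCore p Γ : Set Γ) ≤ pCore p Γ)
    (h1 : ∀ z ∈ (T : Subgroup Γ), (∀ t ∈ (T : Subgroup Γ), t * z = z * t) → z ^ p = 1 → z ∈ center Γ) :
    (T : Subgroup Γ) ⊓ centralizer ((T : Subgroup Γ) : Set Γ) ≤ center Γ := by
  classical
  haveI := CfsgLib.Cores.pCore_characteristic (G := Γ) p
  set P := pCore p Γ with hP
  haveI : P.Normal := inferInstance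
  set A := P ⊓ centralizer (P : Set Γ) with hA
  haveI : A.Normal := inferInstance
  have hPT : P ≤ (T : Subgroup Γ) := CfsgLib.Cores.pCore_le_sylow T
  letI : CommGroup ↥A :=
    { (inferInstance : Group ↥A) with
      mul_comm := fun a b => Subtype.ext (mem_centralizer_iff.1 b.2.2 (a : Γ) a.2.1) }
  suffices H : ∀ (k : ℕ) (z : Γ), z ∈ (T : Subgroup Γ) ⊓ centralizer ((T : Subgroup Γ) : Set Γ) →
      z ^ p ^ k = 1 → z ∈ center Γ by
    intro z hz
    obtain ⟨k, hk⟩ := T.2 ⟨z, hz.1⟩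
    exact H k z hz (congrArg Subtype.val hk)
  intro k
  induction k with
  | zero =>
    intro z _ h
    rw [pow_zero, pow_one] at h
    rw [h]; exact one_mem _
  | succ k ih =>
    intro z hz hzk
    have hzp : z ^ p ∈ center Γ := ih (z ^ p) (pow_mem hz p) (by rw [← pow_mul, ← pow_succ']; exact hzk)
    have hzA : z ∈ A := by
      have h2 : z ∈ centralizer (P : Set Γ) := centralizer_le hPT hz.2
      exact ⟨hc h2, h2⟩
    let f : Γ ⧸ (T : Subgroup Γ) → ↥A := Quotient.lift (fun g => MulAut.conjNormal g ⟨z, hzA⟩) fun a b hab => by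
      have hm : a⁻¹ * b ∈ (T : Subgroup Γ) := QuotientGroup.leftRel_apply.1 hab
      refine Subtype.ext ?_
      rw [MulAut.conjNormal_apply, MulAut.conjNormal_apply]
      show a * z * a⁻¹ = b * z * b⁻¹
      calc a * z * a⁻¹ = a * (z * (a⁻¹ * b)) * (a⁻¹ * b)⁻¹ * a⁻¹ := by group
        _ = a * ((a⁻¹ * b) * z) * (a⁻¹ * b)⁻¹ * a⁻¹ := by rw [mem_centralizer_iff.1 hz.2 _ hm]
        _ = b * z * b⁻¹ := by group
    haveI : Fintype (Γ ⧸ (T : Subgroup Γ)) := Fintype.ofFinite _
    set s : ↥A := ∏ c, f c with hs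
    have hscen : (s : Γ) ∈ center Γ := mem_center_iff.2 fun g => by
      have h2 : MulAut.conjNormal g s = s := by
        rw [hs, map_prod]
        refine Fintype.prod_equiv (MulAction.toPerm g) _ _ fun c => ?_
        obtain ⟨a, rfl⟩ := QuotientGroup.mk_surjective c
        show MulAut.conjNormal g (MulAut.conjNormal a ⟨z, hzA⟩) = MulAut.conjNormal (g * a) ⟨z, hzA⟩
        rw [map_mul]; rfl
      have h3 := congrArg Subtype.val h2
      rw [MulAut.conjNormal_apply] at h3
      exact mul_inv_eq_iff_eq_mul.1 h3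
    set i := (T : Subgroup Γ).index with hi
    set y : ↥A := ∏ c, f c * (⟨z, hzA⟩ : ↥A)⁻¹ with hy
    have hyp : y ^ p = 1 := by
      rw [hy, ← Finset.prod_pow]
      refine Finset.prod_eq_one fun c _ => ?_
      obtain ⟨a, rfl⟩ := QuotientGroup.mk_surjective c
      rw [mul_pow, inv_pow, mul_inv_eq_one]
      show (MulAut.conjNormal a ⟨z, hzA⟩) ^ p = _
      rw [← map_pow]
      refine Subtype.ext ?_
      rw [MulAut.conjNormal_apply]
      show a * ((⟨z, hzA⟩ : ↥A) ^ p : ↥A).1 * a⁻¹ = _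
      rw [SubgroupClass.coe_pow, mem_center_iff.1 hzp a, mul_inv_cancel_right]
    have hye : (y : Γ) = (s : Γ) * (z ^ i)⁻¹ := by
      rw [hy, Finset.prod_mul_distrib, Finset.prod_const, Finset.card_univ, ← Nat.card_eq_fintype_card,
        ← hs, inv_pow]
      rfl
    have hyc : ∀ t ∈ (T : Subgroup Γ), t * (y : Γ) = y * t := fun t ht => by
      rw [hye]
      exact (((show Commute t (s : Γ) from mem_center_iff.1 hscen t)).mul_right
        ((show Commute t z from mem_centralizer_iff.1 hz.2 t ht).pow_right i).inv_right).eq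
    have hzi : z ^ i ∈ center Γ := by
      have hyC := h1 (y : Γ) (hPT y.2.1) hyc (congrArg Subtype.val hyp)
      have h2 := mul_mem (inv_mem hyC) hscen
      rwa [hye, mul_inv_rev, inv_inv, inv_mul_cancel_right] at h2
    obtain ⟨m, hm⟩ := exists_pow_eq_self_of_coprime (x := z) (n := i) (by
      obtain ⟨j, hj⟩ := IsPGroup.iff_orderOf.1 T.2 ⟨z, hz.1⟩
      rw [← Subgroup.orderOf_mk (a := z) (ha := hz.1), hj]
      exact Nat.Coprime.pow_right j ((CfsgLib.Cores.coprime_iff_not_dvd hp.out _).2 T.not_dvd_index))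
    rw [← hm]
    exact pow_mem hzi m

/-- The situation of the local step. -/
structure WCtx (T : Sylow p Γ) (M : Subgroup Γ) : Prop where
  hp2 : p ≠ 2
  cP : centralizer (pCore p Γ : Set Γ) ≤ pCore p Γ
  coatom : IsCoatom M
  sylLe : (T : Subgroup Γ) ≤ M
  uniq : ∀ H : Subgroup Γ, (T : Subgroup Γ) ≤ H → H ≠ ⊤ → H ≤ M
  zNot : ¬ ((T : Subgroup Γ) ⊓ centralizer ((T : Subgroup Γ) : Set Γ)).Normal
  kNot : ¬ (kOf p (T : Subgroup Γ)).Normal

namespace WCtx

variable {T : Sylow p Γ} {M : Subgroup Γ} (c : WCtx T M)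
include c

theorem normal_of_normalized {K X : Subgroup Γ} (hT : (T : Subgroup Γ) ≤ normalizer (K : Set Γ))
    (hX : X ≤ normalizer (K : Set Γ)) (hXM : ¬ X ≤ M) : K.Normal := by
  refine normalizer_eq_top_iff.1 ?_
  by_contra hne
  exact hXM (hX.trans (c.uniq _ hT hne))

theorem zjCen_normalized : (T : Subgroup Γ) ≤ normalizer (zjCen (T : Subgroup Γ) : Set Γ) :=
  sylow_le_normalizer_char inf_le_left (CfsgLib.LocalEven.PushUp.char_centralizer_zjGen T)

omit c in
theorem kOf_normalized {N : Subgroup Γ} (hN : N ≤ normalizer (zjCen (T : Subgroup Γ) : Set Γ))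
    (h : frattiniOfMinimalCLJoin p ↥(zjCen (T : Subgroup Γ)) ≠ ⊥) :
    N ≤ normalizer (kOf p (T : Subgroup Γ) : Set Γ) := by
  rw [kOf_eq_map h]
  intro g hg
  haveI : (frattiniOfMinimalCLJoin p ↥(zjCen (T : Subgroup Γ))).Characteristic :=
    characteristic_iff_map_eq.2 fun φ => CfsgLib.LocalEven.PairUp.map_frattiniJoin p φ
  exact CfsgLib.Fusion.mem_normalizer_of_forall fun x hx => by
    obtain ⟨y, hy, rfl⟩ := hx
    have hgy : g * (y : Γ) * g⁻¹ ∈ zjCen (T : Subgroup Γ) := (mem_normalizer_iff.1 (hN hg) _).1 y.2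
    let φ : ↥(zjCen (T : Subgroup Γ)) ≃* ↥(zjCen (T : Subgroup Γ)) :=
      { toFun := fun a => ⟨g * a * g⁻¹, (mem_normalizer_iff.1 (hN hg) _).1 a.2⟩
        invFun := fun a => ⟨g⁻¹ * a * g, (mem_normalizer_iff''.1 (hN hg) _).1 a.2⟩
        left_inv := fun a => Subtype.ext (by simp [mul_assoc])
        right_inv := fun a => Subtype.ext (by simp [mul_assoc])
        map_mul' := fun a b => Subtype.ext (by simp [mul_assoc]) }
    exact ⟨φ y, (characteristic_iff_map_eq.1 inferInstance φ).le ⟨y, hy, rfl⟩, rfl⟩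

theorem bNot : ¬ (zjCen (T : Subgroup Γ)).Normal := by
  intro hn
  refine c.kNot ?_
  by_cases h : frattiniOfMinimalCLJoin p ↥(zjCen (T : Subgroup Γ)) = ⊥
  · rw [kOf_eq_bot h]; exact hn
  · exact normalizer_eq_top_iff.1 (top_unique (kOf_normalized (normalizer_eq_top_iff.2 hn).ge h))

theorem centralizer_center_le :
    centralizer (((T : Subgroup Γ) ⊓ centralizer ((T : Subgroup Γ) : Set Γ) : Subgroup Γ) : Set Γ) ≤ M := by
  refine c.uniq _ (fun t ht => mem_centralizer_iff.2 fun x hx => ((mem_centralizer_iff.1 hx.2) t ht).symm) fun e =>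
    c.zNot ?_
  exact CfsgLib.LocalEven.RankOne.normal_of_le_center fun x hx => mem_center_iff.2 fun g =>
    (mem_centralizer_iff.1 (e.ge (mem_top g)) x hx).symm

theorem center_le_pCore : (T : Subgroup Γ) ⊓ centralizer ((T : Subgroup Γ) : Set Γ) ≤ pCore p Γ :=
  (inf_le_right.trans (centralizer_le (CfsgLib.Cores.pCore_le_sylow T))).trans c.cP

theorem centralizer_omega_le : centralizer (omegaOneCenter p (T : Subgroup Γ) : Set Γ) ≤ M := by
  refine c.uniq _ (fun t ht => mem_centralizer_iff.2 fun x hx =>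
    ((CfsgLib.LocalEven.Oz.mem_iff.1 hx).2.1 t ht).symm) fun e => c.zNot ?_
  refine CfsgLib.LocalEven.RankOne.normal_of_le_center (center_sylow_le_center T c.cP fun z hz hzc hzp => ?_)
  exact mem_center_iff.2 fun g =>
    (mem_centralizer_iff.1 (e.ge (mem_top g)) z (CfsgLib.LocalEven.Oz.mem_iff.2 ⟨hz, hzc, hzp⟩)).symm

/-- An abelian subgroup of largest order outside a normal subgroup in `M`. -/
theorem exists_maxAdm_not_le {C : Subgroup Γ} [C.Normal] (hC : C ≤ M) :
    ∃ A ∈ maxAdm 0 (T : Subgroup Γ), ¬ A ≤ C := by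
  by_contra hc
  push Not at hc
  have huniqC : ∀ M' : Subgroup Γ, IsCoatom M' ∧ (T : Subgroup Γ) ≤ M' → M' = M := fun M' hM' =>
    ((hM'.1.le_iff.1 (c.uniq M' hM'.2 hM'.1.1)).resolve_left c.coatom.1).symm
  set P := pCore p Γ with hP
  have hPT : P ≤ (T : Subgroup Γ) := CfsgLib.Cores.pCore_le_sylow T
  have hJP : jGen 0 (T : Subgroup Γ) ≤ P :=
    (le_inf (jGen_le 0 _) (sSup_le hc)).trans
      (CfsgLib.LocalEven.MinOver.inf_le_pCore T c.coatom huniqC C hC)
  set Z := zjGen 0 (T : Subgroup Γ) with hZ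
  have hmax : maxAdm 0 (T : Subgroup Γ) = maxAdm 0 P := by
    obtain ⟨A0, hA0⟩ := CfsgLib.PStab.maxAdm_nonempty 0 (T : Subgroup Γ)
    ext A
    exact ⟨fun hA => ⟨(le_jGen hA).trans hJP, hA.2.1, fun B hB hBa => hA.2.2 B (hB.trans hPT) hBa⟩,
      fun hA => CfsgLib.PStab.maxAdm_of_le hPT hA0 ((le_jGen hA0).trans hJP) hA⟩
  have hZP : Z = zjGen 0 P := by rw [hZ, zjGen, zjGen, jGen, jGen, hmax]
  haveI hPn : P.Normal := by
    haveI := CfsgLib.Cores.pCore_characteristic (G := Γ) p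
    infer_instance
  haveI : Z.Normal := normalizer_eq_top_iff.1 (top_unique
    ((normalizer_eq_top P).ge.trans (by rw [hZP]; exact CfsgLib.PStab.normalizer_le_normalizer_zjGen 0 P)))
  have hzcZ : (T : Subgroup Γ) ⊓ centralizer ((T : Subgroup Γ) : Set Γ) ≤ Z := by
    rintro z ⟨hzT, hzc⟩
    have hz : ∀ A ∈ maxAdm 0 (T : Subgroup Γ), z ∈ A := fun A hA =>
      mem_of_commute_maxAdm (p := orderOf z) (Or.inl rfl) hA hzT (pow_orderOf_eq_one z) fun a ha =>
        (mem_centralizer_iff.1 hzc a (hA.1 ha)).symm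
    obtain ⟨A0, hA0⟩ := CfsgLib.PStab.maxAdm_nonempty 0 (T : Subgroup Γ)
    exact ⟨le_jGen hA0 (hz A0 hA0), mem_centralizer_iff.2 fun a ha =>
      mem_centralizer_iff.1 hzc a (jGen_le 0 _ ha)⟩
  have hB : zjCen (T : Subgroup Γ) = P ⊓ centralizer (Z : Set Γ) := le_antisymm
    (le_inf (CfsgLib.LocalEven.MinOver.inf_le_pCore T c.coatom huniqC (centralizer (Z : Set Γ))
      ((centralizer_le hzcZ).trans c.centralizer_center_le)) inf_le_right)
    (inf_le_inf_right _ hPT)
  exact c.bNot (hB ▸ inferInstance)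

end WCtx

end CfsgLib.Techniques.CharTransfer
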