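import Cfsg.Agent.Lib.Techniques.CharTransfer.OffBlock
import Cfsg.Agent.Lib.Techniques.CharTransfer.AbelianCL
import Cfsg.Agent.Lib.LocalEven.Offender

/-!
A `p'`-element outside the maximal subgroup centralising a chief factor below `O_p`, knowing only that the centre of
the Sylow subgroup and `K(T)` are not normal.
-/

set_option autoImplicit false

namespace CfsgLib.Techniques.CharTransfer

open Subgroup Cfsg
open scoped commutatorElement
open CfsgLib.LocalEven.RankOne (modStab modStab_normal Hyp zS vS scalarM scalarM_mem_center scalarM00)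
open CfsgLib.PStab (jGen zjGen maxAdm le_jGen jGen_le zjGen_le)
open CfsgLib.Fusion (conjSub)

universe u

variable {p : ℕ} [hp : Fact p.Prime] {Γ : Type u} [Group Γ] [Finite Γ]

/-- The element outside `M`. -/
theorem WCtx.exists_fixing {T : Sylow p Γ} {M : Subgroup Γ} (c : WCtx T M)
    {U R : Subgroup Γ} [U.Normal] [R.Normal] (hUP : U ≤ pCore p Γ) (hRU : R ≤ U)
    (hUN : ∀ N : Subgroup Γ, N.Normal → N ≤ M → ∀ g ∈ N, ∀ x ∈ U, ⁅g, x⁆ ∈ R) :
    ∃ g : Γ, g ∉ M ∧ ∀ x ∈ U, ⁅g, x⁆ ∈ R := by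
  classical
  obtain ⟨F, iF, iFF, n, E, E0, ρ, hF, blk⟩ := c.exists_offBlock
  have hJ := blk.jLe
  have hB := blk.bLe
  haveI hEn := blk.normal
  set T0 := (T : Subgroup Γ) ⊓ E with hT0
  have hT0p : IsPGroup p T0 := T.2.to_le inf_le_left
  have hT0i : ¬ p ∣ T0.relIndex E := CfsgLib.LocalEven.ZJFusion.not_dvd_relIndex_inf (K := ⊤) T.2 le_top
    (by rw [relIndex_top_right]; exact T.not_dvd_index) le_top (by rw [normalizer_eq_top E])
  have hPT0 : pCore p Γ ≤ T0 := le_inf (CfsgLib.Cores.pCore_le_sylow T) blk.pCore_le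
  have hρs : Function.Surjective ρ := fun w => let ⟨e, _, he⟩ := blk.onto w; ⟨e, he⟩
  let Q : Sylow p ↥E := hT0p.comap_subtype.toSylow hT0i
  have hQ : (Q : Subgroup ↥E) = T0.subgroupOf E := IsPGroup.toSylow_coe _ _
  set Y := E0 ⊔ T0 with hY
  have hYE : Y ≤ E := sup_le blk.le inf_le_right
  -- a subgroup of `Y` covering `ρ T0` and not in `M` covers everything
  have hcover : ∀ H : Subgroup Γ, H ≤ Y → ¬ H ≤ M →
      (T0.subgroupOf E).map ρ ≤ (H.subgroupOf E).map ρ → (H.subgroupOf E).map ρ = ⊤ := by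
    intro H hHY hHM hle
    by_contra hne
    have h1 := le_normalizer_of_sylow_le c.hp2 blk.pos hF (Q.mapSurjective hρs)
      (by rw [Sylow.coe_mapSurjective, hQ]; exact hle) hne
    rw [Sylow.coe_mapSurjective, hQ] at h1
    refine hHM fun x hx => ?_
    obtain ⟨e, he, t, ht, rfl⟩ := CfsgLib.Solvable.exists_mul_of_mem_sup (K := E0) (A := T0)
      (inf_le_right.trans blk.norm) (hHY hx)
    refine mul_mem (blk.move ⟨e, blk.le he⟩ he ?_) (c.sylLe ht.1)
    have h2 := h1 (mem_map_of_mem ρ (show (⟨e * t, hYE (hHY hx)⟩ : ↥E) ∈ H.subgroupOf E from hx))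
    have h3 : ρ ⟨e * t, hYE (hHY hx)⟩ = ρ ⟨e, blk.le he⟩ * ρ ⟨t, ht.2⟩ := by rw [← map_mul]; rfl
    rw [h3] at h2
    have h4 := le_normalizer (H := (T0.subgroupOf E).map ρ)
      (mem_map_of_mem ρ (show (⟨t, ht.2⟩ : ↥E) ∈ T0.subgroupOf E from ht))
    have h5 := mul_mem h2 (inv_mem h4)
    rwa [mul_inv_cancel_right] at h5
  -- `p'`-elements of `Y` lie in `E0`
  have hcop : ∀ y ∈ Y, (orderOf y).Coprime p → y ∈ E0 := by
    intro y hy hco
    haveI : (E0.subgroupOf Y).Normal :=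
      normal_subgroupOf_of_le_normalizer (sup_le le_normalizer (inf_le_right.trans blk.norm))
    set π := QuotientGroup.mk' (E0.subgroupOf Y)
    have htop : (T0.subgroupOf Y).map π = ⊤ := by
      refine eq_top_iff.2 fun w _ => ?_
      obtain ⟨w, rfl⟩ := QuotientGroup.mk'_surjective _ w
      obtain ⟨e, he, t, ht, hwe⟩ := CfsgLib.Solvable.exists_mul_of_mem_sup (K := E0) (A := T0)
        (inf_le_right.trans blk.norm) w.2
      refine ⟨⟨t, (le_sup_right : T0 ≤ Y) ht⟩, ht, ?_⟩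
      rw [show w = (⟨e, (le_sup_left : E0 ≤ Y) he⟩ : ↥Y) * ⟨t, (le_sup_right : T0 ≤ Y) ht⟩ from Subtype.ext hwe,
        map_mul, show π ⟨e, (le_sup_left : E0 ≤ Y) he⟩ = 1 from (QuotientGroup.eq_one_iff _).2 he, one_mul]
    have hq : IsPGroup p ↥((T0.subgroupOf Y).map π) := hT0p.comap_subtype.map π
    have h1 := CfsgLib.LocalEven.eq_one_of_pow_eq_one_of_pGroup hq (htop.ge (mem_top (π ⟨y, hy⟩)))
      hco (show π ⟨y, hy⟩ ^ orderOf y = 1 by
        rw [← map_pow, show (⟨y, hy⟩ : ↥Y) ^ orderOf y = 1 from Subtype.ext (pow_orderOf_eq_one y), map_one])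
    exact mem_subgroupOf.1 ((QuotientGroup.eq_one_iff (⟨y, hy⟩ : ↥Y)).1 h1)
  -- the member
  have hYM : ¬ Y ≤ M := fun h => blk.notLe (le_sup_left.trans h)
  obtain ⟨X, ⟨hT0X, hXY, hXM⟩, hXmin⟩ := Set.Finite.exists_minimal
    (s := {X : Subgroup Γ | T0 ≤ X ∧ X ≤ Y ∧ ¬ X ≤ M}) (Set.toFinite _) ⟨Y, le_sup_right, le_rfl, hYM⟩
  have hXE : X ≤ E := hXY.trans hYE
  have hXtop : (X.subgroupOf E).map ρ = ⊤ := hcover X hXY hXM (Subgroup.map_mono (Subgroup.comap_mono hT0X))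
  let π2 : Matrix.SpecialLinearGroup (Fin 2) F →* Matrix.ProjectiveSpecialLinearGroup (Fin 2) F := QuotientGroup.mk' _
  -- the rank-one hypotheses on a subgroup of `Y`
  have mk : ∀ (H B : Subgroup Γ) (hHE : H ≤ E), ¬ H ≤ M → B ≤ H → IsPGroup p B → B ≤ (T : Subgroup Γ) →
      ¬ p ∣ B.relIndex H → CfsgLib.LocalEven.HasCharP p ↥H → (H.subgroupOf E).map ρ = ⊤ →
      (∀ H', B ≤ H' → H' ≤ H → ¬ H' ≤ M → H' = H) →
      ∃ S : Sylow p ↥H, (S : Subgroup ↥H) = B.subgroupOf H ∧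
        Hyp n S (π2.comp (ρ.comp (Subgroup.inclusion hHE))).ker ∧
        Function.Surjective (ρ.comp (Subgroup.inclusion hHE)) ∧
        Nonempty (↥H ⧸ (π2.comp (ρ.comp (Subgroup.inclusion hHE))).ker ≃*
          Matrix.ProjectiveSpecialLinearGroup (Fin 2) F) := by
    intro H B hHE hHM hBH hBp hBT hBi hchar htop hmin
    let S : Sylow p ↥H := hBp.comap_subtype.toSylow hBi
    have hS : (S : Subgroup ↥H) = B.subgroupOf H := IsPGroup.toSylow_coe _ _
    have hsur : Function.Surjective (ρ.comp (Subgroup.inclusion hHE)) := fun w => by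
      obtain ⟨e, he, hew⟩ := htop.ge (mem_top w)
      exact ⟨⟨e, he⟩, hew⟩
    have hsur2 : Function.Surjective (π2.comp (ρ.comp (Subgroup.inclusion hHE))) :=
      (QuotientGroup.mk'_surjective _).comp hsur
    have he3 : Nonempty (↥H ⧸ (π2.comp (ρ.comp (Subgroup.inclusion hHE))).ker ≃*
        Matrix.ProjectiveSpecialLinearGroup (Fin 2) F) := ⟨QuotientGroup.quotientKerEquivOfSurjective _ hsur2⟩
    refine ⟨S, hS, CfsgLib.LocalEven.RankOne.hyp_of_equiv S hchar ?_ _ F n blk.pos hF he3, hsur, he3⟩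
    have hbelow : ∀ H' : Subgroup ↥H, (S : Subgroup ↥H) ≤ H' → H' ≠ ⊤ → H' ≤ M.subgroupOf H := by
      intro H' hle hne x hx
      by_contra hxM
      refine hne (eq_top_iff.2 fun y _ => ?_)
      have h1 := hmin (H'.map H.subtype) (fun b hb => ⟨⟨b, hBH hb⟩, hle (hS.ge hb), rfl⟩) (map_subtype_le _)
        fun h => hxM (h ⟨x, hx, rfl⟩)
      obtain ⟨y', hy', hyy⟩ := h1.ge y.2
      exact Subtype.ext hyy ▸ hy'
    have hMne : M.subgroupOf H ≠ ⊤ := fun h => hHM (subgroupOf_eq_top.1 h)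
    have hMS : (S : Subgroup ↥H) ≤ M.subgroupOf H := hS.le.trans (fun b hb => c.sylLe (hBT hb))
    refine ⟨M.subgroupOf H, ⟨⟨hMne, fun H' hlt => ?_⟩, hMS⟩, fun M' hM' => ?_⟩
    · by_contra hne
      exact hlt.not_ge (hbelow H' (hMS.trans hlt.le) hne)
    · exact ((hM'.1.le_iff.1 (hbelow M' hM'.2 hM'.1.1)).resolve_left hMne).symm
  have hcharΓ : CfsgLib.LocalEven.HasCharP p Γ := c.cP
  have hXchar : CfsgLib.LocalEven.HasCharP p ↥X :=
    hcharΓ.of_pCore_le_normalizer ((hPT0.trans hT0X).trans le_normalizer)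
  have hT0Xi : ¬ p ∣ T0.relIndex X := fun hd => hT0i (hd.trans (Dvd.intro _ (relIndex_mul_relIndex _ _ _ hT0X hXE)))
  obtain ⟨S0, hS0, hypX, hρX, -⟩ := mk X T0 hXE hXM hT0X hT0p inf_le_left hT0Xi hXchar hXtop
    fun H' h1 h2 h3 => le_antisymm h2 (hXmin ⟨h1, h2.trans hXY, h3⟩ h2)
  set K0 := (π2.comp (ρ.comp (Subgroup.inclusion hXE))).ker with hK0
  -- `B`
  set B := (T : Subgroup Γ) ⊓ centralizer (zjGen 0 (T : Subgroup Γ) : Set Γ) with hBdef
  have hBT0 : B ≤ T0 := le_inf inf_le_left hB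
  have hBc : (B.subgroupOf (T : Subgroup Γ)).Characteristic :=
    CfsgLib.LocalEven.PushUp.char_centralizer_zjGen T
  have hTB : (T : Subgroup Γ) ≤ normalizer (B : Set Γ) := sylow_le_normalizer_char inf_le_left hBc
  have hS0map : (S0 : Subgroup ↥X).map X.subtype = T0 := by rw [hS0, map_subgroupOf_eq_of_le hT0X]
  have hmax : maxAdm 0 (T : Subgroup Γ) = maxAdm 0 T0 := by
    ext A
    constructor
    · intro hA
      exact ⟨le_inf hA.1 ((le_jGen hA).trans hJ), hA.2.1, fun C hC hCa => hA.2.2 C (hC.trans inf_le_left) hCa⟩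
    · intro hA
      obtain ⟨A1, hA1⟩ := CfsgLib.PStab.maxAdm_nonempty 0 (T : Subgroup Γ)
      exact ⟨hA.1.trans inf_le_left, hA.2.1, fun C hC hCa => (hA1.2.2 C hC hCa).trans
        (hA.2.2 A1 (le_inf hA1.1 ((le_jGen hA1).trans hJ)) hA1.2.1)⟩
  have hzj : (zjGen 0 (S0 : Subgroup ↥X)).map X.subtype = zjGen 0 (T : Subgroup Γ) := by
    rw [← CfsgLib.PStab.zjGen_map X.subtype_injective, hS0map, zjGen, zjGen, jGen, jGen, hmax]
  set B0 := (S0 : Subgroup ↥X) ⊓ centralizer (zjGen 0 (S0 : Subgroup ↥X) : Set ↥X) with hB0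
  have hB0map : B0.map X.subtype = B := by
    ext x
    constructor
    · rintro ⟨y, ⟨hy1, hy2⟩, rfl⟩
      refine ⟨(hS0map.le ⟨y, hy1, rfl⟩).1, mem_centralizer_iff.2 fun z hz => ?_⟩
      obtain ⟨z', hz', rfl⟩ := hzj.ge hz
      exact congrArg Subtype.val (mem_centralizer_iff.1 hy2 z' hz')
    · intro hx
      obtain ⟨y, hy, rfl⟩ := hS0map.ge (hBT0 hx)
      refine ⟨y, ⟨hy, mem_centralizer_iff.2 fun z hz => Subtype.ext ?_⟩, rfl⟩
      exact mem_centralizer_iff.1 hx.2 (z : Γ) (hzj.le ⟨z, hz, rfl⟩)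
  set Zc := (T : Subgroup Γ) ⊓ centralizer ((T : Subgroup Γ) : Set Γ) with hZc
  have hZcen : ∀ (H : Subgroup Γ) (S' : Sylow p ↥H), (S' : Subgroup ↥H).map H.subtype ≤ (T : Subgroup Γ) →
      Zc ≤ (S' : Subgroup ↥H).map H.subtype → zS S' ≤ center ↥H → H ≤ M := by
    intro H S' hle hge hc
    refine le_trans (fun x hx => mem_centralizer_iff.2 fun z hz => ?_) c.centralizer_center_le
    obtain ⟨z', hz', rfl⟩ := hge hz
    have hzz : z' ∈ zS S' := ⟨hz', mem_centralizer_iff.2 fun s hs => Subtype.ext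
      (mem_centralizer_iff.1 hz.2 (s : Γ) (hle (mem_map_of_mem _ hs)))⟩
    exact (congrArg Subtype.val (mem_center_iff.1 (hc hzz) ⟨x, hx⟩)).symm
  have hZnc : ¬ zS S0 ≤ center ↥X := fun hle => hXM (hZcen X S0 (hS0map.le.trans inf_le_left)
    (((le_inf (CfsgLib.Cores.pCore_le_sylow T) blk.pCore_le).trans' c.center_le_pCore).trans hS0map.ge) hle)
  have hJX : ¬ jGen 0 (S0 : Subgroup ↥X) ≤ pCore p ↥X := by
    intro hle
    have hn := (hypX.of_jGen_le hle).resolve_left hZnc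
    refine c.bNot (c.normal_of_normalized hTB (X := X)
      (fun x hx => CfsgLib.Fusion.mem_normalizer_of_forall fun z hz => ?_) hXM)
    obtain ⟨y, hy, rfl⟩ := hB0map.ge hz
    exact hB0map.le ⟨_, hn.conj_mem y hy ⟨x, hx⟩, rfl⟩
  obtain ⟨A, hA, hAQ, -⟩ := hypX.exists_quad hJX
  have hρpX : ∀ q ∈ pCore p ↥X, ρ (Subgroup.inclusion hXE q) = 1 := fun q hq => by
    have h1 := normal_pGroup_eq_bot (p := p) c.hp2 blk.pos hF
      ((inferInstance : (pCore p ↥X).Normal).map _ hρX) ((CfsgLib.Cores.isPGroup_pCore p).map _)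
    exact mem_bot.1 (h1.le (mem_map_of_mem _ hq))
  have hAB : A ≤ B0 := le_inf hA.1 fun a ha =>
    mem_centralizer_iff.2 fun z hz => (mem_centralizer_iff.1 hz.2 a (le_jGen hA ha)).symm
  have hρB : (T0.subgroupOf E).map ρ ≤ (B.subgroupOf E).map ρ := by
    rintro _ ⟨t, ht, rfl⟩
    have hts : (⟨(t : Γ), hT0X ht⟩ : ↥X) ∈ (S0 : Subgroup ↥X) := hS0 ▸ (ht : (t : Γ) ∈ T0)
    obtain ⟨q, hq, a, ha, hqa⟩ := hypX.exists_mul hZnc hA hAQ hts
    refine ⟨Subgroup.inclusion hXE a, hB0map.le ⟨a, hAB ha, rfl⟩, ?_⟩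
    rw [show t = Subgroup.inclusion hXE (⟨(t : Γ), hT0X ht⟩ : ↥X) from rfl, hqa, map_mul, map_mul, hρpX q hq, one_mul]
  -- the Baumann member
  set L := normalClosure (B0 : Set ↥X) with hL
  haveI hLn : L.Normal := normalClosure_normal
  have hLsyl : (S0 : Subgroup ↥X) ⊓ L = B0 := hypX.baumann_sylow hZnc
  set L1 := L.map X.subtype with hL1
  have hL1X : L1 ≤ X := map_subtype_le _
  have hBL1 : B ≤ L1 := hB0map.ge.trans (Subgroup.map_mono le_normalClosure)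
  have hL1M : ¬ L1 ≤ M := by
    intro hle
    have hLK : ¬ L ≤ K0 := by
      intro h
      refine hypX.sup_ne_top (eq_top_iff.2 fun x _ => ?_)
      have hT1 : ∀ t : ↥E, (t : Γ) ∈ T0 → π2 (ρ t) = 1 := fun t ht => by
        obtain ⟨b, hb, hbt⟩ := hρB (mem_map_of_mem ρ ht)
        obtain ⟨y, hy, hyb⟩ := hB0map.ge hb
        have hk := (MonoidHom.mem_ker (f := π2.comp (ρ.comp (Subgroup.inclusion hXE)))).1 (h (le_normalClosure hy))
        rw [← hbt, show b = Subgroup.inclusion hXE y from Subtype.ext hyb.symm]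
        exact hk
      let P2 : Sylow p (Matrix.ProjectiveSpecialLinearGroup (Fin 2) F) :=
        (Q.mapSurjective hρs).mapSurjective (f := π2) (QuotientGroup.mk'_surjective _)
      have hbot : (P2 : Subgroup (Matrix.ProjectiveSpecialLinearGroup (Fin 2) F)) = ⊥ := by
        rw [Sylow.coe_mapSurjective, Sylow.coe_mapSurjective, hQ, eq_bot_iff]
        rintro _ ⟨_, ⟨t, ht, rfl⟩, rfl⟩
        exact hT1 t ht
      have hc1 := (CfsgLib.LocalEven.RankOne.likeL2_psl (p := p) (F := F) blk.pos hF).card P2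
      rw [hbot, card_bot] at hc1
      exact absurd hc1 (Nat.one_lt_pow (by have := blk.pos; omega) hp.out.one_lt).ne
    have h1 := hypX.gen hLn hLK
    refine hXM fun x hx => ?_
    obtain ⟨l, hl, s, hs, hls⟩ := CfsgLib.Solvable.exists_mul_of_mem_sup (K := L) (A := (S0 : Subgroup ↥X))
      (by rw [normalizer_eq_top L]; exact le_top) (h1.ge (mem_top (⟨x, hx⟩ : ↥X)))
    rw [show x = ((⟨x, hx⟩ : ↥X) : Γ) from rfl, hls]
    exact mul_mem (hle ⟨l, hl, rfl⟩) (c.sylLe (hS0map.le ⟨s, hs, rfl⟩).1)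
  obtain ⟨Z, ⟨hBZ, hZL, hZM⟩, hZmin⟩ := Set.Finite.exists_minimal
    (s := {Z : Subgroup Γ | B ≤ Z ∧ Z ≤ L1 ∧ ¬ Z ≤ M}) (Set.toFinite _) ⟨L1, hBL1, le_rfl, hL1M⟩
  have hZX : Z ≤ X := hZL.trans hL1X
  have hZE : Z ≤ E := hZX.trans hXE
  have hBp : IsPGroup p B := T.2.to_le inf_le_left
  have hL1i : ¬ p ∣ B.relIndex L1 := by
    rw [hL1, ← hB0map, relIndex_map_map_of_injective _ _ X.subtype_injective, ← hLsyl]
    exact CfsgLib.LocalEven.ZJFusion.not_dvd_relIndex_inf (K := ⊤) S0.2 le_top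
      (by rw [relIndex_top_right]; exact S0.not_dvd_index) le_top (by rw [normalizer_eq_top L])
  have hBZi : ¬ p ∣ B.relIndex Z := fun hd => hL1i (hd.trans (Dvd.intro _ (relIndex_mul_relIndex _ _ _ hBZ hZL)))
  have hL1char : CfsgLib.LocalEven.HasCharP p ↥L1 :=
    CfsgLib.LocalEven.hasCharP_congr (L.equivMapOfInjective X.subtype X.subtype_injective) (hXchar.of_normal L)
  have hZchar : CfsgLib.LocalEven.HasCharP p ↥Z := by
    refine (CfsgLib.LocalEven.hasCharP_subgroupOf_iff hZL).1 (hL1char.of_pCore_le_normalizer ?_)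
    refine le_trans ?_ le_normalizer
    intro q hq
    let BQ : Sylow p ↥L1 := hBp.comap_subtype.toSylow hL1i
    exact hBZ ((IsPGroup.toSylow_coe _ _ : (BQ : Subgroup ↥L1) = _).le (CfsgLib.Cores.pCore_le_sylow BQ hq))
  have hZtop : (Z.subgroupOf E).map ρ = ⊤ :=
    hcover Z (hZX.trans hXY) hZM (hρB.trans (Subgroup.map_mono (Subgroup.comap_mono hBZ)))
  obtain ⟨SB, hSB, hypZ, hρZ, he3⟩ := mk Z B hZE hZM hBZ hBp inf_le_left hBZi hZchar hZtop
    fun H' h1 h2 h3 => le_antisymm h2 (hZmin ⟨h1, h2.trans hZL, h3⟩ h2)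
  have hSBmap : (SB : Subgroup ↥Z).map Z.subtype = B := by rw [hSB, map_subgroupOf_eq_of_le hBZ]
  -- the member over `B`
  have hmaxB : maxAdm 0 (T : Subgroup Γ) = maxAdm 0 B := by
    obtain ⟨A1, hA1⟩ := CfsgLib.PStab.maxAdm_nonempty 0 (T : Subgroup Γ)
    have hAB : ∀ A ∈ maxAdm 0 (T : Subgroup Γ), A ≤ B := fun A hA => le_inf hA.1 fun a ha =>
      mem_centralizer_iff.2 fun z hz => (mem_centralizer_iff.1 hz.2 a (le_jGen hA ha)).symm
    ext A'
    exact ⟨fun hA' => ⟨hAB A' hA', hA'.2.1, fun C hC hCa => hA'.2.2 C (hC.trans inf_le_left) hCa⟩,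
      fun hA' => CfsgLib.PStab.maxAdm_of_le inf_le_left hA1 (hAB A1 hA1) hA'⟩
  have hSBc : (SB : Subgroup ↥Z) ≤ centralizer (zjGen 0 (SB : Subgroup ↥Z) : Set ↥Z) := by
    intro x hx
    refine mem_centralizer_iff.2 fun z hz => Subtype.ext ?_
    have hz' : (z : Γ) ∈ zjGen 0 (T : Subgroup Γ) := by
      have h1 : (z : Γ) ∈ (zjGen 0 (SB : Subgroup ↥Z)).map Z.subtype := ⟨z, hz, rfl⟩
      rw [← CfsgLib.PStab.zjGen_map Z.subtype_injective, hSBmap] at h1
      rwa [zjGen, jGen, hmaxB]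
    exact mem_centralizer_iff.1 (hSBmap.le ⟨x, hx, rfl⟩).2 (z : Γ) hz'
  have hZBnc : ¬ zS SB ≤ center ↥Z := fun hle => hZM (hZcen Z SB (hSBmap.le.trans inf_le_left)
    ((le_inf inf_le_left fun z hz => mem_centralizer_iff.2 fun y hy =>
      mem_centralizer_iff.1 hz.2 y (CfsgLib.PStab.zjGen_le 0 _ hy)).trans hSBmap.ge) hle)
  -- the Frattini join is trivial
  let ε : ↥(SB : Subgroup ↥Z) ≃* ↥B :=
    ((SB : Subgroup ↥Z).equivMapOfInjective Z.subtype Z.subtype_injective).trans (MulEquiv.subgroupCongr hSBmap)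
  have hεFJ := CfsgLib.LocalEven.PairUp.map_frattiniJoin p ε
  have hFJ : frattiniOfMinimalCLJoin p ↥B = ⊥ := by
    by_contra hne
    have hn := (hypZ.frattini_join_normal hSBc).resolve_left fun hn => ?_
    · refine c.kNot (c.normal_of_normalized (WCtx.kOf_normalized c.zjCen_normalized hne) (X := Z) ?_ hZM)
      intro x hx
      refine CfsgLib.Fusion.mem_normalizer_of_forall ?_
      rw [kOf_eq_map hne]
      rintro _ ⟨y, hy, rfl⟩
      obtain ⟨y', hy', rfl⟩ := hεFJ.ge hy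
      obtain ⟨k, hk, hke⟩ := hn.conj_mem _ (mem_map_of_mem (SB : Subgroup ↥Z).subtype hy') ⟨x, hx⟩
      exact ⟨ε k, hεFJ.le ⟨k, hk, rfl⟩, congrArg Subtype.val hke⟩
    · haveI := hn
      obtain ⟨A', hA', hA'Q⟩ := hypZ.exists_outside hZBnc hSBc
      set Cz := centralizer (zS SB : Set ↥Z) with hCz
      have hSCz : (SB : Subgroup ↥Z) ≤ Cz := le_centralizer_iff.1 inf_le_right
      have htop := hypZ.gen (C := Cz) inferInstance fun hle =>
        hA'Q fun a ha => hypZ.inf_eq.le ⟨hA'.1 ha, hle (hSCz (hA'.1 ha))⟩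
      rw [sup_eq_left.2 hSCz] at htop
      exact hZBnc fun z hz => mem_center_iff.2 fun g =>
        (mem_centralizer_iff.1 (htop.ge (mem_top g)) z hz).symm
  -- abelian minimal centrally large subgroups
  have hFJZ : frattiniOfMinimalCLJoin p ↥(SB : Subgroup ↥Z) = ⊥ :=
    (Subgroup.map_eq_bot_iff_of_injective _ ε.injective).1 (hεFJ.trans hFJ)
  have hall := (CfsgLib.LocalEven.RankOne.elementary_of_frattiniJoin hFJZ).1
  have hmes : ∀ R0 ≤ (SB : Subgroup ↥Z), ∀ A0 ∈ maxAdm 0 (SB : Subgroup ↥Z),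
      Nat.card R0 * Nat.card (CfsgLib.LocalEven.RankOne.czOf R0) ≤ Nat.card A0 * Nat.card A0 := by
    intro R0 hR0 A0 hA0
    set T1 := A0.subgroupOf (SB : Subgroup ↥Z) with hT1
    have hT1ab : IsMulCommutative ↥T1 := ⟨⟨fun a b => Subtype.ext (Subtype.ext
      (CfsgLib.PStab.adm_comm hA0.2.1 (a.2 : _) (b.2 : _)))⟩⟩
    have hT1c : Nat.card T1 = Nat.card A0 := Nat.card_congr (subgroupOfEquivOfLe hA0.1).toEquiv
    have hmem : T1 ∈ maxAbelianSubgroups ↥(SB : Subgroup ↥Z) := ⟨hT1ab, fun W hW => by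
      rw [hT1c, ← card_map_of_injective (SB : Subgroup ↥Z).subtype_injective]
      refine hA0.2.2 _ (map_subtype_le W) ⟨⟨⟨?_⟩⟩, fun a _ => pow_zero a⟩
      rintro ⟨_, a, ha, rfl⟩ ⟨_, b, hb, rfl⟩
      exact Subtype.ext (by
        show (SB : Subgroup ↥Z).subtype a * (SB : Subgroup ↥Z).subtype b = _
        rw [← map_mul]
        exact congrArg (SB : Subgroup ↥Z).subtype (congrArg Subtype.val (hW.1.comm (⟨a, ha⟩ : ↥W) ⟨b, hb⟩)))⟩
    have hCL := ((hall T1).2 hmem).1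
    have h1 := CfsgLib.LocalEven.RankOne.measure_le (R0.subgroupOf (SB : Subgroup ↥Z))
    rw [← hCL, center_eq_top_iff.2 hT1ab, Nat.card_congr Subgroup.topEquiv.toEquiv, hT1c,
      ← (CfsgLib.LocalEven.RankOne.card_inG _).1, ← (CfsgLib.LocalEven.RankOne.card_inG _).2,
      CfsgLib.LocalEven.RankOne.inG_subgroupOf hR0] at h1
    exact h1
  obtain ⟨D, G2, hDK, hDco, hG2, hfixer⟩ := exists_fixer c.hp2 hypZ hZBnc hSBc F hF he3 hmes
  -- the elements of `D`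
  set U' := U.subgroupOf Z with hU'
  set R' := R.subgroupOf Z with hR'
  have hU'Q : U' ≤ pCore p ↥Z :=
    CfsgLib.Cores.le_pCore ((CfsgLib.Cores.isPGroup_pCore p).to_le hUP).comap_subtype
  have hDU : ∀ d ∈ D, ∀ u ∈ U', ⁅d, u⁆ ∈ R' := by
    intro d hd u hu
    have hdo : (orderOf (d : Γ)).Coprime p := by
      rw [Subgroup.orderOf_coe]
      exact hDco.coprime_dvd_left (Subgroup.orderOf_dvd_natCard D hd)
    have hdE0 : (d : Γ) ∈ E0 := hcop _ (hXY (hZX d.2)) hdo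
    have hdc : ρ (Subgroup.inclusion hZE d) ∈ center (Matrix.SpecialLinearGroup (Fin 2) F) :=
      (QuotientGroup.eq_one_iff _).1 ((MonoidHom.mem_ker.1 (hDK hd)) : π2 (ρ (Subgroup.inclusion hZE d)) = 1)
    obtain ⟨N, hN, hNM, hdN⟩ := blk.central (Subgroup.inclusion hZE d) hdE0 hdc
    exact hUN N hN hNM _ hdN (u : Γ) hu
  -- a `p'`-element outside `M`
  obtain ⟨g0, hg0, hg0M⟩ : ∃ g : ↥Z, (orderOf g).Coprime p ∧ (g : Γ) ∉ M := by
    by_contra hall'
    push Not at hall'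
    have h1 : pResidual p ↥Z ⊔ (SB : Subgroup ↥Z) ≤ M.subgroupOf Z := sup_le
      ((closure_le _).2 fun x hx => hall' x hx) (hSB.le.trans fun b hb => c.sylLe hb.1)
    rw [CfsgLib.Transfer.pResidual_sup_sylow] at h1
    exact hZM (subgroupOf_eq_top.1 (top_unique h1))
  set πQ := QuotientGroup.mk' (pCore p ↥Z) with hπQ
  obtain ⟨g1, hg1, q, hq, hgq⟩ : ∃ g1 ∈ G2, ∃ q ∈ pCore p ↥Z, g0 = q * g1 := by
    obtain ⟨q, hq, g1, hg1, e⟩ := CfsgLib.Solvable.exists_mul_of_mem_sup (K := pCore p ↥Z) (A := G2)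
      (by rw [normalizer_eq_top (pCore p ↥Z)]; exact le_top) ((sup_comm _ _).trans hG2 |>.ge (mem_top g0))
    exact ⟨g1, hg1, q, hq, e⟩
  have hπg : πQ g0 = πQ g1 := by
    rw [hgq, map_mul, show πQ q = 1 from (QuotientGroup.eq_one_iff q).2 hq, one_mul]
  obtain ⟨j, hj, hjo⟩ := CfsgLib.LocalEven.Offender.exists_coprime_lift (p := p) πQ g1
    (hπg ▸ hg0.coprime_dvd_left (orderOf_map_dvd πQ g0))
  set g := g1 ^ j with hgdef
  have hgG2 : g ∈ G2 := pow_mem hg1 j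
  have hgM : (g : Γ) ∉ M := by
    intro hgM
    refine hg0M ?_
    have h1 : g⁻¹ * g0 ∈ pCore p ↥Z := (QuotientGroup.eq_one_iff _).1 (by
      show πQ (g⁻¹ * g0) = 1
      rw [map_mul, map_inv, hj, ← hπg, inv_mul_cancel])
    have h2 : ((g⁻¹ * g0 : ↥Z) : Γ) ∈ M :=
      c.sylLe (hSBmap.le ⟨_, CfsgLib.Cores.pCore_le_sylow SB h1, rfl⟩).1
    have h3 := mul_mem hgM h2
    simpa using h3
  haveI : R'.Normal := (inferInstance : R.Normal).comap _
  have hR'p : IsPGroup p R' := (CfsgLib.Cores.isPGroup_pCore p).to_le ((Subgroup.comap_mono hRU).trans hU'Q)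
  have hfix : ∀ u ∈ U', ⁅g, u⁆ ∈ R' := by
    intro u hu
    haveI : Group.IsNilpotent ↥R' := hR'p.isNilpotent
    obtain ⟨r, hr, hru⟩ := CfsgLib.Solvable.exists_mul_mem_centralizer D R'
      (by rw [normalizer_eq_top R']; exact le_top) (by
        obtain ⟨k, hk⟩ := IsPGroup.iff_card.1 hR'p
        rw [hk]
        exact Nat.Coprime.pow_right k hDco) (Or.inr inferInstance) u (fun d hd => hDU d hd u hu)
    have h1 := hfixer g hgG2 hjo (r * u) (mul_mem ((Subgroup.comap_mono hRU).trans hU'Q hr) (hU'Q hu))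
      fun d hd => mem_centralizer_iff.1 hru d hd
    have h2 : ⁅g, u⁆ = ⁅g, r⁻¹⁆ * (r⁻¹ * ⁅g, r * u⁆ * r) := by
      simp only [commutatorElement_def]; group
    rw [h2, commutatorElement_eq_one_iff_mul_comm.2 h1, mul_one, inv_mul_cancel, mul_one]
    rw [commutatorElement_def]
    exact mul_mem ((inferInstance : R'.Normal).conj_mem _ (inv_mem hr) g) (inv_mem (inv_mem hr))
  refine ⟨g, hgM, fun x hx => ?_⟩
  have hy : ⁅(g : Γ), x⁆ ∈ U := by
    rw [commutatorElement_def]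
    exact mul_mem ((inferInstance : U.Normal).conj_mem x hx g) (inv_mem hx)
  have hxX : x ∈ X := hT0X (hPT0 (hUP hx))
  obtain ⟨gX, hgX, hgXe⟩ := hZL g.2
  have hyL : ⁅(g : Γ), x⁆ ∈ L1 := by
    refine ⟨⁅gX, (⟨x, hxX⟩ : ↥X)⁆, ?_, by rw [map_commutatorElement, hgXe]; rfl⟩
    rw [show ⁅gX, (⟨x, hxX⟩ : ↥X)⁆ = gX * ((⟨x, hxX⟩ : ↥X) * gX⁻¹ * (⟨x, hxX⟩ : ↥X)⁻¹) by
      rw [commutatorElement_def]; group]
    exact mul_mem hgX (hLn.conj_mem _ (inv_mem hgX) _)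
  have hyB : ⁅(g : Γ), x⁆ ∈ B := by
    obtain ⟨y1, hy1, he⟩ := hyL
    rw [← he] at hy ⊢
    exact hB0map.le ⟨y1, hLsyl.le ⟨hS0 ▸ (hPT0 (hUP hy) : (y1 : Γ) ∈ T0), hy1⟩, rfl⟩
  exact mem_of_commutator_chain ((CfsgLib.Cores.isPGroup_pCore p).to_le hUP)
    (by rwa [Subgroup.orderOf_coe]) hy (hfix ⟨_, hBZ hyB⟩ hy)

end CfsgLib.Techniques.CharTransfer
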